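import Mathlib
import Groth.Agent.H19.QuasiRegCot
import Groth.Agent.H19.QuasiRegReg
import Groth.Agent.H14.RegQuotBot
import Groth.Prelude.Def_CInt

/-!
# Sub-ideals of regular ideals in Noetherian local rings

If `K` is generated by a regular sequence, `J ⊆ K` and `K/J` is generated by a regular sequence
of `A/J`, then `J` is generated by a regular sequence.
-/

set_option autoImplicit false

namespace Groth.Agent.H94.RegIdealSub

open Groth.Agent.H19.QReg Groth.Agent.H19.QRegGen Groth.Agent.H19.QRegCot MvPolynomial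
open RingTheory.Sequence IsLocalRing

universe u

section QRLemma

variable {A : Type u} [CommRing A] [IsLocalRing A]

/-- For a quasi-regular family generating `K ⊆ 𝔪`: a relation `Σ a_i f_i ∈ 𝔪 K` forces `a_i ∈ 𝔪`. -/
theorem mem_maximalIdeal_of_sum_mem {n : ℕ} (f : Fin n → A) (hq : QR f)
    (hK : Ideal.span (Set.range f) ≤ IsLocalRing.maximalIdeal A) (a : Fin n → A)
    (h : ∑ i, a i * f i ∈ IsLocalRing.maximalIdeal A * Ideal.span (Set.range f)) :
    ∀ i, a i ∈ IsLocalRing.maximalIdeal A := by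
  classical
  rw [← smul_eq_mul, Submodule.mem_ideal_smul_span_iff_exists_sum] at h
  obtain ⟨b, hb, hsum⟩ := h
  rw [Finsupp.sum_fintype _ _ (fun i => by simp)] at hsum
  -- Σ (a_i - b_i) f_i = 0
  have h0 : eval f (linv (fun i => a i - b i)) = 0 := by
    rw [eval_linv]
    simp only [sub_mul, Finset.sum_sub_distrib, smul_eq_mul] at hsum ⊢
    rw [hsum, sub_self]
  have hco := hq 1 (linv (fun i => a i - b i)) (linv_isHomogeneous _) (by rw [h0]; exact zero_mem _)
  intro i
  have h1 : a i - b i ∈ J f := by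
    have := hco (Finsupp.single i 1)
    rwa [coeff_linv] at this
  have h2 : a i = (a i - b i) + b i := by ring
  rw [h2]
  exact add_mem (hK h1) (hb i)

end QRLemma

section VSpace

variable {A : Type u} [CommRing A] [IsLocalRing A] (K : Ideal A)

/-- `K / 𝔪 K` as a vector space over `A / 𝔪`. -/
abbrev V : Type u := ↥K ⧸ (IsLocalRing.maximalIdeal A • ⊤ : Submodule A ↥K)

/-- the quotient map `K → K/𝔪K` -/
def vmk : ↥K →ₗ[A] V K := Submodule.mkQ _

lemma vmk_surjective : Function.Surjective (vmk K) := Submodule.mkQ_surjective _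

lemma vmk_eq_zero_iff (x : ↥K) :
    vmk K x = 0 ↔ (x : A) ∈ IsLocalRing.maximalIdeal A * K := by
  rw [vmk, Submodule.mkQ_apply, Submodule.Quotient.mk_eq_zero, Submodule.mem_smul_top_iff,
    smul_eq_mul]

lemma mk_smul_vmk (a : A) (x : ↥K) :
    (Ideal.Quotient.mk (IsLocalRing.maximalIdeal A) a) • vmk K x = vmk K (a • x) := rfl

lemma sum_mk_smul_vmk {n : ℕ} (a : Fin n → A) (x : Fin n → ↥K) :
    ∑ i, (Ideal.Quotient.mk (IsLocalRing.maximalIdeal A) (a i)) • vmk K (x i) =
      vmk K (∑ i, a i • x i) := by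
  rw [map_sum]
  exact Finset.sum_congr rfl fun i _ => mk_smul_vmk K (a i) (x i)

/-- linear independence criterion in `K/𝔪K` -/
theorem linearIndependent_vmk {n : ℕ} (x : Fin n → ↥K)
    (h : ∀ a : Fin n → A, ∑ i, a i * (x i : A) ∈ IsLocalRing.maximalIdeal A * K →
      ∀ i, a i ∈ IsLocalRing.maximalIdeal A) :
    LinearIndependent (A ⧸ IsLocalRing.maximalIdeal A) (fun i => vmk K (x i)) := by
  rw [Fintype.linearIndependent_iff]
  intro c hc i
  choose a ha using fun i => Ideal.Quotient.mk_surjective (c i)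
  have h1 : ∑ i, c i • vmk K (x i) = vmk K (∑ i, a i • x i) := by
    rw [← sum_mk_smul_vmk]
    exact Finset.sum_congr rfl fun i _ => by rw [ha]
  rw [h1, vmk_eq_zero_iff, coe_sum_smul] at hc
  rw [← ha i, Ideal.Quotient.eq_zero_iff_mem]
  exact h a hc i

/-- spanning criterion in `K/𝔪K` -/
theorem span_vmk_eq_top {n : ℕ} (x : Fin n → ↥K)
    (h : Ideal.span (Set.range fun i => (x i : A)) = K) :
    Submodule.span (A ⧸ IsLocalRing.maximalIdeal A) (Set.range fun i => vmk K (x i)) = ⊤ := by
  rw [eq_top_iff]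
  rintro v -
  obtain ⟨y, rfl⟩ := vmk_surjective K v
  have hy : (y : A) ∈ Ideal.span (Set.range fun i => (x i : A)) := by rw [h]; exact y.2
  obtain ⟨a, ha⟩ := Ideal.mem_span_range_iff_exists_fun.mp hy
  have h1 : y = ∑ i, a i • x i := by
    apply Subtype.ext
    rw [coe_sum_smul, ← ha]
  rw [h1, ← sum_mk_smul_vmk]
  exact Submodule.sum_mem _ fun i _ =>
    Submodule.smul_mem _ _ (Submodule.subset_span ⟨i, rfl⟩)

section Construct

variable [IsNoetherianRing A]

open IsLocalRing in
theorem exists_family (J : Ideal A) (hJK : J ≤ K)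
    (r s : ℕ) (hr : Module.finrank (A ⧸ maximalIdeal A) (V K) = r)
    (g : Fin s → A) (hgK : ∀ j, g j ∈ K)
    (hli : LinearIndependent (A ⧸ maximalIdeal A) (fun j => vmk K ⟨g j, hgK j⟩))
    (hsup : K ≤ J ⊔ Ideal.span (Set.range g)) :
    ∃ (t : ℕ) (z : Fin t → A), (∀ i, z i ∈ J) ∧ t + s = r ∧
      Ideal.span (Set.range (Fin.append z g)) = K := by
  classical
  let _ : Field (A ⧸ maximalIdeal A) := Ideal.Quotient.field (maximalIdeal A)
  have : Module.Finite A ↥K := Module.Finite.of_fg (IsNoetherian.noetherian K)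
  have : Module.Finite A (V K) := Module.Finite.of_surjective (vmk K) (vmk_surjective K)
  have : Module.Finite (A ⧸ maximalIdeal A) (V K) :=
    Module.Finite.of_restrictScalars_finite A (A ⧸ maximalIdeal A) (V K)
  set W' : Submodule (A ⧸ maximalIdeal A) (V K) :=
    Submodule.span (A ⧸ maximalIdeal A) (Set.range fun j => vmk K ⟨g j, hgK j⟩) with hW'
  have hW'rank : Module.finrank (A ⧸ maximalIdeal A) W' = s := by
    rw [hW', finrank_span_eq_card hli, Fintype.card_fin]
  have hQrank := Submodule.finrank_quotient_add_finrank W'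
  rw [hW'rank, hr] at hQrank
  -- the map J → Q
  let ψ : ↥J →ₗ[A] (V K ⧸ W') :=
    (W'.mkQ.restrictScalars A) ∘ₗ (vmk K) ∘ₗ (Submodule.inclusion hJK)
  have hψ : Function.Surjective ψ := by
    intro q
    obtain ⟨v, rfl⟩ := Submodule.mkQ_surjective W' q
    obtain ⟨x, rfl⟩ := vmk_surjective K v
    obtain ⟨j, hj, y, hy, hxy⟩ := Submodule.mem_sup.mp (hsup x.2)
    refine ⟨⟨j, hj⟩, ?_⟩
    obtain ⟨b, hb⟩ := Ideal.mem_span_range_iff_exists_fun.mp hy
    have hx : x = Submodule.inclusion hJK ⟨j, hj⟩ + ∑ i, b i • (⟨g i, hgK i⟩ : ↥K) := by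
      apply Subtype.ext
      rw [Submodule.coe_add, coe_sum_smul, ← hxy, ← hb]
      rfl
    show W'.mkQ (vmk K (Submodule.inclusion hJK ⟨j, hj⟩)) = W'.mkQ (vmk K x)
    rw [hx, map_add, map_add, ← sum_mk_smul_vmk]
    have : W'.mkQ (∑ i, (Ideal.Quotient.mk (maximalIdeal A) (b i)) • vmk K ⟨g i, hgK i⟩) = 0 := by
      rw [Submodule.mkQ_apply, Submodule.Quotient.mk_eq_zero]
      exact Submodule.sum_mem _ fun i _ =>
        Submodule.smul_mem _ _ (Submodule.subset_span ⟨i, rfl⟩)
    rw [this, add_zero]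
  let bQ := Module.finBasis (A ⧸ maximalIdeal A) (V K ⧸ W')
  choose z hz using fun i => hψ (bQ i)
  refine ⟨Module.finrank (A ⧸ maximalIdeal A) (V K ⧸ W'), fun i => (z i : A), fun i => (z i).2,
    hQrank, ?_⟩
  apply le_antisymm
  · rw [Ideal.span_le]
    rintro _ ⟨i, rfl⟩
    induction i using Fin.addCases with
    | left i => rw [Fin.append_left]; exact hJK (z i).2
    | right j => rw [Fin.append_right]; exact hgK j
  · have hjac : maximalIdeal A ≤ Ideal.jacobson ⊥ :=
      (IsLocalRing.jacobson_eq_maximalIdeal _ bot_ne_top).ge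
    refine Submodule.le_of_le_smul_of_le_jacobson_bot (IsNoetherian.noetherian K) hjac ?_
    intro x hx
    -- decompose
    have h1 : W'.mkQ (vmk K ⟨x, hx⟩) = ∑ i, bQ.repr (W'.mkQ (vmk K ⟨x, hx⟩)) i • bQ i :=
      (bQ.sum_repr _).symm
    choose a ha using fun i => Ideal.Quotient.mk_surjective (bQ.repr (W'.mkQ (vmk K ⟨x, hx⟩)) i)
    have h2 : W'.mkQ (vmk K ⟨x, hx⟩) =
        W'.mkQ (vmk K (∑ i, a i • Submodule.inclusion hJK (z i))) := by
      rw [h1, ← sum_mk_smul_vmk, map_sum]
      refine Finset.sum_congr rfl fun i _ => ?_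
      rw [map_smul, ha, ← hz i]
      rfl
    have h3 : vmk K (⟨x, hx⟩ - ∑ i, a i • Submodule.inclusion hJK (z i)) ∈ W' := by
      rw [← Submodule.Quotient.mk_eq_zero, ← Submodule.mkQ_apply, map_sub, map_sub, h2, sub_self]
    obtain ⟨d, hd⟩ := (Submodule.mem_span_range_iff_exists_fun _).mp h3
    choose b hb using fun j => Ideal.Quotient.mk_surjective (d j)
    have h4 : vmk K (⟨x, hx⟩ - ∑ i, a i • Submodule.inclusion hJK (z i) -
        ∑ j, b j • (⟨g j, hgK j⟩ : ↥K)) = 0 := by
      rw [map_sub, ← hd, ← sum_mk_smul_vmk, sub_eq_zero]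
      exact Finset.sum_congr rfl fun j _ => by rw [hb]
    rw [vmk_eq_zero_iff] at h4
    have h5 : x = (∑ i, a i * (z i : A) + ∑ j, b j * g j) +
        (x - ∑ i, a i * (z i : A) - ∑ j, b j * g j) := by ring
    rw [h5]
    refine Submodule.add_mem_sup (add_mem ?_ ?_) ?_
    · refine Ideal.sum_mem _ fun i _ => Ideal.mul_mem_left _ _ (Ideal.subset_span ⟨Fin.castAdd s i, ?_⟩)
      simp [Fin.append_left]
    · refine Ideal.sum_mem _ fun j _ => Ideal.mul_mem_left _ _ (Ideal.subset_span ⟨Fin.natAdd _ j, ?_⟩)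
      simp [Fin.append_right]
    · rw [smul_eq_mul]
      convert h4 using 1
      rw [Submodule.coe_sub, Submodule.coe_sub, coe_sum_smul, coe_sum_smul]
      rfl

end Construct

end VSpace


section Main

variable {A : Type u} [CommRing A] [IsLocalRing A] [IsNoetherianRing A]

/-- any generating list of the right length of an ideal generated by a regular sequence is a
(weakly) regular sequence -/
theorem isWeaklyRegular_of_ofList_eq (fs : List A) (hfs : IsWeaklyRegular A fs)
    {n : ℕ} (w : Fin n → A) (hn : fs.length = n)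
    (hw : Ideal.span (Set.range w) = Ideal.ofList fs)
    (hm : ∀ i, w i ∈ maximalIdeal A) : IsWeaklyRegular A (List.ofFn w) := by
  subst hn
  have hff : List.ofFn fs.get = fs := List.ofFn_get fs
  have hq : QR fs.get := isQuasiRegular_of_isWeaklyRegular fs.get (by rw [hff]; exact hfs)
  have hspan : Ideal.span (Set.range fs.get) = Ideal.ofList fs := by
    have := ofList_ofFn fs.get
    rw [hff] at this
    exact this.symm
  have hq' : QR w := qr_of_span_eq fs.get w hq (by rw [hw, hspan])
  refine isWeaklyRegular_of_qr _ A w (fun i => ?_) hq'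
  rw [IsLocalRing.ringJacobson_eq_maximalIdeal]
  exact hm i

omit [IsNoetherianRing A] in
/-- `finrank (K/𝔪K) = r` for an ideal generated by a regular sequence of length `r`. -/
theorem finrank_V_eq (K : Ideal A) (hK : K ≤ maximalIdeal A) (fs : List A)
    (hfs : IsWeaklyRegular A fs) (hfsK : Ideal.ofList fs = K) :
    Module.finrank (A ⧸ maximalIdeal A) (V K) = fs.length := by
  have hff : List.ofFn fs.get = fs := List.ofFn_get fs
  have hq : QR fs.get := isQuasiRegular_of_isWeaklyRegular fs.get (by rw [hff]; exact hfs)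
  have hspan : Ideal.span (Set.range fs.get) = K := by
    have := ofList_ofFn fs.get
    rw [hff] at this
    rw [← hfsK]; exact this.symm
  have hmem : ∀ i, fs.get i ∈ K := fun i => by
    rw [← hspan]; exact Ideal.subset_span ⟨i, rfl⟩
  let x : Fin fs.length → ↥K := fun i => ⟨fs.get i, hmem i⟩
  have hli : LinearIndependent (A ⧸ maximalIdeal A) (fun i => vmk K (x i)) := by
    apply linearIndependent_vmk
    intro a ha
    refine mem_maximalIdeal_of_sum_mem fs.get hq (by rw [hspan]; exact hK) a ?_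
    rw [hspan]; exact ha
  have hsp := span_vmk_eq_top K x hspan
  have := Module.finrank_eq_card_basis (Module.Basis.mk hli hsp.ge)
  rw [this, Fintype.card_fin]

/-- **Main theorem.** -/
theorem isRegularIdeal_sub (J K : Ideal A) (hJK : J ≤ K) (hK : K ≤ maximalIdeal A)
    (hKreg : CInt.IsRegularIdeal K) (hKJ : CInt.IsRegularIdeal (K.map (Ideal.Quotient.mk J))) :
    CInt.IsRegularIdeal J := by
  classical
  obtain ⟨fs, hfs, hfsK⟩ := hKreg
  obtain ⟨rs', hrs', hrs'K⟩ := hKJ
  have hJtop : J ≠ ⊤ := fun h => (maximalIdeal.isMaximal A).ne_top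
    (top_le_iff.mp (h ▸ hJK.trans hK))
  have : Nontrivial (A ⧸ J) := Ideal.Quotient.nontrivial_iff.mpr hJtop
  have hloc : IsLocalRing (A ⧸ J) :=
    IsLocalRing.of_surjective' (Ideal.Quotient.mk J) Ideal.Quotient.mk_surjective
  have hlh : IsLocalHom (Ideal.Quotient.mk J) :=
    IsLocalHom.of_surjective (Ideal.Quotient.mk J) Ideal.Quotient.mk_surjective
  have hr := finrank_V_eq K hK fs hfs.toIsWeaklyRegular hfsK
  -- lifts of the regular sequence of `A/J`
  let gbar : Fin rs'.length → A ⧸ J := rs'.get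
  have hgg : List.ofFn gbar = rs' := List.ofFn_get rs'
  have hqbar : QR gbar :=
    isQuasiRegular_of_isWeaklyRegular gbar (by rw [hgg]; exact hrs'.toIsWeaklyRegular)
  have hspanbar : Ideal.span (Set.range gbar) = K.map (Ideal.Quotient.mk J) := by
    have := ofList_ofFn gbar
    rw [hgg] at this
    rw [← hrs'K]; exact this.symm
  let g : Fin rs'.length → A := fun j => Function.surjInv Ideal.Quotient.mk_surjective (gbar j)
  have hg : ∀ j, Ideal.Quotient.mk J (g j) = gbar j := fun j => Function.surjInv_eq _ _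
  have hcomap : ∀ I : Ideal A, (I.map (Ideal.Quotient.mk J)).comap (Ideal.Quotient.mk J) = I ⊔ J := by
    intro I
    rw [Ideal.comap_map_of_surjective _ Ideal.Quotient.mk_surjective, ← RingHom.ker_eq_comap_bot,
      Ideal.mk_ker]
  have hKJ' : K ⊔ J = K := sup_eq_left.mpr hJK
  have hgK : ∀ j, g j ∈ K := by
    intro j
    have h1 : Ideal.Quotient.mk J (g j) ∈ K.map (Ideal.Quotient.mk J) := by
      rw [hg, ← hspanbar]; exact Ideal.subset_span ⟨j, rfl⟩
    have h2 : g j ∈ (K.map (Ideal.Quotient.mk J)).comap (Ideal.Quotient.mk J) := h1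
    rwa [hcomap, hKJ'] at h2
  have hmapspan : (Ideal.span (Set.range g)).map (Ideal.Quotient.mk J) = Ideal.span (Set.range gbar) := by
    rw [Ideal.map_span, ← Set.range_comp]
    congr 2
    funext j
    exact hg j
  have hsup : K ≤ J ⊔ Ideal.span (Set.range g) := by
    have h1 := congrArg (Ideal.comap (Ideal.Quotient.mk J)) (hmapspan.trans hspanbar)
    rw [hcomap, hcomap, hKJ'] at h1
    rw [← h1, sup_comm]
  -- linear independence of the lifts in `K/𝔪K`
  have hli : LinearIndependent (A ⧸ maximalIdeal A) (fun j => vmk K ⟨g j, hgK j⟩) := by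
    apply linearIndependent_vmk
    intro a ha j
    have hKbar : Ideal.span (Set.range gbar) ≤ maximalIdeal (A ⧸ J) := by
      rw [hspanbar, Ideal.map_le_iff_le_comap]
      intro x hx
      have hx' := hK hx
      rw [Ideal.mem_comap, mem_maximalIdeal, mem_nonunits_iff] at *
      intro hu
      exact hx' (isUnit_of_map_unit (Ideal.Quotient.mk J) x hu)
    have hmap : ∑ i, Ideal.Quotient.mk J (a i) * gbar i ∈
        maximalIdeal (A ⧸ J) * Ideal.span (Set.range gbar) := by
      have h1 := Ideal.mem_map_of_mem (Ideal.Quotient.mk J) ha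
      rw [map_sum, Ideal.map_mul] at h1
      simp only [map_mul, hg] at h1
      refine Ideal.mul_mono ?_ ?_ h1
      · rw [Ideal.map_le_iff_le_comap]
        intro x hx
        rw [Ideal.mem_comap, mem_maximalIdeal, mem_nonunits_iff] at *
        intro hu
        exact hx (isUnit_of_map_unit (Ideal.Quotient.mk J) x hu)
      · rw [hspanbar]
    have h2 := mem_maximalIdeal_of_sum_mem gbar hqbar hKbar (fun i => Ideal.Quotient.mk J (a i)) hmap j
    rw [mem_maximalIdeal, mem_nonunits_iff] at h2 ⊢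
    intro hu
    exact h2 (hu.map _)
  obtain ⟨t, z, hzJ, hts, hspan⟩ := exists_family K J hJK fs.length rs'.length hr g hgK hli hsup
  -- the new generating family is a regular sequence
  have hwreg : IsWeaklyRegular A (List.ofFn z ++ List.ofFn g) := by
    rw [← List.ofFn_fin_append, List.ofFn_congr hts]
    refine isWeaklyRegular_of_ofList_eq fs hfs.toIsWeaklyRegular _ rfl ?_ ?_
    · rw [hfsK, ← hspan]
      congr 1
      ext y
      constructor
      · rintro ⟨i, rfl⟩; exact ⟨_, rfl⟩
      · rintro ⟨i, rfl⟩; exact ⟨Fin.cast hts i, by simp⟩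
    · intro i
      apply hK
      rw [← hspan]
      exact Ideal.subset_span ⟨_, rfl⟩
  rw [isWeaklyRegular_append_iff] at hwreg
  obtain ⟨hz, hgz⟩ := hwreg
  set zs := List.ofFn z with hzs
  set gs := List.ofFn g with hgs
  have hzsJ : Ideal.ofList zs ≤ J := by
    rw [hzs, ofList_ofFn, Ideal.span_le]
    rintro _ ⟨i, rfl⟩
    exact hzJ i
  have hgsmem : ∀ y ∈ gs, y ∈ maximalIdeal A := by
    intro y hy
    rw [hgs, List.mem_ofFn] at hy
    obtain ⟨j, rfl⟩ := hy
    exact hK (hgK j)
  -- `J ≤ (zs)`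
  have hsm : (Ideal.ofList zs • ⊤ : Submodule A A) = Ideal.ofList zs := by
    rw [smul_eq_mul, Ideal.mul_top]
  have hM : IsWeaklyRegular (A ⧸ Ideal.ofList zs) gs :=
    ((Submodule.quotEquivOfEq _ _ hsm).isWeaklyRegular_congr gs).mp hgz
  have hgsJ : IsWeaklyRegular (A ⧸ J) gs := by
    have h1 := hrs'.toIsWeaklyRegular
    have h2 : gs.map (Ideal.Quotient.mk J) = rs' := by
      rw [hgs, List.map_ofFn]
      refine Eq.trans ?_ hgg
      congr 1
      funext j
      exact hg j
    rw [← h2] at h1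
    exact (isWeaklyRegular_map_algebraMap_iff (A ⧸ J) (A ⧸ J) gs).mp h1
  have hN := Groth.Agent.H14.eq_bot_of_isWeaklyRegular_quotient gs hgsmem (A ⧸ Ideal.ofList zs)
    (Submodule.map (Submodule.mkQ (Ideal.ofList zs)) J) hM ?_ ?_
  · have hJz : J ≤ Ideal.ofList zs := by
      intro x hx
      have h1 : Submodule.mkQ (Ideal.ofList zs) x ∈
          Submodule.map (Submodule.mkQ (Ideal.ofList zs)) J := Submodule.mem_map_of_mem hx
      rw [hN, Submodule.mem_bot, Submodule.mkQ_apply, Submodule.Quotient.mk_eq_zero] at h1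
      exact h1
    have hJeq : Ideal.ofList zs = J := le_antisymm hzsJ hJz
    refine ⟨zs, ⟨hz, ?_⟩, hJeq⟩
    rw [hJeq, smul_eq_mul, Ideal.mul_top]
    exact fun h => hJtop h.symm
  · -- `N ≤ (gs) M`
    rintro _ ⟨x, hx, rfl⟩
    have hxK : x ∈ Ideal.span (Set.range (Fin.append z g)) := by rw [hspan]; exact hJK hx
    have hle : Ideal.span (Set.range (Fin.append z g)) ≤ Ideal.ofList zs ⊔ Ideal.ofList gs := by
      rw [Ideal.span_le]
      rintro _ ⟨i, rfl⟩
      induction i using Fin.addCases with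
      | left i =>
        rw [Fin.append_left]
        refine Ideal.mem_sup_left ?_
        rw [hzs, ofList_ofFn]
        exact Ideal.subset_span ⟨i, rfl⟩
      | right j =>
        rw [Fin.append_right]
        refine Ideal.mem_sup_right ?_
        rw [hgs, ofList_ofFn]
        exact Ideal.subset_span ⟨j, rfl⟩
    obtain ⟨a, ha, b, hb, rfl⟩ := Submodule.mem_sup.mp (hle hxK)
    have h0 : Submodule.mkQ (Ideal.ofList zs) a = 0 := by
      rw [Submodule.mkQ_apply, Submodule.Quotient.mk_eq_zero]; exact ha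
    rw [map_add, h0, zero_add]
    have : Submodule.mkQ (Ideal.ofList zs) b = b • Submodule.mkQ (Ideal.ofList zs) (1 : A) := by
      rw [← map_smul, smul_eq_mul, mul_one]
    rw [this]
    exact Submodule.smul_mem_smul hb Submodule.mem_top
  · -- regular on `M/N ≅ A/J`
    exact ((Submodule.quotientQuotientEquivQuotient (Ideal.ofList zs) J hzsJ).isWeaklyRegular_congr
      gs).mpr hgsJ

end Main


end Groth.Agent.H94.RegIdealSub
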