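import Mathlib
import Groth.Prelude.Def_RegImm
import Groth.Agent.H39.RelRegAlg

/-!
# `H_1`-regular and quasi-regular sequences are preserved by flat ring maps

Both via the equational criterion of flatness.
-/

set_option autoImplicit false
set_option linter.style.haveILetI false
universe u

namespace Groth.Agent.H94.H1QuasiFlat

/-- `H_1`-regular families are preserved by flat ring maps. -/
theorem isH1Regular_map_of_flat {B S : Type u} [CommRing B] [CommRing S] (φ : B →+* S)
    (hφ : φ.Flat) {c : ℕ} (f : Fin c → B) (hf : CAlgX.IsH1Regular f) :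
    CAlgX.IsH1Regular (fun i => φ (f i)) := by
  letI := φ.toAlgebra
  haveI : Module.Flat B S := hφ
  have hsm : ∀ (b : B) (s : S), b • s = φ b * s := fun b s => by
    rw [Algebra.smul_def, RingHom.algebraMap_toAlgebra]
  intro a ha
  have h0 : ∑ i, f i • a i = 0 := by
    rw [← ha]
    refine Finset.sum_congr rfl fun i _ => ?_
    rw [hsm, mul_comm]
  obtain ⟨k, b, y, hab, hb⟩ :=
    Module.Flat.isTrivialRelation_of_sum_smul_eq_zero (R := B) (M := S) (f := f) (x := a) h0
  have key : ∀ j, (fun i => φ (b i j)) ∈ Submodule.span S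
      {v : Fin c → S | ∃ i j : Fin c, v = Pi.single i (φ (f j)) - Pi.single j (φ (f i))} := by
    intro j
    refine Groth.Agent.H39.RelRegAlg.map_mem_trivRel φ f _ (hf (fun i => b i j) ?_)
    rw [← hb j]
    exact Finset.sum_congr rfl fun i _ => mul_comm _ _
  have hEq : a = ∑ j, y j • (fun i => φ (b i j)) := by
    funext i
    rw [hab i, Finset.sum_apply]
    refine Finset.sum_congr rfl fun j _ => ?_
    rw [hsm, Pi.smul_apply, smul_eq_mul, mul_comm]
  rw [hEq]
  exact Submodule.sum_mem _ fun j _ => Submodule.smul_mem _ _ (key j)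

/-- Quasi-regular families are preserved by flat ring maps. -/
theorem isQuasiRegular_map_of_flat {B S : Type u} [CommRing B] [CommRing S] (φ : B →+* S)
    (hφ : φ.Flat) {c : ℕ} (f : Fin c → B) (hf : CAlgX.IsQuasiRegular f) :
    CAlgX.IsQuasiRegular (fun i => φ (f i)) := by
  classical
  letI := φ.toAlgebra
  haveI : Module.Flat B S := hφ
  have hsm : ∀ (b : B) (s : S), b • s = φ b * s := fun b s => by
    rw [Algebra.smul_def, RingHom.algebraMap_toAlgebra]
  intro n P hP hev e
  by_cases hedeg : e.degree = n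
  swap
  · rw [hP.coeff_eq_zero hedeg]
    exact Submodule.zero_mem _
  obtain ⟨Q, hQ, hQev⟩ := (Ideal.mem_span_pow_iff_exists_isHomogeneous _ _).mp hev
  set R := P - Q with hR
  have hRev : MvPolynomial.eval (fun i => φ (f i)) R = 0 := by
    rw [hR, map_sub, hQev, sub_self]
  have hRP : R.coeff e = P.coeff e := by
    rw [hR, MvPolynomial.coeff_sub, hQ.coeff_eq_zero (by omega), sub_zero]
  have hTdeg : ∀ d ∈ R.support, d.degree = n ∨ d.degree = n + 1 := by
    intro d hd
    by_contra hcon
    push Not at hcon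
    apply MvPolynomial.mem_support_iff.mp hd
    rw [hR, MvPolynomial.coeff_sub, hP.coeff_eq_zero hcon.1, hQ.coeff_eq_zero hcon.2, sub_zero]
  let m : (Fin c →₀ ℕ) → B := fun d => ∏ i ∈ d.support, f i ^ d i
  have hm : ∀ d, φ (m d) = ∏ i ∈ d.support, φ (f i) ^ d i := fun d => by
    simp only [m, map_prod, map_pow]
  have h0 : ∑ d : R.support, m d.1 • R.coeff d.1 = 0 := by
    rw [Finset.sum_coe_sort R.support (fun d => m d • R.coeff d)]
    refine Eq.trans ?_ hRev
    rw [MvPolynomial.eval_eq]
    refine Finset.sum_congr rfl fun d _ => ?_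
    rw [hsm, hm, mul_comm]
  have h1 := Module.Flat.isTrivialRelation_of_sum_smul_eq_zero (R := B) (M := S)
      (f := fun d : R.support => m d.1) (x := fun d : R.support => R.coeff d.1) h0
  obtain ⟨k, u, y, hu, hrel⟩ := h1
  beta_reduce at hu hrel
  let ũ : (Fin c →₀ ℕ) → Fin k → B := fun d j => if h : d ∈ R.support then u ⟨d, h⟩ j else 0
  have hũ : ∀ (d : R.support) j, ũ d.1 j = u d j := fun d j => by
    simp only [ũ, dif_pos d.2]
  have hrel' : ∀ j, ∑ d ∈ R.support, m d * ũ d j = 0 := by
    intro j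
    rw [← Finset.sum_coe_sort R.support (fun d => m d * ũ d j), ← hrel j]
    exact Finset.sum_congr rfl fun d _ => by rw [hũ]
  have hJ : ∀ j, ∀ d ∈ R.support, d.degree = n → ũ d j ∈ Ideal.span (Set.range f) := by
    intro j d hd hdn
    let T := R.support.filter (fun d => d.degree = n)
    let T' := R.support.filter (fun d => ¬ d.degree = n)
    let Pj : MvPolynomial (Fin c) B := ∑ d ∈ T, MvPolynomial.monomial d (ũ d j)
    let Qj : MvPolynomial (Fin c) B := ∑ d ∈ T', MvPolynomial.monomial d (-(ũ d j))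
    have hPj : Pj.IsHomogeneous n := MvPolynomial.IsHomogeneous.sum _ _ _ fun d hd =>
      MvPolynomial.isHomogeneous_monomial _ (Finset.mem_filter.mp hd).2
    have hQj : Qj.IsHomogeneous (n + 1) := MvPolynomial.IsHomogeneous.sum _ _ _ fun d hd =>
      MvPolynomial.isHomogeneous_monomial _
        ((hTdeg d (Finset.mem_filter.mp hd).1).resolve_left (Finset.mem_filter.mp hd).2)
    have hevP : MvPolynomial.eval f Pj = ∑ d ∈ T, m d * ũ d j := by
      simp only [Pj, map_sum, MvPolynomial.eval_monomial]
      refine Finset.sum_congr rfl fun d _ => ?_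
      rw [mul_comm]
      rfl
    have hevQ : MvPolynomial.eval f Qj = - ∑ d ∈ T', m d * ũ d j := by
      simp only [Qj, map_sum, MvPolynomial.eval_monomial, ← Finset.sum_neg_distrib]
      refine Finset.sum_congr rfl fun d _ => ?_
      rw [neg_mul, mul_comm]
      rfl
    have hPQ : MvPolynomial.eval f Pj = MvPolynomial.eval f Qj := by
      rw [hevP, hevQ, eq_neg_iff_add_eq_zero, Finset.sum_filter_add_sum_filter_not]
      exact hrel' j
    have hmem : MvPolynomial.eval f Pj ∈ Ideal.span (Set.range f) ^ (n + 1) :=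
      (Ideal.mem_span_pow_iff_exists_isHomogeneous f _).mpr ⟨Qj, hQj, hPQ.symm⟩
    have h3 := hf n Pj hPj hmem d
    have hc : Pj.coeff d = ũ d j := by
      simp only [Pj, MvPolynomial.coeff_sum, MvPolynomial.coeff_monomial]
      rw [Finset.sum_ite_eq' T d, if_pos (Finset.mem_filter.mpr ⟨hd, hdn⟩)]
    rwa [hc] at h3
  by_cases heT : e ∈ R.support
  · rw [← hRP, hu ⟨e, heT⟩]
    refine Submodule.sum_mem _ fun j _ => ?_
    rw [hsm]
    refine Ideal.mul_mem_right _ _ ?_
    have h4 := hJ j e heT hedeg
    rw [hũ ⟨e, heT⟩] at h4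
    have h5 := Ideal.mem_map_of_mem φ h4
    rw [Ideal.map_span, ← Set.range_comp] at h5
    exact h5
  · rw [← hRP, MvPolynomial.notMem_support_iff.mp heT]
    exact Submodule.zero_mem _

end Groth.Agent.H94.H1QuasiFlat
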