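import Mathlib
import Groth.Prelude.Def_RegImm
import Groth.Agent.H94.H1QuasiFlat
import Groth.Agent.H39.KoszulFlatBC

/-!
# Flat base change of regular immersions of any of the four kinds
-/

set_option autoImplicit false
set_option linter.style.haveILetI false
universe u

open AlgebraicGeometry CategoryTheory CategoryTheory.Limits

namespace Groth.Agent.H94.KindFlat

open Groth.Agent.H39.RelRegAlg Groth.Agent.H39.RelRegGeom

/-- Sequences of any of the four kinds are preserved by flat ring maps, provided the extended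
ideal stays proper (only needed for the kind `regular`). -/
theorem kindSeq_map_of_flat (k : RegImm.Kind) {B S : Type u} [CommRing B] [CommRing S]
    (φ : B →+* S) (hφ : φ.Flat) (rs : List B) (hrs : k.Seq B rs)
    (hne : Ideal.ofList (rs.map φ) ≠ ⊤) : k.Seq S (rs.map φ) := by
  cases k with
  | regular =>
    letI := φ.toAlgebra
    haveI : Module.Flat B S := hφ
    refine ⟨RingTheory.Sequence.IsWeaklyRegular.of_flat
      (RingTheory.Sequence.IsRegular.toIsWeaklyRegular hrs), ?_⟩
    rw [smul_eq_mul, Ideal.mul_top]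
    exact hne.symm
  | koszul => exact Groth.Agent.H39.KoszulFlatBC.isKoszulRegularSeq_map_of_flat φ hφ rs hrs
  | h1 =>
    exact isH1Regular_get_of_eq_ofFn _
      (Groth.Agent.H94.H1QuasiFlat.isH1Regular_map_of_flat φ hφ rs.get hrs) _ (map_eq_ofFn _ _)
  | quasi =>
    exact isQuasiRegular_get_of_eq_ofFn _
      (Groth.Agent.H94.H1QuasiFlat.isQuasiRegular_map_of_flat φ hφ rs.get hrs) _
      (map_eq_ofFn _ _)

/-- Flat base change of regular immersions of kind `k`, for an abstract pullback square. -/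
theorem isRegularImmersion_of_isPullback_flat (k : RegImm.Kind) {X Y X' Y' : Scheme.{u}}
    (i : Y ⟶ X) (g : X' ⟶ X) [Flat g] (i' : Y' ⟶ X') (g' : Y' ⟶ Y) (hsq : IsPullback g' i' i g)
    (hi : RegImm.IsRegularImmersion k i) : RegImm.IsRegularImmersion k i' := by
  obtain ⟨himm, hreg⟩ := hi
  haveI : IsImmersion i' := MorphismProperty.of_isPullback (P := @IsImmersion) hsq himm
  refine ⟨inferInstance, fun z' => ?_⟩
  obtain ⟨U, hzU, hcl, rs, hrs, hker⟩ := hreg (g' z')
  haveI := hcl
  have hgi : g (i' z') = i (g' z') := by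
    rw [← Scheme.Hom.comp_apply, ← Scheme.Hom.comp_apply, hsq.w]
  have hx' : i' z' ∈ g ⁻¹ᵁ U.1 := by
    change g (i' z') ∈ U.1
    rw [hgi]; exact hzU
  obtain ⟨_, ⟨U', hU', rfl⟩, hz'U', hU'U⟩ :=
    X'.isBasis_affineOpens.exists_subset_of_mem_open hx' (g ⁻¹ᵁ U.1).2
  have hcl' : IsClosedImmersion (i' ∣_ U') := isClosedImmersion_restrict_of_isPullback hsq hU'U
  have hker' := ker_app_of_isPullback hsq hU'U U.2 hU'
  have hflat : (g.appLE U.1 U' hU'U).hom.Flat :=
    HasRingHomProperty.appLE (P := @Flat) g inferInstance U ⟨U', hU'⟩ hU'U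
  have hkk : RingHom.ker (i'.app U').hom = Ideal.ofList (rs.map (g.appLE U.1 U' hU'U).hom) := by
    rw [hker', hker, Ideal.map_ofList]
  refine ⟨⟨U', hU'⟩, hz'U', hcl', rs.map (g.appLE U.1 U' hU'U).hom, ?_, hkk⟩
  refine kindSeq_map_of_flat k _ hflat rs hrs ?_
  rw [← hkk]
  intro htop
  haveI : Nontrivial Γ(Y', i' ⁻¹ᵁ U') :=
    @Scheme.component_nontrivial Y' (i' ⁻¹ᵁ U') ⟨⟨z', hz'U'⟩⟩
  have h1 : (1 : Γ(X', U')) ∈ RingHom.ker (i'.app U').hom := by rw [htop]; trivial
  rw [RingHom.mem_ker, map_one] at h1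
  exact one_ne_zero h1

end Groth.Agent.H94.KindFlat
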