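import Groth.Agent.H94.KoszulH1
import Groth.Agent.H11.H1Quasi
import Groth.Prelude.Def_RegImm

/-!
# Implications between the kinds of regular immersions (helper94)
-/

set_option autoImplicit false
universe u
open CategoryTheory AlgebraicGeometry

namespace Groth.Agent.H94.RegImmKinds

theorem seq_koszul_of_regular (R : Type u) [CommRing R] (rs : List R)
    (h : RegImm.Kind.regular.Seq R rs) : RegImm.Kind.koszul.Seq R rs := fun i hi =>
  Groth.Agent.H79.KoszulCone.isZero_homology_of_isWeaklyRegular rs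
    (RingTheory.Sequence.IsRegular.toIsWeaklyRegular h) i hi

theorem seq_h1_of_koszul (R : Type u) [CommRing R] (rs : List R)
    (h : RegImm.Kind.koszul.Seq R rs) : RegImm.Kind.h1.Seq R rs :=
  Groth.Agent.H94.KoszulH1.isH1Regular_of_isKoszulRegularSeq rs h

theorem seq_quasi_of_h1 (R : Type u) [CommRing R] (rs : List R)
    (h : RegImm.Kind.h1.Seq R rs) : RegImm.Kind.quasi.Seq R rs :=
  Groth.Agent.H11.H1Quasi.isQuasiRegular_of_isH1Regular rs.get h

theorem isRegularImmersion_mono {k k' : RegImm.Kind}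
    (hk : ∀ (R : Type u) [CommRing R] (rs : List R), k.Seq R rs → k'.Seq R rs)
    {Z X : Scheme.{u}} (i : Z ⟶ X) (h : RegImm.IsRegularImmersion k i) :
    RegImm.IsRegularImmersion k' i := by
  obtain ⟨him, h⟩ := h
  refine ⟨him, fun z => ?_⟩
  obtain ⟨U, hz, hcl, rs, hrs, hker⟩ := h z
  exact ⟨U, hz, hcl, rs, hk _ rs hrs, hker⟩

theorem koszul_of_regular {Z X : Scheme.{u}} (i : Z ⟶ X)
    (h : RegImm.IsRegularImmersion .regular i) : RegImm.IsRegularImmersion .koszul i :=
  isRegularImmersion_mono (fun R _ rs => seq_koszul_of_regular R rs) i h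

theorem h1_of_koszul {Z X : Scheme.{u}} (i : Z ⟶ X)
    (h : RegImm.IsRegularImmersion .koszul i) : RegImm.IsRegularImmersion .h1 i :=
  isRegularImmersion_mono (fun R _ rs => seq_h1_of_koszul R rs) i h

theorem quasi_of_h1 {Z X : Scheme.{u}} (i : Z ⟶ X)
    (h : RegImm.IsRegularImmersion .h1 i) : RegImm.IsRegularImmersion .quasi i :=
  isRegularImmersion_mono (fun R _ rs => seq_quasi_of_h1 R rs) i h

end Groth.Agent.H94.RegImmKinds
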