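import Groth.Agent.H79.KoszulRel
import Groth.Agent.H11.H1Reg
import Groth.Prelude.Def_LCI2

/-!
# Koszul-regular sequences are `H_1`-regular (helper94)

For the mapping-cone model `Koszul.koszul A l`: if `H^{-1}` vanishes then every relation among the
elements of `l` is a combination of the trivial relations.
-/

set_option autoImplicit false
universe u
open CategoryTheory CochainComplex HomComplex Limits Groth.Agent.H12.KoszulReg
open Groth.Agent.H79.KoszulCone Groth.Agent.H79.KoszulRel Groth.Agent.H11.H1Reg

namespace Groth.Agent.H94.KoszulH1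

variable {A : Type u} [CommRing A]

/-- `Fin.cons 0` as a linear map. -/
def consZero (n : ℕ) : (Fin n → A) →ₗ[A] (Fin (n + 1) → A) where
  toFun t := Fin.cons 0 t
  map_add' s t := by
    ext k
    refine Fin.cases ?_ (fun i => ?_) k <;> simp
  map_smul' c t := by
    ext k
    refine Fin.cases ?_ (fun i => ?_) k <;> simp

theorem consZero_single (n : ℕ) (i : Fin n) (c : A) :
    consZero n (Pi.single i c) = Pi.single i.succ c := by
  ext k
  refine Fin.cases ?_ (fun j => ?_) k
  · simp [consZero, Pi.single_apply, Fin.succ_ne_zero i |>.symm]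
  · simp [consZero, Pi.single_apply]

theorem consZero_mem_T (f : A) (fs : List A) (t : Fin fs.length → A) (ht : t ∈ T fs.get) :
    consZero fs.length t ∈ T (f :: fs).get := by
  have h1 : (T fs.get).map (consZero fs.length) ≤ T (f :: fs).get := by
    unfold T
    rw [Submodule.map_span, Submodule.span_le]
    rintro _ ⟨v, ⟨i, j, rfl⟩, rfl⟩
    apply Submodule.subset_span
    refine ⟨i.succ, j.succ, ?_⟩
    rw [map_sub, consZero_single, consZero_single]
    rfl
  exact h1 (Submodule.mem_map_of_mem ht)

theorem cons_mem_T (f : A) (fs : List A) (a : Fin fs.length → A) :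
    (Fin.cons (-∑ i, a i * fs.get i) (f • a) : Fin (fs.length + 1) → A) ∈ T (f :: fs).get := by
  have h1 : (Fin.cons (-∑ i, a i * fs.get i) (f • a) : Fin (fs.length + 1) → A) =
      ∑ i, a i • ((Pi.single i.succ f : Fin (fs.length + 1) → A) - Pi.single 0 (fs.get i)) := by
    ext k
    refine Fin.cases ?_ (fun j => ?_) k
    · simp [Finset.sum_apply, Pi.single_apply, Fin.succ_ne_zero]
    · simp [Finset.sum_apply, Pi.single_apply, Fin.succ_ne_zero, mul_comm,
        (Fin.succ_ne_zero _).symm]
  rw [h1]
  refine Submodule.sum_mem _ fun i _ => Submodule.smul_mem _ _ ?_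
  apply Submodule.subset_span
  exact ⟨i.succ, 0, rfl⟩

/-- Degree `0` is `A`, degree `-1` is `A^r`, the differential between them is `a ↦ Σ a_i l_i`, and
the boundaries in degree `-1` are combinations of trivial relations. -/
theorem exists_rel_equiv' : ∀ (l : List A),
    ∃ (ε : (Koszul.koszul A l).X 0 ≃ₗ[A] A)
      (η : (Koszul.koszul A l).X (-1) ≃ₗ[A] (Fin l.length → A)),
      (∀ k : (Koszul.koszul A l).X (-1),
        ε (((Koszul.koszul A l).d (-1) 0).hom k) = ∑ i, η k i * l.get i) ∧
      ∀ w : (Koszul.koszul A l).X (-2), η (((Koszul.koszul A l).d (-2) (-1)).hom w) ∈ T l.get := by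
  intro l
  induction l with
  | nil =>
    have e : (Koszul.koszul A []).X 0 ≅ ModuleCat.of A A :=
      HomologicalComplex.singleObjXSelf (ComplexShape.up ℤ) 0 (ModuleCat.of A A)
    have hsub : Subsingleton ((Koszul.koszul A []).X (-1)) :=
      ModuleCat.subsingleton_of_isZero (HomologicalComplex.isZero_single_obj_X
        (ComplexShape.up ℤ) 0 (ModuleCat.of A A) (-1) (by norm_num))
    have hemp : IsEmpty (Fin ([] : List A).length) := by
      rw [List.length_nil]; infer_instance
    refine ⟨e.toLinearEquiv, LinearEquiv.ofSubsingleton _ _, ?_, ?_⟩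
    · intro k
      have hk : k = 0 := Subsingleton.elim _ _
      rw [hk, map_zero, map_zero]
      exact (Finset.sum_of_isEmpty _).symm
    · intro w
      have : ((Koszul.koszul A []).d (-2) (-1)).hom w = 0 := Subsingleton.elim _ _
      rw [this, map_zero]
      exact Submodule.zero_mem _
  | cons f fs ih =>
    obtain ⟨ε, η, h, hT⟩ := ih
    let K := Koszul.koszul A fs
    let φ : K ⟶ K := f • 𝟙 K
    have hsub : Subsingleton (K.X 1) :=
      ModuleCat.subsingleton_of_isZero (isZero_X_of_pos fs 1 one_pos)
    have hinj : Function.Injective (sndL φ 0) := by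
      intro a b hab
      exact ext' φ 0 1 (by norm_num) a b (Subsingleton.elim _ _) hab
    have hsurj : Function.Surjective (sndL φ 0) := fun p => ⟨inrL φ 0 p, sndL_inrL φ 0 p⟩
    let ε' : (mappingCone φ).X 0 ≃ₗ[A] A :=
      (LinearEquiv.ofBijective (sndL φ 0) ⟨hinj, hsurj⟩).trans ε
    have hε' : ∀ k, ε' k = ε (sndL φ 0 k) := fun k => rfl
    let η' : (mappingCone φ).X (-1) ≃ₗ[A] (Fin (fs.length + 1) → A) :=
      (coneEquiv φ (-1) 0 (by norm_num)).trans
        ((ε.prodCongr η).trans (Fin.consLinearEquiv A (fun _ : Fin (fs.length + 1) => A)))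
    have hη'0 : ∀ k, η' k 0 = ε (fstL φ (-1) 0 (by norm_num) k) := fun k => rfl
    have hη'S : ∀ k (i : Fin fs.length), η' k i.succ = η (sndL φ (-1) k) i := fun k i => rfl
    have key : ∀ k : (mappingCone φ).X (-1),
        ε' (((mappingCone φ).d (-1) 0).hom k) = ∑ i, η' k i * (f :: fs).get i := by
      intro k
      rw [hε', sndL_d φ (-1) 0 (by norm_num), map_add, h, smul_id_f_apply, map_smul,
        Fin.sum_univ_succ, hη'0]
      congr 1
      · rw [smul_eq_mul, mul_comm]; rfl
    refine ⟨ε', η', key, ?_⟩
    intro (w : (mappingCone φ).X (-2))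
    let x := fstL φ (-2) (-1) (by norm_num) w
    let y := sndL φ (-2) w
    have h1 : η' (((mappingCone φ).d (-2) (-1)).hom w) =
        (Fin.cons (-∑ i, η x i * fs.get i) (f • η x) : Fin (fs.length + 1) → A) +
          consZero fs.length (η ((K.d (-2) (-1)).hom y)) := by
      ext k
      refine Fin.cases ?_ (fun j => ?_) k
      · rw [hη'0, fstL_d φ (-2) (-1) 0 (by norm_num) (by norm_num), map_neg, h]
        simp [consZero, x]
      · rw [hη'S, sndL_d φ (-2) (-1) (by norm_num), map_add, smul_id_f_apply, map_smul]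
        simp [consZero, x, y]
    have h2 : (Koszul.koszul A (f :: fs)) = mappingCone φ := rfl
    change η' (((mappingCone φ).d (-2) (-1)).hom w) ∈ T (f :: fs).get
    rw [h1]
    exact Submodule.add_mem _ (cons_mem_T f fs (η x)) (consZero_mem_T f fs _ (hT y))

/-- If `H^{-1}` of the Koszul complex vanishes, the sequence is `H_1`-regular. -/
theorem isH1Regular_of_isZero_homology (l : List A)
    (h : IsZero ((Koszul.koszul A l).homology (-1))) : CAlgX.IsH1Regular l.get := by
  rw [isH1Regular_iff]
  intro a ha
  rw [rel_apply] at ha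
  obtain ⟨ε, η, hη, hT⟩ := exists_rel_equiv' l
  let k := η.symm a
  have hk : ((Koszul.koszul A l).d (-1) 0).hom k = 0 := by
    apply ε.injective
    rw [hη, map_zero, η.apply_symm_apply, ha]
  have hker : k ∈ LinearMap.ker ((Koszul.koszul A l).d (-1) 0).hom := hk
  rw [← range_eq_ker_of_isZero_homology' _ (-2) (-1) 0 (by norm_num) (by norm_num) h] at hker
  obtain ⟨w, hw⟩ := hker
  have := hT w
  rw [hw, η.apply_symm_apply] at this
  exact this

theorem isH1Regular_of_isKoszulRegularSeq (l : List A) (h : LCI.IsKoszulRegularSeq A l) :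
    CAlgX.IsH1Regular l.get :=
  isH1Regular_of_isZero_homology l (h (-1) (by norm_num))

end Groth.Agent.H94.KoszulH1
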