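import Mathlib

/-!
# Fibre dimension of modules and of Kähler differentials (helper94)

* `finrank_tensor_le_finrank_residueField`: over a local ring, `dim_F F ⊗ M ≤ dim_𝓀 𝓀 ⊗ M`
  for a finite module `M` and any field `F` over `R`.
* `finrank_fiber_le_of_le`: upper semicontinuity of the fibre dimension of a finite module along a
  specialization `q ≤ P`.
* `trdeg_le_finrank_kaehler`: `trdeg_k K ≤ dim_K Ω_{K/k}` for a finitely generated field extension.
* `finrank_kaehler_residueField_le`: `dim Ω_{κ(q)/k} ≤ dim κ(q) ⊗ Ω_{A/k}`.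
-/

set_option autoImplicit false
universe u

namespace Groth.Agent.H94.FibreDim

open TensorProduct KaehlerDifferential IsLocalRing

/-- Over a local ring, the dimension of `F ⊗ M` for any field `F` over `R` is at most the
dimension of the closed fibre of `M`. -/
theorem finrank_tensor_le_finrank_residueField (R : Type*) [CommRing R] [IsLocalRing R]
    (M : Type*) [AddCommGroup M] [Module R M] [Module.Finite R M]
    (F : Type*) [Field F] [Algebra R F] :
    Module.finrank F (F ⊗[R] M) ≤ Module.finrank (ResidueField R) (ResidueField R ⊗[R] M) := by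
  have fg : (⊤ : Submodule R M).FG := Module.Finite.fg_top
  let eF : F ⊗[R] (⊤ : Submodule R M) ≃ₗ[F] F ⊗[R] M :=
    TensorProduct.AlgebraTensorModule.congr (LinearEquiv.refl F F) Submodule.topEquiv
  let eκ : ResidueField R ⊗[R] (⊤ : Submodule R M) ≃ₗ[ResidueField R] ResidueField R ⊗[R] M :=
    TensorProduct.AlgebraTensorModule.congr (LinearEquiv.refl _ _) Submodule.topEquiv
  rw [← eF.finrank_eq, ← eκ.finrank_eq, Module.finrank_eq_spanFinrank_of_free,
    Module.finrank_eq_spanFinrank_of_free,
    TensorProduct.spanFinrank_top_eq_of_residueField _ fg]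
  exact TensorProduct.spanFinrank_top_le_of_fg _ fg

/-- Base change of the fibre along an extension of the field. -/
theorem finrank_tensor_eq_of_algebra (A : Type*) [CommRing A] (M : Type*) [AddCommGroup M]
    [Module A M] (K F : Type*) [Field K] [Field F] [Algebra A K] [Algebra A F] [Algebra K F]
    [IsScalarTower A K F] :
    Module.finrank F (F ⊗[A] M) = Module.finrank K (K ⊗[A] M) := by
  let e : F ⊗[K] (K ⊗[A] M) ≃ₗ[F] F ⊗[A] M :=
    TensorProduct.AlgebraTensorModule.cancelBaseChange A K F F M
  rw [← e.finrank_eq, Module.finrank_baseChange]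

/-- Upper semicontinuity of fibre dimension along a specialization. -/
theorem finrank_fiber_le_of_le (A : Type*) [CommRing A] (M : Type*) [AddCommGroup M] [Module A M]
    [Module.Finite A M] (q P : Ideal A) [hq : q.IsPrime] [hP : P.IsPrime] (hqP : q ≤ P) :
    Module.finrank q.ResidueField (q.ResidueField ⊗[A] M) ≤
      Module.finrank P.ResidueField (P.ResidueField ⊗[A] M) := by
  let R := Localization.AtPrime P
  have disj : Disjoint (P.primeCompl : Set A) (q : Set A) := by
    rw [Set.disjoint_left]
    intro x hx hxq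
    exact hx (hqP hxq)
  let q' : Ideal R := q.map (algebraMap A R)
  haveI hq' : q'.IsPrime := IsLocalization.isPrime_of_isPrime_disjoint P.primeCompl _ _ hq disj
  have hcomap : q = q'.comap (algebraMap A R) :=
    (IsLocalization.comap_map_of_isPrime_disjoint P.primeCompl _ hq disj).symm
  let F := q'.ResidueField
  let φ : q.ResidueField →+* F := Ideal.ResidueField.map q q' (algebraMap A R) hcomap
  letI : Algebra q.ResidueField F := φ.toAlgebra
  haveI : IsScalarTower A q.ResidueField F := by
    refine IsScalarTower.of_algebraMap_eq' ?_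
    ext x
    change _ = φ (algebraMap A q.ResidueField x)
    rw [Ideal.ResidueField.map_algebraMap]
    rw [IsScalarTower.algebraMap_apply A R F]
  rw [← finrank_tensor_eq_of_algebra A M q.ResidueField F]
  let e₁ : F ⊗[R] (R ⊗[A] M) ≃ₗ[F] F ⊗[A] M :=
    TensorProduct.AlgebraTensorModule.cancelBaseChange A R F F M
  let e₂ : P.ResidueField ⊗[R] (R ⊗[A] M) ≃ₗ[P.ResidueField] P.ResidueField ⊗[A] M :=
    TensorProduct.AlgebraTensorModule.cancelBaseChange A R P.ResidueField P.ResidueField M
  rw [← e₁.finrank_eq, ← e₂.finrank_eq]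
  exact finrank_tensor_le_finrank_residueField R (R ⊗[A] M) F

/-- For a finitely generated field extension `K/k`, `trdeg_k K ≤ dim_K Ω_{K/k}`. -/
theorem trdeg_le_finrank_kaehler (k K : Type*) [Field k] [Field K] [Algebra k K]
    [Algebra.EssFiniteType k K] :
    Algebra.trdeg k K ≤ (Module.finrank K Ω[K⁄k] : Cardinal) := by
  classical
  haveI : Module.Finite K Ω[K⁄k] := inferInstance
  obtain ⟨b, hb_sub, hb_span, hb_li⟩ := exists_linearIndependent K (Set.range (D k K))
  rw [KaehlerDifferential.span_range_derivation] at hb_span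
  have hex : ∀ v : b, ∃ x : K, D k K x = (v : Ω[K⁄k]) := fun v => hb_sub v.2
  choose g hg using hex
  let s : Set K := Set.range g
  let L := IntermediateField.adjoin k s
  -- `Ω[K/L] = 0`
  have hrange : LinearMap.range (mapBaseChange k L K) = ⊤ := by
    rw [eq_top_iff, ← hb_span, Submodule.span_le]
    intro v hv
    have hmem : g ⟨v, hv⟩ ∈ L := IntermediateField.subset_adjoin k s ⟨⟨v, hv⟩, rfl⟩
    refine ⟨(1 : K) ⊗ₜ[L] D k L ⟨g ⟨v, hv⟩, hmem⟩, ?_⟩
    rw [mapBaseChange_tmul, one_smul, map_D]
    exact hg ⟨v, hv⟩
  haveI hsub : Subsingleton Ω[K⁄L] := by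
    refine ⟨fun a b => ?_⟩
    have h0 : ∀ y : Ω[K⁄L], y = 0 := by
      intro y
      obtain ⟨x, rfl⟩ := KaehlerDifferential.map_surjective k L K y
      have hx : x ∈ LinearMap.range (mapBaseChange k L K) := by rw [hrange]; trivial
      exact (KaehlerDifferential.exact_mapBaseChange_map k L K x).mpr hx
    rw [h0 a, h0 b]
  haveI : Algebra.FormallyUnramified L K := ⟨hsub⟩
  haveI : Algebra.EssFiniteType L K := Algebra.EssFiniteType.of_comp k L K
  haveI : Module.Finite L K := Algebra.FormallyUnramified.finite_of_free L K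
  haveI : Algebra.IsAlgebraic L K := Algebra.IsAlgebraic.of_finite L K
  open scoped IntermediateField.algebraAdjoinAdjoin in
  haveI : Algebra.IsAlgebraic (Algebra.adjoin k s) K :=
    Algebra.IsAlgebraic.trans (Algebra.adjoin k s) L K
  have h1 : Algebra.trdeg k K ≤ Cardinal.mk s := Algebra.IsAlgebraic.trdeg_le_cardinalMk k s
  have h2 : Cardinal.mk s ≤ Cardinal.mk b := Cardinal.mk_range_le
  have h3 : Cardinal.mk b ≤ Module.rank K Ω[K⁄k] := hb_li.cardinal_le_rank
  rw [← Module.finrank_eq_rank K Ω[K⁄k]] at h3
  exact h1.trans (h2.trans h3)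

/-- The fibre of `Ω_{A/k}` at a prime `q` surjects onto `Ω_{κ(q)/k}`. -/
theorem mapBaseChange_residueField_surjective (k A : Type*) [CommRing k] [CommRing A] [Algebra k A]
    (q : Ideal A) [q.IsPrime] :
    Function.Surjective (mapBaseChange k A q.ResidueField) := by
  haveI : Algebra.FormallyUnramified A (Localization.AtPrime q) :=
    haveI : Algebra.FormallyEtale A (Localization.AtPrime q) :=
      Algebra.FormallyEtale.of_isLocalization q.primeCompl
    inferInstance
  haveI : Algebra.FormallyUnramified A q.ResidueField :=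
    Algebra.FormallyUnramified.comp A (Localization.AtPrime q) q.ResidueField
  intro x
  exact (KaehlerDifferential.exact_mapBaseChange_map k A q.ResidueField x).mp
    (Subsingleton.elim _ _)

theorem finrank_kaehler_residueField_le (k A : Type*) [Field k] [CommRing A] [Algebra k A]
    [Algebra.FiniteType k A] (q : Ideal A) [q.IsPrime] :
    Module.finrank q.ResidueField Ω[q.ResidueField⁄k] ≤
      Module.finrank q.ResidueField (q.ResidueField ⊗[A] Ω[A⁄k]) := by
  haveI : Module.Finite A Ω[A⁄k] := inferInstance
  exact LinearMap.finrank_le_finrank_of_surjective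
    (mapBaseChange_residueField_surjective k A q)

end Groth.Agent.H94.FibreDim
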