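import Mathlib
import Groth.Agent.H47.SepFS
import Groth.Agent.H23.RegSmooth2
import Groth.Agent.H14.DimTrdeg
import Groth.Agent.H29.RegCompl

/-!
# Jacobian criterion helpers (helper94)

* `finrank_fiber_eq_finrank_cotangentSpace`: at a closed point `m` of a finite type algebra over an
  algebraically closed field, `dim κ(m) ⊗ Ω_{A/k} = dim m_m/m_m²`.
* `specQuotIso`, `height_comap_quotientMk`: heights do not change modulo a nil ideal.
* `ringKrullDim_localization_of_isMaximal`: for an irreducible finite type `k`-algebra, all closed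
  points have `dim A_m = dim A`.
-/

set_option autoImplicit false
universe u

namespace Groth.Agent.H94.JacCrit

open TensorProduct KaehlerDifferential IsLocalRing

theorem finrank_fiber_eq_finrank_cotangentSpace (k : Type u) [Field k] [IsAlgClosed k]
    (A : Type u) [CommRing A] [Algebra k A] [Algebra.FiniteType k A] (m : Ideal A) [m.IsMaximal] :
    Module.finrank m.ResidueField (m.ResidueField ⊗[A] Ω[A⁄k]) =
      Module.finrank (ResidueField (Localization.AtPrime m))
        (CotangentSpace (Localization.AtPrime m)) := by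
  let B := Localization.AtPrime m
  let κ := ResidueField B
  have hsurjB : Function.Surjective (algebraMap B κ) := IsLocalRing.residue_surjective
  have hbij : Function.Bijective (algebraMap k κ) :=
    ⟨(algebraMap k κ).injective, Groth.Agent.H23.RegSmooth.residue_surjective k A m⟩
  haveI : Algebra.FormallySmooth k κ :=
    Algebra.FormallySmooth.of_equiv (AlgEquiv.ofBijective (Algebra.ofId k κ) hbij)
  have hinj := Groth.Agent.H47.kerCotangentToTensor_injective_of_formallySmooth k B κ hsurjB
  have hsurj : Function.Surjective (kerCotangentToTensor k B κ) := by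
    haveI : Subsingleton Ω[κ⁄k] := KaehlerDifferential.subsingleton_of_surjective k κ hbij.2
    intro x
    exact (exact_kerCotangentToTensor_mapBaseChange k B κ hsurjB x).mp (Subsingleton.elim _ _)
  let e₁ : (RingHom.ker (algebraMap B κ)).Cotangent ≃ₗ[B] κ ⊗[B] Ω[B⁄k] :=
    LinearEquiv.ofBijective _ ⟨hinj, hsurj⟩
  have hker : maximalIdeal B = RingHom.ker (algebraMap B κ) := by
    ext x
    rw [RingHom.mem_ker, IsLocalRing.ResidueField.algebraMap_eq, IsLocalRing.residue_eq_zero_iff]
  let e₀ : (maximalIdeal B).Cotangent ≃ₗ[B] (RingHom.ker (algebraMap B κ)).Cotangent :=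
    Ideal.Cotangent.equivOfEq _ _ hker
  let e : CotangentSpace B ≃ₗ[κ] κ ⊗[B] Ω[B⁄k] :=
    (e₀.trans e₁).extendScalarsOfSurjective hsurjB
  haveI : Algebra.FormallyEtale A B := Algebra.FormallyEtale.of_isLocalization m.primeCompl
  let e₂ : B ⊗[A] Ω[A⁄k] ≃ₗ[B] Ω[B⁄k] := tensorKaehlerEquivOfFormallyEtale k A B
  let e₃ : κ ⊗[B] (B ⊗[A] Ω[A⁄k]) ≃ₗ[κ] κ ⊗[A] Ω[A⁄k] :=
    AlgebraTensorModule.cancelBaseChange A B κ κ Ω[A⁄k]
  let e₄ : κ ⊗[B] (B ⊗[A] Ω[A⁄k]) ≃ₗ[κ] κ ⊗[B] Ω[B⁄k] := e₂.baseChange B κ _ _
  exact (e₃.symm.trans (e₄.trans e.symm)).finrank_eq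

/-- The spectrum does not change modulo a nil ideal. -/
noncomputable def specQuotIso {R : Type*} [CommRing R] (I : Ideal R) (hI : I ≤ nilradical R) :
    PrimeSpectrum (R ⧸ I) ≃o PrimeSpectrum R where
  toEquiv := Equiv.ofBijective (PrimeSpectrum.comap (Ideal.Quotient.mk I))
    (PrimeSpectrum.comap_quotientMk_bijective_of_le_nilradical hI)
  map_rel_iff' := by
    intro a b
    exact Ideal.comap_le_comap_iff_of_surjective _ Ideal.Quotient.mk_surjective _ _

theorem height_comap_quotientMk {R : Type*} [CommRing R] (I : Ideal R) (hI : I ≤ nilradical R)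
    (Q : Ideal (R ⧸ I)) [hQ : Q.IsPrime] :
    (Q.comap (Ideal.Quotient.mk I)).height = Q.height := by
  have h1 := PrimeSpectrum.height_eq_orderHeight (⟨Q, hQ⟩ : PrimeSpectrum (R ⧸ I))
  have h2 := PrimeSpectrum.height_eq_orderHeight (specQuotIso I hI ⟨Q, hQ⟩)
  rw [Order.height_orderIso] at h2
  change (Q.comap (Ideal.Quotient.mk I)).height = _ at h2
  rw [h2, ← h1]

theorem ringKrullDim_quotient_of_le_nilradical {R : Type*} [CommRing R] (I : Ideal R)
    (hI : I ≤ nilradical R) : ringKrullDim (R ⧸ I) = ringKrullDim R :=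
  Order.krullDim_eq_of_orderIso (specQuotIso I hI)

/-- In an irreducible finite type algebra over a field all closed points have full dimension. -/
theorem ringKrullDim_localization_of_isMaximal (k : Type u) [Field k] (A : Type u) [CommRing A]
    [Algebra k A] [Algebra.FiniteType k A] (hirr : (nilradical A).IsPrime) (m : Ideal A)
    [hm : m.IsMaximal] :
    ringKrullDim (Localization.AtPrime m) = ringKrullDim A := by
  rw [IsLocalization.AtPrime.ringKrullDim_eq_height m]
  let N := nilradical A
  haveI : N.IsPrime := hirr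
  haveI : IsDomain (A ⧸ N) := Ideal.Quotient.isDomain N
  haveI : Algebra.FiniteType k (A ⧸ N) :=
    Algebra.FiniteType.of_surjective (IsScalarTower.toAlgHom k A (A ⧸ N))
      Ideal.Quotient.mk_surjective
  have hNm : N ≤ m := nilradical_le_prime m
  let m' : Ideal (A ⧸ N) := m.map (Ideal.Quotient.mk N)
  have hcomap : m'.comap (Ideal.Quotient.mk N) = m := by
    rw [Ideal.comap_map_of_surjective _ Ideal.Quotient.mk_surjective]
    rw [← RingHom.ker_eq_comap_bot, Ideal.mk_ker]
    exact sup_eq_left.mpr hNm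
  have hm' : m'.IsMaximal :=
    Ideal.IsMaximal.map_of_surjective_of_ker_le Ideal.Quotient.mk_surjective
      (by rw [Ideal.mk_ker]; exact hNm)
  have h1 := height_comap_quotientMk N le_rfl m'
  rw [hcomap] at h1
  rw [h1, Groth.Agent.H14.height_of_isMaximal_of_finiteType_domain k (A ⧸ N) m',
    ringKrullDim_quotient_of_le_nilradical N le_rfl]

end Groth.Agent.H94.JacCrit
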