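import Mathlib
import Groth.Agent.H94.JacCrit
import Groth.Agent.H94.FibreDim
import Groth.Agent.H63.KaehlerFF
import Groth.Agent.H47.SepFS
import Groth.Agent.H47.FSSep
import Groth.Agent.H47.SmoothRegular
import Groth.Agent.Lead.RegularLocal

/-!
# Generic rank of differentials and smoothness (helper94)

* `exists_sepBasis`: a finitely generated geometrically reduced field extension has a separating
  transcendence basis.
* `finrank_kaehler_eq_trdeg`: for such an extension `dim_K Ω_{K/k} = trdeg_k K`.
* `finrank_fiber_minimalPrime`: at a minimal prime `p` of a finite type `k`-algebra `A` with `A_p`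
  geometrically reduced, the fibre of `Ω_{A/k}` has dimension `dim A/p`.
-/

set_option autoImplicit false
universe u

namespace Groth.Agent.H94.SmoothGeneric

open TensorProduct KaehlerDifferential IsLocalRing

theorem exists_sepBasis (k K : Type*) [Field k] [Field K] [Algebra k K]
    [Algebra.EssFiniteType k K] [Algebra.IsGeometricallyReduced k K] :
    ∃ s : Finset K, IsTranscendenceBasis k ((↑) : s → K) ∧
      Algebra.IsSeparable (IntermediateField.adjoin k (s : Set K)) K := by
  obtain _ | ⟨p, hp, hpk⟩ := CharP.exists' k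
  · exact exists_isTranscendenceBasis_and_isSeparable_of_perfectField k K
  · have : ExpChar k p := .prime hp.out
    exact exists_isTranscendenceBasis_and_isSeparable_of_linearIndepOn_pow_of_essFiniteType p hp.out
      (fun s hs => Groth.Agent.H47.linearIndepOn_pow_of_isGeometricallyReduced
        (k := k) (K := K) p hp.out s hs)

theorem finrank_kaehler_le_trdeg (k K : Type*) [Field k] [Field K] [Algebra k K]
    [Algebra.EssFiniteType k K] [Algebra.IsGeometricallyReduced k K] :
    (Module.finrank K Ω[K⁄k] : Cardinal) ≤ Algebra.trdeg k K := by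
  classical
  obtain ⟨s, hs, hsep⟩ := exists_sepBasis k K
  have hspan := Groth.Agent.H63.KaehlerFF.span_D_eq_top (k := k) (K := K) (s : Set K)
  have h1 : Module.finrank K Ω[K⁄k] ≤ s.card := by
    have h2 := finrank_span_finset_le_card (R := K) (s.image (D k K))
    rw [Finset.coe_image] at h2
    change Module.finrank K (Submodule.span K ((D k K) '' (s : Set K))) ≤ _ at h2
    rw [hspan, finrank_top] at h2
    exact h2.trans Finset.card_image_le
  rw [← hs.cardinalMk_eq_trdeg]
  simp only [Cardinal.mk_coe_finset]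
  exact_mod_cast h1

theorem finrank_kaehler_eq_trdeg (k K : Type*) [Field k] [Field K] [Algebra k K]
    [Algebra.EssFiniteType k K] [Algebra.IsGeometricallyReduced k K] :
    (Module.finrank K Ω[K⁄k] : Cardinal) = Algebra.trdeg k K :=
  le_antisymm (finrank_kaehler_le_trdeg k K) (Groth.Agent.H94.FibreDim.trdeg_le_finrank_kaehler k K)

/-- At a minimal prime `p` of a finite type `k`-algebra with `A_p` geometrically reduced, the fibre
of `Ω_{A/k}` has dimension `dim A/p`. -/
theorem finrank_fiber_minimalPrime (k A : Type u) [Field k] [CommRing A] [Algebra k A]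
    [Algebra.FiniteType k A] (p : Ideal A) [hp : p.IsPrime] (hmin : p ∈ minimalPrimes A)
    [hgr : Algebra.IsGeometricallyReduced k (Localization.AtPrime p)] :
    ((Module.finrank p.ResidueField (p.ResidueField ⊗[A] Ω[A⁄k]) : ℕ) : WithBot ℕ∞) =
      ringKrullDim (A ⧸ p) := by
  haveI : IsNoetherianRing A := Algebra.FiniteType.isNoetherianRing k A
  let B := Localization.AtPrime p
  let κ := p.ResidueField
  haveI : IsNoetherianRing B := IsLocalization.isNoetherianRing p.primeCompl B inferInstance
  have hdim0 : ringKrullDim B = 0 := by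
    rw [IsLocalization.AtPrime.ringKrullDim_eq_height p, Ideal.height_eq_zero_iff.mpr hmin]
    rfl
  haveI : Ring.KrullDimLE 0 B := by
    rw [Ring.krullDimLE_iff]
    exact hdim0.le
  haveI : IsArtinianRing B := isArtinianRing_iff_krullDimLE_zero.mpr inferInstance
  haveI : IsReduced B := Algebra.isReduced_of_isGeometricallyReduced k
  have hB : IsField B := IsArtinianRing.isField_of_isReduced_of_isLocalRing B
  have hmax : maximalIdeal B = ⊥ := IsLocalRing.isField_iff_maximalIdeal_eq.mp hB
  have hsurjB : Function.Surjective (algebraMap B κ) := IsLocalRing.residue_surjective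
  have hker : RingHom.ker (algebraMap B κ) = ⊥ := by
    rw [← hmax]
    ext x
    rw [RingHom.mem_ker, IsLocalRing.ResidueField.algebraMap_eq, IsLocalRing.residue_eq_zero_iff]
  have hinjB : Function.Injective (algebraMap B κ) :=
    (RingHom.injective_iff_ker_eq_bot _).mpr hker
  let e : B ≃ₐ[k] κ := AlgEquiv.ofBijective (IsScalarTower.toAlgHom k B κ) ⟨hinjB, hsurjB⟩
  haveI : Algebra.IsGeometricallyReduced k κ :=
    Algebra.IsGeometricallyReduced.of_injective e.symm.toAlgHom e.symm.injective
  haveI : Algebra.EssFiniteType k κ := Algebra.EssFiniteType.comp k A κ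
  have hbc_inj : Function.Injective (mapBaseChange k B κ) := by
    rw [injective_iff_map_eq_zero]
    intro x hx
    obtain ⟨y, rfl⟩ := (exact_kerCotangentToTensor_mapBaseChange k B κ hsurjB x).mp hx
    haveI : Subsingleton (RingHom.ker (algebraMap B κ)).Cotangent := by
      rw [Ideal.cotangent_subsingleton_iff, hker]
      change (⊥ : Ideal B) * ⊥ = ⊥
      simp
    rw [Subsingleton.elim y 0, map_zero]
  have hbc_surj : Function.Surjective (mapBaseChange k B κ) :=
    mapBaseChange_surjective k B κ hsurjB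
  let e₁ : κ ⊗[B] Ω[B⁄k] ≃ₗ[κ] Ω[κ⁄k] := LinearEquiv.ofBijective _ ⟨hbc_inj, hbc_surj⟩
  haveI : Algebra.FormallyEtale A B := Algebra.FormallyEtale.of_isLocalization p.primeCompl
  let e₂ : B ⊗[A] Ω[A⁄k] ≃ₗ[B] Ω[B⁄k] := tensorKaehlerEquivOfFormallyEtale k A B
  let e₃ : κ ⊗[B] (B ⊗[A] Ω[A⁄k]) ≃ₗ[κ] κ ⊗[A] Ω[A⁄k] :=
    AlgebraTensorModule.cancelBaseChange A B κ κ Ω[A⁄k]
  let e₄ : κ ⊗[B] (B ⊗[A] Ω[A⁄k]) ≃ₗ[κ] κ ⊗[B] Ω[B⁄k] := e₂.baseChange B κ _ _
  have hfr : Module.finrank κ (κ ⊗[A] Ω[A⁄k]) = Module.finrank κ Ω[κ⁄k] :=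
    (e₃.symm.trans (e₄.trans e₁)).finrank_eq
  haveI : IsDomain (A ⧸ p) := Ideal.Quotient.isDomain p
  haveI : Algebra.FiniteType k (A ⧸ p) :=
    Algebra.FiniteType.of_surjective (IsScalarTower.toAlgHom k A (A ⧸ p))
      Ideal.Quotient.mk_surjective
  obtain ⟨d, hd1, hd2, -⟩ := Groth.Agent.H14.ringKrullDim_eq_trdeg_of_finiteType_domain k (A ⧸ p)
  let ef : FractionRing (A ⧸ p) ≃ₐ[A ⧸ p] κ := FractionRing.algEquiv (A ⧸ p) κ
  have htr : Algebra.trdeg k κ = d := by
    rw [← hd1]
    exact (ef.restrictScalars k).trdeg_eq.symm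
  have h1 := finrank_kaehler_eq_trdeg k κ
  rw [htr] at h1
  have h1' : Module.finrank κ Ω[κ⁄k] = d := by exact_mod_cast h1
  change ((Module.finrank κ (κ ⊗[A] Ω[A⁄k]) : ℕ) : WithBot ℕ∞) = _
  rw [hfr, h1', hd2]

end Groth.Agent.H94.SmoothGeneric
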