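import Mathlib
import Groth.Prelude.Def_RegImm

/-!
# Scheme-level extraction for S18937 (helper94)

`extract`: if `Spec (P/I) → Spec P` is a regular immersion (kind regular) and `q` is a prime of
`P/I`, there is `h ∈ P` with `q ∈ D(h)` and a localization `L` of `P` away from `h` such that
`I L` is generated by a regular sequence of `L`.
-/

namespace Groth.Agent.H94.RegImmScheme

open CategoryTheory AlgebraicGeometry RingTheory.Sequence TopologicalSpace

universe u

set_option backward.isDefEq.respectTransparency.types false in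
theorem isLocalization_away_of_eq (R : CommRingCat.{u}) (h : R) (W : (Spec R).Opens)
    (hW : W = PrimeSpectrum.basicOpen h) : IsLocalization.Away h Γ(Spec R, W) := by
  subst hW
  infer_instance

theorem ker_appTop (R S : CommRingCat.{u}) (φ : R ⟶ S) :
    RingHom.ker (Spec.map φ).appTop.hom = (RingHom.ker φ.hom).map (Scheme.ΓSpecIso R).inv.hom := by
  have h1 : (RingHom.ker φ.hom).map (Scheme.ΓSpecIso R).inv.hom =
      (RingHom.ker φ.hom).comap (Scheme.ΓSpecIso R).hom.hom := by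
    have := Ideal.map_symm (I := RingHom.ker φ.hom)
      (Scheme.ΓSpecIso R).commRingCatIsoToRingEquiv
    exact this
  rw [h1]
  ext x
  rw [Ideal.mem_comap, RingHom.mem_ker, RingHom.mem_ker]
  have h2 := Scheme.ΓSpecIso_naturality φ
  have h3 : (Scheme.ΓSpecIso S).hom.hom ((Spec.map φ).appTop.hom x) =
      φ.hom ((Scheme.ΓSpecIso R).hom.hom x) := by
    have := congrArg (fun g => g.hom x) h2
    exact this
  rw [← h3]
  constructor
  · intro hx; rw [hx, map_zero]
  · intro hx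
    have hinj : Function.Injective (Scheme.ΓSpecIso S).hom.hom :=
      (Scheme.ΓSpecIso S).commRingCatIsoToRingEquiv.injective
    exact hinj (by rw [hx, map_zero])

theorem extract_aux (R S : CommRingCat.{u}) (φ : R ⟶ S) (I : Ideal R) (hI : RingHom.ker φ.hom = I)
    (U : (Spec R).affineOpens) (W : (Spec R).Opens) (hWaff : IsAffineOpen W) (hWU : W ≤ U.1)
    (z : Spec S) (hz : Spec.map φ z ∈ W)
    (rs : List Γ(Spec R, U.1)) (hrs : IsRegular Γ(Spec R, U.1) rs)
    (hker : RingHom.ker ((Spec.map φ).app U.1).hom = Ideal.ofList rs)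
    (f : Γ(Spec R, U.1)) (hf : W = (Spec R).basicOpen f) :
    ∃ rs' : List Γ(Spec R, W), IsRegular Γ(Spec R, W) rs' ∧
      I.map (algebraMap R Γ(Spec R, W)) = Ideal.ofList rs' := by
  let i : Spec S ⟶ Spec R := Spec.map φ
  let Wa : (Spec R).affineOpens := ⟨W, hWaff⟩
  let Ta : (Spec R).affineOpens := ⟨⊤, isAffineOpen_top _⟩
  have hWaU : Wa ≤ U := hWU
  have hWaT : Wa ≤ Ta := (le_top : W ≤ ⊤)
  let K := i.ker
  have hKU : K.ideal U = Ideal.ofList rs := by
    rw [Scheme.Hom.ker_apply]; exact hker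
  have hKW1 : K.ideal Wa = Ideal.ofList (rs.map ((Spec R).presheaf.map (homOfLE hWaU).op).hom) := by
    rw [← K.map_ideal hWaU, hKU, Ideal.map_ofList]
  have hKT : K.ideal Ta = I.map (Scheme.ΓSpecIso R).inv.hom := by
    rw [Scheme.Hom.ker_apply, ← hI]
    exact ker_appTop R S φ
  have hKW2 : K.ideal Wa = I.map (algebraMap R Γ(Spec R, W)) := by
    rw [← K.map_ideal hWaT, hKT, Ideal.map_map]
    rfl
  refine ⟨rs.map ((Spec R).presheaf.map (homOfLE hWaU).op).hom, ⟨?_, ?_⟩, ?_⟩
  · letI : Algebra Γ(Spec R, U.1) Γ(Spec R, W) :=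
      ((Spec R).presheaf.map (homOfLE hWU).op).hom.toAlgebra
    haveI : IsLocalization.Away f Γ(Spec R, W) :=
      U.2.isLocalization_of_eq_basicOpen f (homOfLE hWU) hf
    exact IsWeaklyRegular.of_isLocalization Γ(Spec R, W) (Submonoid.powers f) hrs.toIsWeaklyRegular
  · rw [smul_eq_mul, Ideal.mul_top, ← hKW1, Scheme.Hom.ker_apply]
    intro htop
    haveI : Nontrivial Γ(Spec S, i ⁻¹ᵁ W) :=
      @Scheme.component_nontrivial (Spec S) (i ⁻¹ᵁ W) ⟨⟨z, hz⟩⟩
    have h1 : (1 : Γ(Spec R, W)) ∈ RingHom.ker (i.app W).hom := by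
      rw [← htop]; trivial
    rw [RingHom.mem_ker, map_one] at h1
    exact one_ne_zero h1
  · rw [← hKW2, hKW1]

theorem extract' (R : CommRingCat.{u}) (I : Ideal R)
    (hreg : RegImm.IsRegularImmersion RegImm.Kind.regular
      (Spec.map (CommRingCat.ofHom (Ideal.Quotient.mk I))))
    (q : PrimeSpectrum (R ⧸ I)) :
    ∃ (h : R), Ideal.Quotient.mk I h ∉ q.asIdeal ∧
      ∃ (L : Type u) (_ : CommRing L) (_ : Algebra R L) (_ : IsLocalization.Away h L)
        (rs : List L), IsRegular L rs ∧ I.map (algebraMap R L) = Ideal.ofList rs := by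
  obtain ⟨U, hzU, -, rs, hrs, hker⟩ := hreg.2 (q : Spec (CommRingCat.of (R ⧸ I)))
  -- choose a basic open
  obtain ⟨W₀, ⟨h, rfl⟩, hzW, hWU⟩ :=
    Opens.isBasis_iff_nbhd.mp (PrimeSpectrum.isBasis_basic_opens (R := R)) hzU
  refine ⟨h, hzW, ?_⟩
  obtain ⟨W, hW⟩ : ∃ W : (Spec R).Opens, W = PrimeSpectrum.basicOpen h := ⟨_, rfl⟩
  have hWaff : IsAffineOpen W := hW ▸ IsAffineOpen.Spec_basicOpen (R := R) h
  have hWU' : W ≤ U.1 := hW ▸ hWU
  have hzW' : Spec.map (CommRingCat.ofHom (Ideal.Quotient.mk I))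
      (q : Spec (CommRingCat.of (R ⧸ I))) ∈ W := hW ▸ hzW
  let f : Γ(Spec R, U.1) :=
    ((Spec R).presheaf.map (homOfLE (le_top : U.1 ≤ ⊤)).op).hom ((Scheme.ΓSpecIso R).inv.hom h)
  have hf : W = (Spec R).basicOpen f := by
    rw [Scheme.basicOpen_res, basicOpen_eq_of_affine, ← hW]
    exact (inf_eq_right.mpr hWU').symm
  obtain ⟨rs', hrs', hI'⟩ := extract_aux R (CommRingCat.of (R ⧸ I))
    (CommRingCat.ofHom (Ideal.Quotient.mk I)) I Ideal.mk_ker U W hWaff hWU' q hzW'
    rs hrs hker f hf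
  exact ⟨Γ(Spec R, W), inferInstance, inferInstance,
    isLocalization_away_of_eq R h W hW, rs', hrs', hI'⟩

theorem extract (P : Type u) [CommRing P] (I : Ideal P)
    (hreg : RegImm.IsRegularImmersion RegImm.Kind.regular
      (Spec.map (CommRingCat.ofHom (Ideal.Quotient.mk I))))
    (q : PrimeSpectrum (P ⧸ I)) :
    ∃ (h : P), Ideal.Quotient.mk I h ∉ q.asIdeal ∧
      ∃ (L : Type u) (_ : CommRing L) (_ : Algebra P L) (_ : IsLocalization.Away h L)
        (rs : List L), IsRegular L rs ∧ I.map (algebraMap P L) = Ideal.ofList rs :=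
  extract' (CommRingCat.of P) I hreg q

end Groth.Agent.H94.RegImmScheme
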