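import Mathlib

/-!
# Selecting few generators from a spanning set over a local ring

If a submodule `N = span S` of a module over a local ring is generated by `n` elements,
then `n` elements of `S` already generate it.
-/

set_option autoImplicit false
universe u

namespace Groth.Agent.H94.RegDescentSel

open Submodule IsLocalRing

theorem sel {R : Type u} [CommRing R] [IsLocalRing R] : ∀ (n : ℕ) {M : Type u} [AddCommGroup M]
    [Module R M] (S : Set M) (G : Finset M), G.card ≤ n →
    span R S = span R (G : Set M) →
    ∃ t : Finset M, (t : Set M) ⊆ S ∧ t.card ≤ n ∧ span R (t : Set M) = span R S := by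
  classical
  intro n
  induction n with
  | zero =>
    intro M _ _ S G hG h
    refine ⟨∅, by simp, by simp, ?_⟩
    have : G = ∅ := Finset.card_eq_zero.mp (Nat.le_zero.mp hG)
    rw [h, this]
  | succ n ih =>
    intro M _ _ S G hG h
    set N := span R S with hN
    have hNfg : N.FG := by rw [h]; exact fg_span (Finset.finite_toSet G)
    by_cases hcase : N ≤ maximalIdeal R • N
    · have hbot : N = ⊥ := eq_bot_of_le_smul_of_le_jacobson_bot _ N hNfg hcase
        (IsLocalRing.maximalIdeal_le_jacobson _)
      exact ⟨∅, by simp, by simp, by rw [hbot]; simp⟩
    · -- some element of `S` is not in `m N`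
      have hx : ∃ x ∈ S, x ∉ maximalIdeal R • N := by
        by_contra hcon
        push Not at hcon
        exact hcase (span_le.mpr hcon)
      obtain ⟨x, hxS, hxm⟩ := hx
      have hxN : x ∈ span R (G : Set M) := by rw [← h]; exact subset_span hxS
      obtain ⟨c, -, hc⟩ := mem_span_finset.mp hxN
      have hj : ∃ j ∈ G, c j ∉ maximalIdeal R := by
        by_contra hcon
        push Not at hcon
        apply hxm
        rw [← hc]
        refine Submodule.sum_mem _ fun i hi => ?_
        have hiN : i ∈ N := h.symm ▸ (subset_span hi : i ∈ span R (G : Set M))
        exact Submodule.smul_mem_smul (hcon i hi) hiN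
      obtain ⟨j, hjG, hcj⟩ := hj
      have hcju : IsUnit (c j) := IsLocalRing.notMem_maximalIdeal.mp hcj
      obtain ⟨w, hw⟩ := hcju
      let π := (span R ({x} : Set M)).mkQ
      have hπx : π x = 0 := (Submodule.Quotient.mk_eq_zero _).mpr (subset_span rfl)
      set G' := G.erase j with hG'
      have hG'card : (G'.image π).card ≤ n := by
        refine le_trans Finset.card_image_le ?_
        rw [hG', Finset.card_erase_of_mem hjG]
        omega
      -- `π j` is in the span of the image of `G'`
      have hπj : π j ∈ span R ((G'.image π : Finset _) : Set (M ⧸ span R ({x} : Set M))) := by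
        have h1 : ∑ a ∈ G, c a • π a = 0 := by
          have h0 : π (∑ a ∈ G, c a • a) = 0 := by rw [hc]; exact hπx
          rw [map_sum] at h0
          rw [← h0]
          exact Finset.sum_congr rfl fun a _ => (map_smul _ _ _).symm
        rw [← Finset.add_sum_erase G _ hjG] at h1
        have h2 : π j = -((↑w⁻¹ : R) • ∑ a ∈ G', c a • π a) := by
          have h3 : c j • π j = -(∑ a ∈ G', c a • π a) := eq_neg_of_add_eq_zero_left h1
          rw [← hw] at h3
          rw [← smul_neg, ← h3, smul_smul, Units.inv_mul, one_smul]
        rw [h2]
        refine Submodule.neg_mem _ (Submodule.smul_mem _ _ (Submodule.sum_mem _ fun a ha => ?_))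
        exact Submodule.smul_mem _ _ (subset_span (Finset.mem_coe.mpr (Finset.mem_image_of_mem π ha)))
      have hspan : span R (π '' S) = span R ((G'.image π : Finset _) : Set _) := by
        rw [← Submodule.map_span, ← hN, h, Submodule.map_span]
        apply le_antisymm
        · rw [span_le]
          rintro _ ⟨i, hi, rfl⟩
          by_cases hij : i = j
          · rw [hij]; exact hπj
          · exact subset_span (Finset.mem_coe.mpr (Finset.mem_image_of_mem π
              (Finset.mem_erase.mpr ⟨hij, hi⟩)))
        · apply span_mono
          rintro _ hy
          obtain ⟨i, hi, rfl⟩ := Finset.mem_image.mp (Finset.mem_coe.mp hy)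
          exact ⟨i, Finset.mem_of_mem_erase hi, rfl⟩
      obtain ⟨t', ht'S, ht'card, ht'span⟩ := ih (π '' S) (G'.image π) hG'card hspan
      -- lift `t'`
      have hlift : ∀ y ∈ t', ∃ s ∈ S, π s = y := fun y hy => ht'S (Finset.mem_coe.mpr hy)
      let s : (M ⧸ span R ({x} : Set M)) → M := fun y =>
        if hy : y ∈ t' then (hlift y hy).choose else 0
      have hs : ∀ y ∈ t', s y ∈ S ∧ π (s y) = y := by
        intro y hy
        simp only [s, dif_pos hy]
        exact (hlift y hy).choose_spec
      refine ⟨insert x (t'.image s), ?_, ?_, ?_⟩
      · intro z hz
        rcases Finset.mem_insert.mp (Finset.mem_coe.mp hz) with rfl | hz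
        · exact hxS
        · obtain ⟨y, hy, rfl⟩ := Finset.mem_image.mp hz
          exact (hs y hy).1
      · refine le_trans (Finset.card_insert_le _ _) ?_
        exact Nat.succ_le_succ (le_trans Finset.card_image_le ht'card)
      · apply le_antisymm
        · apply span_mono
          intro z hz
          rcases Finset.mem_insert.mp (Finset.mem_coe.mp hz) with rfl | hz
          · exact hxS
          · obtain ⟨y, hy, rfl⟩ := Finset.mem_image.mp hz
            exact (hs y hy).1
        · intro z hz
          have h1 : π z ∈ span R (π '' S) := by
            rw [← Submodule.map_span]; exact Submodule.mem_map_of_mem hz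
          rw [← ht'span] at h1
          have h2 : span R (t' : Set _) ≤ (span R ((t'.image s : Finset M) : Set M)).map π := by
            rw [span_le]
            intro y hy
            exact ⟨s y, subset_span (Finset.mem_coe.mpr (Finset.mem_image_of_mem s hy)),
              (hs y hy).2⟩
          obtain ⟨w', hw', hw'z⟩ := h2 h1
          have h3 : z - w' ∈ span R ({x} : Set M) := by
            rw [← Submodule.ker_mkQ (span R ({x} : Set M)), LinearMap.mem_ker, map_sub, hw'z,
              sub_self]
          have h4 : z = (z - w') + w' := by abel
          rw [h4]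
          refine Submodule.add_mem _ ?_ ?_
          · exact span_mono (by simp) h3
          · exact span_mono (by simp) hw'

end Groth.Agent.H94.RegDescentSel
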