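import Mathlib
import Groth.Agent.H94.RegDescentSel

/-!
# Faithfully flat descent of "locally generated by a sequence of kind `P`" (kind-generic core)
-/

set_option autoImplicit false
set_option linter.style.haveILetI false
universe u

namespace Groth.Agent.H94.RegDescent

/-- The per-kind inputs of the descent argument. -/
structure DescOK (P : ∀ (R : Type u) [CommRing R], List R → Prop) : Prop where
  flat : ∀ {R S : Type u} [CommRing R] [CommRing S] (φ : R →+* S), φ.Flat →
    ∀ l : List R, P R l → P S (l.map φ)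
  len : ∀ {R : Type u} [CommRing R] (a b : List R), P R a → Ideal.ofList a = Ideal.ofList b →
    Ideal.ofList a ≠ ⊤ → a.length ≤ b.length
  swap : ∀ {R : Type u} [CommRing R] (a b : List R), P R a → Ideal.ofList a = Ideal.ofList b →
    a.length = b.length → P R b
  unit : ∀ {R : Type u} [CommRing R] (l : List R), Ideal.ofList l = ⊤ → P R l
  desc : ∀ {R S : Type u} [CommRing R] [CommRing S] (φ : R →+* S), φ.Flat →
    Function.Surjective (PrimeSpectrum.comap φ) → ∀ l : List R, P S (l.map φ) → P R l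
  loc : ∀ {R : Type u} [CommRing R] (l : List R),
    (∀ (Q : Ideal R) [Q.IsPrime], P (Localization.AtPrime Q) (l.map (algebraMap R _))) → P R l

section plumbing

theorem ofList_fg {R : Type*} [CommRing R] (l : List R) : (Ideal.ofList l).FG :=
  Submodule.fg_span (List.finite_toSet l)

theorem ofList_le {R : Type*} [CommRing R] (l : List R) (I : Ideal R) (h : ∀ x ∈ l, x ∈ I) :
    Ideal.ofList l ≤ I := Ideal.span_le.mpr h

/-- If `a₁ I ⊆ (f₀) ⊆ I` and `ψ a₁` is a unit, then `I` and `f₀` generate the same ideal. -/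
theorem map_eq_ofList_of_isUnit {A R : Type*} [CommRing A] [CommRing R] (I : Ideal A)
    (f₀ : List A) (a₁ : A) (hf₀ : ∀ x ∈ f₀, x ∈ I) (hG : ∀ x ∈ I, a₁ * x ∈ Ideal.ofList f₀)
    (ψ : A →+* R) (hu : IsUnit (ψ a₁)) : I.map ψ = Ideal.ofList (f₀.map ψ) := by
  rw [← Ideal.map_ofList]
  apply le_antisymm
  · rw [Ideal.map_le_iff_le_comap]
    intro x hx
    rw [Ideal.mem_comap]
    have h1 := Ideal.mem_map_of_mem ψ (hG x hx)
    rw [map_mul] at h1
    exact (Ideal.unit_mul_mem_iff_mem _ hu).mp h1
  · exact Ideal.map_mono (ofList_le f₀ I hf₀)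

/-- A ring map out of a localization is flat as soon as its restriction to the base is. -/
theorem exists_lift_flat {R S T : Type u} [CommRing R] [CommRing S] [CommRing T] [Algebra R S]
    (M : Submonoid R) [IsLocalization M S] (χ : R →+* T) (hχ : χ.Flat)
    (hM : ∀ m : M, IsUnit (χ m)) :
    ∃ ψ : S →+* T, ψ.Flat ∧ ψ.comp (algebraMap R S) = χ := by
  refine ⟨IsLocalization.lift hM, ?_, IsLocalization.lift_comp hM⟩
  letI := χ.toAlgebra
  letI := (IsLocalization.lift (S := S) hM).toAlgebra
  haveI : IsScalarTower R S T := IsScalarTower.of_algebraMap_eq' (IsLocalization.lift_comp hM).symm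
  haveI : Module.Flat R T := hχ
  exact (Module.flat_iff_of_isLocalization S M T).mpr inferInstance

end plumbing

/-- `J` is locally (on basic opens around the primes containing it) generated by a sequence of
kind `P`. -/
def LocGen (P : ∀ (R : Type u) [CommRing R], List R → Prop) {B : Type u} [CommRing B]
    (J : Ideal B) : Prop :=
  ∀ q : PrimeSpectrum B, J ≤ q.asIdeal → ∃ h : B, h ∉ q.asIdeal ∧
    ∃ g : List (Localization.Away h), P _ g ∧
      J.map (algebraMap B (Localization.Away h)) = Ideal.ofList g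

section fg

variable {P : ∀ (R : Type u) [CommRing R], List R → Prop} {B : Type u} [CommRing B]

theorem LocGen.fg {J : Ideal B} (H : LocGen P J) : J.FG := by
  classical
  let t : Set B := {h | (J.map (algebraMap B (Localization.Away h))).FG}
  apply Ideal.fg_of_localizationSpan t ?_ (fun g => g.2)
  by_contra hne
  obtain ⟨m, hm, hle⟩ := Ideal.exists_le_maximal _ hne
  let q : PrimeSpectrum B := ⟨m, hm.isPrime⟩
  by_cases hq : J ≤ m
  · obtain ⟨h, hh, g, -, hg⟩ := H q hq
    apply hh
    apply hle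
    apply Ideal.subset_span
    show (J.map _).FG
    rw [hg]
    exact ofList_fg g
  · obtain ⟨e, he, hem⟩ := SetLike.not_le_iff_exists.mp hq
    apply hem
    apply hle
    apply Ideal.subset_span
    show (J.map _).FG
    have htop : J.map (algebraMap B (Localization.Away e)) = ⊤ :=
      Ideal.eq_top_of_isUnit_mem _ (Ideal.mem_map_of_mem _ he)
        (IsLocalization.Away.algebraMap_isUnit e)
    rw [htop]
    exact ⟨{1}, by simp⟩

end fg

section choose

/-- Over a local ring, if `I R` is generated by the list `g`, then at most `g.length` elements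
of `I` already generate `I R`. -/
theorem exists_list_of_map {A R : Type u} [CommRing A] [CommRing R] [IsLocalRing R]
    (ψ : A →+* R) (I : Ideal A) (g : List R) (hg : I.map ψ = Ideal.ofList g) :
    ∃ f : List A, (∀ x ∈ f, x ∈ I) ∧ f.length ≤ g.length ∧
      Ideal.ofList (f.map ψ) = I.map ψ := by
  classical
  have h0 : Submodule.span R (ψ '' (I : Set A)) = Submodule.span R ((g.toFinset : Finset R) : Set R) := by
    have h1 : ((g.toFinset : Finset R) : Set R) = {x | x ∈ g} := by
      ext x; simp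
    rw [h1]
    exact hg
  obtain ⟨t, htS, htcard, htspan⟩ :=
    Groth.Agent.H94.RegDescentSel.sel g.toFinset.card (ψ '' (I : Set A)) g.toFinset le_rfl h0
  have hlift : ∀ y ∈ t, ∃ x ∈ I, ψ x = y := fun y hy => htS (Finset.mem_coe.mpr hy)
  let c : R → A := fun y => if hy : y ∈ t then (hlift y hy).choose else 0
  have hc : ∀ y ∈ t, c y ∈ I ∧ ψ (c y) = y := by
    intro y hy
    simp only [c, dif_pos hy]
    exact (hlift y hy).choose_spec
  refine ⟨t.toList.map c, ?_, ?_, ?_⟩
  · intro x hx
    obtain ⟨y, hy, rfl⟩ := List.mem_map.mp hx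
    exact (hc y (Finset.mem_toList.mp hy)).1
  · rw [List.length_map, Finset.length_toList]
    exact le_trans htcard (List.toFinset_card_le g)
  · rw [List.map_map]
    have h2 : t.toList.map (ψ ∘ c) = t.toList := by
      conv_rhs => rw [← List.map_id t.toList]
      apply List.map_congr_left
      intro y hy
      exact (hc y (Finset.mem_toList.mp hy)).2
    rw [h2]
    have h3 : Ideal.ofList t.toList = Submodule.span R (t : Set R) := by
      unfold Ideal.ofList
      congr 1
      ext x; simp
    rw [h3, htspan]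
    rfl

end choose

section localHom

variable {A B : Type u} [CommRing A] [CommRing B]

/-- The local flat map `A_p → B_q` for `p = q ∩ A`, with the properties we need. -/
theorem exists_localHom (φ : A →+* B) (hφ : φ.Flat) (q : Ideal B) [q.IsPrime] (p : Ideal A)
    [p.IsPrime] (hpq : p = q.comap φ) :
    ∃ ρ : Localization.AtPrime p →+* Localization.AtPrime q, ρ.Flat ∧
      Function.Surjective (PrimeSpectrum.comap ρ) ∧
      ρ.comp (algebraMap A (Localization.AtPrime p)) =
        (algebraMap B (Localization.AtPrime q)).comp φ ∧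
      Function.Injective (Ideal.map ρ) := by
  let ρ := Localization.localRingHom p q φ hpq
  have hρflat : ρ.Flat := hφ.localRingHom q p hpq
  have hcomp : ρ.comp (algebraMap A (Localization.AtPrime p)) =
      (algebraMap B (Localization.AtPrime q)).comp φ := by
    ext x
    exact Localization.localRingHom_to_map p q φ hpq x
  letI := ρ.toAlgebra
  haveI : Module.Flat (Localization.AtPrime p) (Localization.AtPrime q) := hρflat
  haveI : IsLocalHom (algebraMap (Localization.AtPrime p) (Localization.AtPrime q)) :=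
    Localization.isLocalHom_localRingHom p q φ hpq
  haveI : Module.FaithfullyFlat (Localization.AtPrime p) (Localization.AtPrime q) :=
    Module.FaithfullyFlat.of_flat_of_isLocalHom
  exact ⟨ρ, hρflat, PrimeSpectrum.comap_surjective_of_faithfullyFlat, hcomp,
    Ideal.map_injective_of_faithfullyFlat⟩

end localHom

section spread

/-- Spreading out an inclusion of ideals from the local ring at `p` to a basic open. -/
theorem exists_mul_mem {A : Type u} [CommRing A] (I : Ideal A) (hI : I.FG) (p : Ideal A)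
    [p.IsPrime] (J : Ideal A)
    (h : I.map (algebraMap A (Localization.AtPrime p)) ≤
      J.map (algebraMap A (Localization.AtPrime p))) :
    ∃ a₁ : A, a₁ ∉ p ∧ ∀ x ∈ I, a₁ * x ∈ J := by
  classical
  obtain ⟨T, hT⟩ := hI
  have h1 : ∀ x ∈ T, ∃ v : A, v ∉ p ∧ v * x ∈ J := by
    intro x hx
    have hxI : x ∈ I := by rw [← hT]; exact Ideal.subset_span hx
    have h2 := h (Ideal.mem_map_of_mem _ hxI)
    obtain ⟨c, hc⟩ := (IsLocalization.mem_map_algebraMap_iff p.primeCompl _).mp h2
    rw [← map_mul] at hc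
    obtain ⟨u, hu⟩ := (IsLocalization.eq_iff_exists p.primeCompl _).mp hc
    refine ⟨u.1 * c.2.1, ?_, ?_⟩
    · exact (u * c.2).2
    · have : u.1 * c.2.1 * x = u.1 * c.1.1 := by rw [← hu]; ring
      rw [this]
      exact Ideal.mul_mem_left _ _ c.1.2
  choose! v hv using h1
  refine ⟨∏ x ∈ T, v x, ?_, ?_⟩
  · intro hmem
    obtain ⟨x, hx, hxp⟩ := (Ideal.IsPrime.prod_mem_iff).mp hmem
    exact (hv x hx).1 hxp
  · intro x hx
    rw [← hT] at hx
    induction hx using Submodule.span_induction with
    | mem y hy =>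
      obtain ⟨d, hd⟩ := Finset.dvd_prod_of_mem v hy
      rw [hd]
      have : v y * d * y = d * (v y * y) := by ring
      rw [this]
      exact Ideal.mul_mem_left _ _ (hv y hy).2
    | zero => rw [mul_zero]; exact Ideal.zero_mem _
    | add y z _ _ hy hz => rw [mul_add]; exact Ideal.add_mem _ hy hz
    | smul r y _ hy =>
      rw [smul_eq_mul, mul_left_comm]
      exact Ideal.mul_mem_left _ _ hy

end spread

section maps

variable {B : Type u} [CommRing B]

theorem flat_algebraMap_of_isLocalization (M : Submonoid B) (S : Type u) [CommRing S] [Algebra B S]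
    [IsLocalization M S] : (algebraMap B S).Flat :=
  (RingHom.flat_algebraMap_iff (R := B) (S := S)).mpr (IsLocalization.flat S M)

/-- For `h ∉ q`, a flat map `B_h → B_q` over `B`. -/
theorem exists_away_to_atPrime (h : B) (q : Ideal B) [q.IsPrime] (hq : h ∉ q) :
    ∃ θ : Localization.Away h →+* Localization.AtPrime q, θ.Flat ∧
      θ.comp (algebraMap B (Localization.Away h)) = algebraMap B (Localization.AtPrime q) := by
  refine exists_lift_flat (Submonoid.powers h) (algebraMap B (Localization.AtPrime q))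
    (flat_algebraMap_of_isLocalization q.primeCompl _) ?_
  rintro ⟨_, n, rfl⟩
  rw [map_pow]
  exact IsUnit.pow n (IsLocalization.map_units (Localization.AtPrime q) (⟨h, hq⟩ : q.primeCompl))

/-- A flat map `B_h → B_{hd}` over `B`. -/
theorem exists_away_to_away (h d : B) :
    ∃ θ : Localization.Away h →+* Localization.Away (h * d), θ.Flat ∧
      θ.comp (algebraMap B (Localization.Away h)) = algebraMap B (Localization.Away (h * d)) := by
  refine exists_lift_flat (Submonoid.powers h) (algebraMap B (Localization.Away (h * d)))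
    (flat_algebraMap_of_isLocalization (Submonoid.powers (h * d)) _) ?_
  rintro ⟨_, n, rfl⟩
  rw [map_pow]
  refine IsUnit.pow n ?_
  have h1 := IsLocalization.Away.algebraMap_isUnit (S := Localization.Away (h * d)) (h * d)
  rw [map_mul] at h1
  exact isUnit_of_mul_isUnit_left h1

end maps

section main

variable {P : ∀ (R : Type u) [CommRing R], List R → Prop}
variable {A B : Type u} [CommRing A] [CommRing B] (φ : A →+* B)
  (I : Ideal A) (f₀ : List A) (a₁ : A)

/-- In `B_q` (for `q ⊇ I B`, `φ a₁ ∉ q`) the lists `f₀` and `g` generate the same proper ideal. -/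
theorem ofList_atPrime_eq (hf₀ : ∀ x ∈ f₀, x ∈ I) (hG : ∀ x ∈ I, a₁ * x ∈ Ideal.ofList f₀)
    (q : Ideal B) [q.IsPrime] (hq : I.map φ ≤ q) (ha : φ a₁ ∉ q)
    (h : B) (g : List (Localization.Away h))
    (hg : (I.map φ).map (algebraMap B (Localization.Away h)) = Ideal.ofList g)
    (θ : Localization.Away h →+* Localization.AtPrime q)
    (hθ : θ.comp (algebraMap B (Localization.Away h)) = algebraMap B (Localization.AtPrime q)) :
    Ideal.ofList (f₀.map ((algebraMap B (Localization.AtPrime q)).comp φ)) =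
        Ideal.ofList (g.map θ) ∧
      Ideal.ofList (g.map θ) ≠ ⊤ := by
  have hu : IsUnit (((algebraMap B (Localization.AtPrime q)).comp φ) a₁) :=
    IsLocalization.map_units (Localization.AtPrime q) (⟨φ a₁, ha⟩ : q.primeCompl)
  have h1 := map_eq_ofList_of_isUnit I f₀ a₁ hf₀ hG _ hu
  have h2 : I.map ((algebraMap B (Localization.AtPrime q)).comp φ) = Ideal.ofList (g.map θ) := by
    rw [← Ideal.map_ofList, ← hg, Ideal.map_map, hθ, Ideal.map_map]
  refine ⟨by rw [← h1, h2], ?_⟩
  rw [← h2, ← Ideal.map_map]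
  intro htop
  have h3 : (I.map φ).map (algebraMap B (Localization.AtPrime q)) ≤
      IsLocalRing.maximalIdeal (Localization.AtPrime q) := by
    rw [← Localization.AtPrime.map_eq_maximalIdeal]
    exact Ideal.map_mono hq
  rw [htop] at h3
  exact (IsLocalRing.maximalIdeal.isMaximal _).ne_top (top_le_iff.mp h3)

/-- The engine: on `D(h φ(a₁))`, if the lengths agree then `f₀` is a `P`-sequence. -/
theorem seq_away_of_length_eq (hP : DescOK P) (hf₀ : ∀ x ∈ f₀, x ∈ I)
    (hG : ∀ x ∈ I, a₁ * x ∈ Ideal.ofList f₀)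
    (h : B) (g : List (Localization.Away h)) (hPg : P _ g)
    (hg : (I.map φ).map (algebraMap B (Localization.Away h)) = Ideal.ofList g)
    (hlen : g.length = f₀.length) :
    P (Localization.Away (h * φ a₁)) (f₀.map ((algebraMap B _).comp φ)) := by
  obtain ⟨θ, hθflat, hθ⟩ := exists_away_to_away h (φ a₁)
  have hu : IsUnit (((algebraMap B (Localization.Away (h * φ a₁))).comp φ) a₁) := by
    have h1 := IsLocalization.Away.algebraMap_isUnit (S := Localization.Away (h * φ a₁))
      (h * φ a₁)
    rw [map_mul] at h1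
    exact isUnit_of_mul_isUnit_right h1
  have h1 := map_eq_ofList_of_isUnit I f₀ a₁ hf₀ hG _ hu
  have h2 : I.map ((algebraMap B (Localization.Away (h * φ a₁))).comp φ) =
      Ideal.ofList (g.map θ) := by
    rw [← Ideal.map_ofList, ← hg, Ideal.map_map, hθ, Ideal.map_map]
  refine hP.swap (g.map θ) _ (hP.flat θ hθflat g hPg) (by rw [← h2, h1]) ?_
  rw [List.length_map, List.length_map, hlen]

/-- Passing from a basic open to the local ring of one of its points. -/
theorem seq_atPrime_of_away (hP : DescOK P) (c : B)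
    (hc : P (Localization.Away c) (f₀.map ((algebraMap B _).comp φ)))
    (q : Ideal B) [q.IsPrime] (hq : c ∉ q) :
    P (Localization.AtPrime q) (f₀.map ((algebraMap B _).comp φ)) := by
  obtain ⟨θ, hθflat, hθ⟩ := exists_away_to_atPrime c q hq
  have h1 := hP.flat θ hθflat _ hc
  rw [List.map_map] at h1
  have h2 : (θ : Localization.Away c → Localization.AtPrime q) ∘
      ((algebraMap B (Localization.Away c)).comp φ) =
      ((algebraMap B (Localization.AtPrime q)).comp φ) := by
    funext x
    have := congrArg (fun χ : B →+* Localization.AtPrime q => χ (φ x)) hθ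
    simpa using this
  rw [h2] at h1
  exact h1

/-- The locus in `Spec B` where `f₀` is a `P`-sequence in the local ring. -/
def OB (P : ∀ (R : Type u) [CommRing R], List R → Prop) : Set (PrimeSpectrum B) :=
  {q | φ a₁ ∉ q.asIdeal ∧
    P (Localization.AtPrime q.asIdeal) (f₀.map ((algebraMap B _).comp φ))}

/-- The locus in `Spec A` where `f₀` is a `P`-sequence in the local ring. -/
def OA (P : ∀ (R : Type u) [CommRing R], List R → Prop) : Set (PrimeSpectrum A) :=
  {p | a₁ ∉ p.asIdeal ∧ P (Localization.AtPrime p.asIdeal) (f₀.map (algebraMap A _))}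

theorem isOpen_OB (hP : DescOK P) (hf₀ : ∀ x ∈ f₀, x ∈ I)
    (hG : ∀ x ∈ I, a₁ * x ∈ Ideal.ofList f₀) (H : LocGen P (I.map φ)) :
    IsOpen (OB φ f₀ a₁ P) := by
  rw [isOpen_iff_forall_mem_open]
  rintro q ⟨hqa, hqP⟩
  by_cases hq : I.map φ ≤ q.asIdeal
  · obtain ⟨h, hh, g, hPg, hg⟩ := H q hq
    obtain ⟨θ, hθflat, hθ⟩ := exists_away_to_atPrime h q.asIdeal hh
    obtain ⟨heq, hne⟩ := ofList_atPrime_eq φ I f₀ a₁ hf₀ hG q.asIdeal hq hqa h g hg θ hθ
    have hPg' := hP.flat θ hθflat g hPg
    have hlen1 : (g.map θ).length ≤ (f₀.map ((algebraMap B _).comp φ)).length :=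
      hP.len _ _ hPg' heq.symm hne
    have hlen2 : (f₀.map ((algebraMap B (Localization.AtPrime q.asIdeal)).comp φ)).length ≤
        (g.map θ).length := hP.len _ _ hqP heq (heq ▸ hne)
    rw [List.length_map, List.length_map] at hlen1 hlen2
    have hc := seq_away_of_length_eq φ I f₀ a₁ hP hf₀ hG h g hPg hg (le_antisymm hlen1 hlen2)
    refine ⟨(PrimeSpectrum.basicOpen (h * φ a₁) : Set (PrimeSpectrum B)), ?_,
      (PrimeSpectrum.basicOpen (h * φ a₁)).2, ?_⟩
    · intro q' hq'
      have hq'' : h * φ a₁ ∉ q'.asIdeal := hq'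
      refine ⟨fun hmem => hq'' (Ideal.mul_mem_left _ _ hmem), ?_⟩
      exact seq_atPrime_of_away φ f₀ hP _ hc q'.asIdeal hq''
    · exact fun hmem => (q.2.mem_or_mem hmem).elim hh hqa
  · obtain ⟨e, he, heq⟩ := SetLike.not_le_iff_exists.mp hq
    refine ⟨(PrimeSpectrum.basicOpen (e * φ a₁) : Set (PrimeSpectrum B)), ?_,
      (PrimeSpectrum.basicOpen (e * φ a₁)).2, ?_⟩
    · intro q' hq'
      have hq'' : e * φ a₁ ∉ q'.asIdeal := hq'
      have hqa' : φ a₁ ∉ q'.asIdeal := fun hmem => hq'' (Ideal.mul_mem_left _ _ hmem)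
      have hqe' : e ∉ q'.asIdeal := fun hmem => hq'' (Ideal.mul_mem_right _ _ hmem)
      refine ⟨hqa', hP.unit _ ?_⟩
      have hu : IsUnit (((algebraMap B (Localization.AtPrime q'.asIdeal)).comp φ) a₁) :=
        IsLocalization.map_units (Localization.AtPrime q'.asIdeal)
          (⟨φ a₁, hqa'⟩ : q'.asIdeal.primeCompl)
      rw [← map_eq_ofList_of_isUnit I f₀ a₁ hf₀ hG _ hu, ← Ideal.map_map]
      exact Ideal.eq_top_of_isUnit_mem _ (Ideal.mem_map_of_mem _ he)
        (IsLocalization.map_units (Localization.AtPrime q'.asIdeal)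
          (⟨e, hqe'⟩ : q'.asIdeal.primeCompl))
    · exact fun hmem => (q.2.mem_or_mem hmem).elim heq hqa

theorem preimage_OA (hP : DescOK P) (hφ : φ.Flat) :
    PrimeSpectrum.comap φ ⁻¹' (OA f₀ a₁ P) = OB φ f₀ a₁ P := by
  ext q
  obtain ⟨ρ, hρflat, hρsurj, hρ, -⟩ :=
    exists_localHom φ hφ q.asIdeal (PrimeSpectrum.comap φ q).asIdeal rfl
  have hlist : (f₀.map (algebraMap A (Localization.AtPrime (PrimeSpectrum.comap φ q).asIdeal))).map ρ =
      f₀.map ((algebraMap B (Localization.AtPrime q.asIdeal)).comp φ) := by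
    rw [List.map_map]
    apply List.map_congr_left
    intro x _
    exact congrArg (fun χ : A →+* Localization.AtPrime q.asIdeal => χ x) hρ
  constructor
  · rintro ⟨h1, h2⟩
    refine ⟨h1, ?_⟩
    rw [← hlist]
    exact hP.flat ρ hρflat _ h2
  · rintro ⟨h1, h2⟩
    refine ⟨h1, hP.desc ρ hρflat hρsurj _ ?_⟩
    rw [hlist]
    exact h2

/-- **Faithfully flat descent** of "locally generated by a `P`-sequence". -/
theorem main (hP : DescOK P) (hφ : φ.Flat)
    (hsurj : Function.Surjective (PrimeSpectrum.comap φ)) (H : LocGen P (I.map φ)) :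
    LocGen P I := by
  intro p hp
  have hIfg : I.FG := by
    letI := φ.toAlgebra
    haveI : Module.Flat A B := hφ
    haveI : Module.FaithfullyFlat A B := Module.FaithfullyFlat.of_comap_surjective hsurj
    exact Ideal.FG.of_FG_map_of_faithfullyFlat (S := B) H.fg
  obtain ⟨q₀, hq₀⟩ := hsurj p
  have hpq : p.asIdeal = q₀.asIdeal.comap φ := by rw [← hq₀]; rfl
  have hq₀I : I.map φ ≤ q₀.asIdeal := by
    rw [Ideal.map_le_iff_le_comap, ← hpq]
    exact hp
  obtain ⟨h₀, hh₀, g₀, hPg₀, hg₀⟩ := H q₀ hq₀I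
  obtain ⟨θ₀, hθ₀flat, hθ₀⟩ := exists_away_to_atPrime h₀ q₀.asIdeal hh₀
  have hg₀' : I.map ((algebraMap B (Localization.AtPrime q₀.asIdeal)).comp φ) =
      Ideal.ofList (g₀.map θ₀) := by
    rw [← Ideal.map_ofList, ← hg₀, Ideal.map_map, hθ₀, Ideal.map_map]
  obtain ⟨f₀, hf₀I, hf₀len, hf₀gen⟩ := exists_list_of_map _ I (g₀.map θ₀) hg₀'
  obtain ⟨ρ, -, -, hρ, hρinj⟩ := exists_localHom φ hφ q₀.asIdeal p.asIdeal hpq
  have hAp : I.map (algebraMap A (Localization.AtPrime p.asIdeal)) ≤
      (Ideal.ofList f₀).map (algebraMap A (Localization.AtPrime p.asIdeal)) := by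
    apply le_of_eq
    apply hρinj
    rw [Ideal.map_map, Ideal.map_map, hρ, Ideal.map_ofList, hf₀gen]
  obtain ⟨a₁, ha₁, hG⟩ := exists_mul_mem I hIfg p.asIdeal (Ideal.ofList f₀) hAp
  have hq₀a : φ a₁ ∉ q₀.asIdeal := by
    intro hmem
    apply ha₁
    rw [hpq]
    exact hmem
  have hlen : g₀.length = f₀.length := by
    apply le_antisymm
    · obtain ⟨heq, hne⟩ :=
        ofList_atPrime_eq φ I f₀ a₁ hf₀I hG q₀.asIdeal hq₀I hq₀a h₀ g₀ hg₀ θ₀ hθ₀
      have := hP.len _ _ (hP.flat θ₀ hθ₀flat g₀ hPg₀) heq.symm hne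
      rwa [List.length_map, List.length_map] at this
    · rwa [List.length_map] at hf₀len
  have hc := seq_away_of_length_eq φ I f₀ a₁ hP hf₀I hG h₀ g₀ hPg₀ hg₀ hlen
  have hq₀OB : q₀ ∈ OB φ f₀ a₁ P :=
    ⟨hq₀a, seq_atPrime_of_away φ f₀ hP _ hc q₀.asIdeal
      (fun hmem => (q₀.2.mem_or_mem hmem).elim hh₀ hq₀a)⟩
  have hOA : IsOpen (OA f₀ a₁ P) := by
    rw [← (PrimeSpectrum.isQuotientMap_of_generalizingMap hsurj
      hφ.generalizingMap_comap).isOpen_preimage, preimage_OA φ f₀ a₁ hP hφ]
    exact isOpen_OB φ I f₀ a₁ hP hf₀I hG H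
  have hpOA : p ∈ OA f₀ a₁ P := by
    have h1 : q₀ ∈ PrimeSpectrum.comap φ ⁻¹' (OA f₀ a₁ P) := by
      rw [preimage_OA φ f₀ a₁ hP hφ]
      exact hq₀OB
    rw [Set.mem_preimage, hq₀] at h1
    exact h1
  obtain ⟨_, ⟨a', rfl⟩, hpa', ha'sub⟩ :=
    PrimeSpectrum.isTopologicalBasis_basic_opens.exists_subset_of_mem_open hpOA hOA
  have hu : IsUnit (algebraMap A (Localization.Away (a₁ * a')) a₁) := by
    have h1 := IsLocalization.Away.algebraMap_isUnit (S := Localization.Away (a₁ * a')) (a₁ * a')
    rw [map_mul] at h1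
    exact isUnit_of_mul_isUnit_left h1
  refine ⟨a₁ * a', fun hmem => (p.2.mem_or_mem hmem).elim ha₁ hpa', f₀.map (algebraMap A _), ?_,
    map_eq_ofList_of_isUnit I f₀ a₁ hf₀I hG _ hu⟩
  apply hP.loc
  intro Q _
  have hflat : (algebraMap A (Localization.Away (a₁ * a'))).Flat :=
    flat_algebraMap_of_isLocalization (Submonoid.powers (a₁ * a')) _
  obtain ⟨ρ', hρ'flat, -, hρ', -⟩ := exists_localHom (algebraMap A (Localization.Away (a₁ * a')))
    hflat Q (Q.comap (algebraMap A (Localization.Away (a₁ * a')))) rfl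
  have hp' : (⟨Q.comap (algebraMap A (Localization.Away (a₁ * a'))), inferInstance⟩ :
      PrimeSpectrum A) ∈ OA f₀ a₁ P := by
    apply ha'sub
    show a' ∉ Q.comap (algebraMap A (Localization.Away (a₁ * a')))
    intro hmem
    rw [Ideal.mem_comap] at hmem
    have h1 : algebraMap A (Localization.Away (a₁ * a')) (a₁ * a') ∈ Q := by
      rw [map_mul]
      exact Ideal.mul_mem_left _ _ hmem
    exact (Ideal.IsPrime.ne_top inferInstance) (Ideal.eq_top_of_isUnit_mem _ h1
      (IsLocalization.Away.algebraMap_isUnit (a₁ * a')))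
  have h2 := hP.flat ρ' hρ'flat _ hp'.2
  rw [List.map_map] at h2 ⊢
  have h3 : (ρ' : _ → _) ∘ (algebraMap A (Localization.AtPrime
      (Q.comap (algebraMap A (Localization.Away (a₁ * a')))))) =
      (algebraMap (Localization.Away (a₁ * a')) (Localization.AtPrime Q)) ∘
        (algebraMap A (Localization.Away (a₁ * a'))) := by
    funext x
    exact congrArg (fun χ : A →+* Localization.AtPrime Q => χ x) hρ'
  rw [← h3]
  exact h2

end main

end Groth.Agent.H94.RegDescent
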