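import Mathlib
import Groth.Prelude.Def_LCI2
import Groth.Agent.H94.RegDescentCore
import Groth.Agent.H79.KoszulMinGen
import Groth.Agent.H79.KoszulNat
import Groth.Agent.H79.KoszulFinLen
import Groth.Agent.H39.KoszulFlatBC

/-!
# The Koszul-regular kind satisfies the inputs of the descent argument
-/

set_option autoImplicit false
set_option linter.style.haveILetI false
universe u

open CategoryTheory CategoryTheory.Limits MonoidalCategory TensorProduct

namespace Groth.Agent.H94.RegDescent

open Groth.Agent.H79.KoszulCone

section homology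

variable {R : Type u} [CommRing R]

/-- Koszul cohomology with flat coefficients is the tensor product. -/
theorem nonempty_homology_tensor_iso (l : List R) (i : ℤ) (Pm : ModuleCat.{u} R)
    [Module.Flat R Pm] :
    Nonempty ((CohIII.koszulCx Pm l).homology i ≅
      (tensorRight Pm).obj ((Koszul.koszul R l).homology i)) := by
  obtain ⟨e⟩ := Groth.Agent.H79.KoszulEuler.nonempty_tensorCx_iso Pm l
  have e1 := (HomologicalComplex.homologyFunctor (ModuleCat.{u} R) (ComplexShape.up ℤ) i).mapIso e
  have := Groth.Agent.H79.KoszulNat.preservesHomology_tensorRight Pm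
  have e2 := ((Koszul.koszul R l).sc i).mapHomologyIso (tensorRight Pm)
  exact ⟨e1.symm ≪≫ e2⟩

/-- If the image sequence is Koszul-acyclic in degree `i` over a flat `R`-algebra `S`, then the
`i`-th Koszul cohomology of `l` dies after tensoring with `S`. -/
theorem subsingleton_tensor_of_isZero {S : Type u} [CommRing S] [Algebra R S] [Module.Flat R S]
    (l : List R) (i : ℤ)
    (h : IsZero ((Koszul.koszul S (l.map (algebraMap R S))).homology i)) :
    Subsingleton (((Koszul.koszul R l).homology i : ModuleCat.{u} R) ⊗[R] S) := by
  rw [koszul_eq] at h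
  have h1 := (Groth.Agent.H79.KoszulNat.isZero_homology_restrict_iff (algebraMap R S)
    (ModuleCat.of S S) l i).mpr h
  let e : S ≃ₗ[R] ((ModuleCat.restrictScalars (algebraMap R S)).obj (ModuleCat.of S S)) :=
    { toFun := fun s => s
      invFun := fun s => s
      map_add' := fun _ _ => rfl
      map_smul' := fun r s => by
        rw [Algebra.smul_def]
        rfl
      left_inv := fun _ => rfl
      right_inv := fun _ => rfl }
  haveI : Module.Flat R ((ModuleCat.restrictScalars (algebraMap R S)).obj (ModuleCat.of S S)) :=
    Module.Flat.of_linearEquiv e.symm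
  obtain ⟨e'⟩ := nonempty_homology_tensor_iso l i
    ((ModuleCat.restrictScalars (algebraMap R S)).obj (ModuleCat.of S S))
  have h2 := (e'.isZero_iff).mp h1
  have h3 : Subsingleton (((Koszul.koszul R l).homology i : ModuleCat.{u} R) ⊗[R]
      ((ModuleCat.restrictScalars (algebraMap R S)).obj (ModuleCat.of S S))) :=
    ModuleCat.subsingleton_of_isZero h2
  exact (TensorProduct.congr (LinearEquiv.refl R _) e).toEquiv.subsingleton

/-- A module all of whose localizations at primes vanish is zero (tensor form). -/
theorem subsingleton_of_forall_tensor_atPrime (M : Type u) [AddCommGroup M] [Module R M]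
    (h : ∀ (Q : Ideal R) [Q.IsPrime], Subsingleton (M ⊗[R] Localization.AtPrime Q)) :
    Subsingleton M := by
  apply Module.subsingleton_of_localization_maximal
    (fun Q _ => Localization.AtPrime Q ⊗[R] M)
    (fun Q _ => TensorProduct.mk R (Localization.AtPrime Q) M 1)
  intro Q _
  haveI := h Q
  exact (TensorProduct.comm R (Localization.AtPrime Q) M).toEquiv.subsingleton

end homology

section inputs

variable {R : Type u} [CommRing R]

theorem koszul_unit (l : List R) (h : Ideal.ofList l = ⊤) : LCI.IsKoszulRegularSeq R l := by
  intro i _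
  show IsZero ((Koszul.koszul R l).homology i)
  rw [koszul_eq]
  haveI : Subsingleton ((CohIII.koszulCx (ModuleCat.of R R) l).homology i) := by
    refine ⟨fun x y => ?_⟩
    have h1 : (1 : R) ∈ Ideal.ofList l := by rw [h]; trivial
    have hx := Groth.Agent.H79.KoszulFinLen.smul_homology_eq_zero (ModuleCat.of R R) l 1 h1 i x
    have hy := Groth.Agent.H79.KoszulFinLen.smul_homology_eq_zero (ModuleCat.of R R) l 1 h1 i y
    rw [one_smul] at hx hy
    rw [hx, hy]
  exact ModuleCat.isZero_of_subsingleton _

theorem koszul_desc {S : Type u} [CommRing S] (φ : R →+* S) (hφ : φ.Flat)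
    (hsurj : Function.Surjective (PrimeSpectrum.comap φ)) (l : List R)
    (h : LCI.IsKoszulRegularSeq S (l.map φ)) : LCI.IsKoszulRegularSeq R l := by
  intro i hi
  letI := φ.toAlgebra
  haveI : Module.Flat R S := hφ
  haveI : Module.FaithfullyFlat R S := Module.FaithfullyFlat.of_comap_surjective hsurj
  have h1 := subsingleton_tensor_of_isZero (S := S) l i (h i hi)
  haveI : Subsingleton ((Koszul.koszul R l).homology i : ModuleCat.{u} R) :=
    (Module.FaithfullyFlat.subsingleton_tensorProduct_iff_left R
      ((Koszul.koszul R l).homology i : ModuleCat.{u} R) (N := S)).mp h1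
  exact ModuleCat.isZero_of_subsingleton _

theorem koszul_loc (l : List R)
    (h : ∀ (Q : Ideal R) [Q.IsPrime],
      LCI.IsKoszulRegularSeq (Localization.AtPrime Q) (l.map (algebraMap R _))) :
    LCI.IsKoszulRegularSeq R l := by
  intro i hi
  haveI : Subsingleton ((Koszul.koszul R l).homology i : ModuleCat.{u} R) := by
    apply subsingleton_of_forall_tensor_atPrime (R := R)
    intro Q _
    haveI : Module.Flat R (Localization.AtPrime Q) := IsLocalization.flat _ Q.primeCompl
    exact subsingleton_tensor_of_isZero (S := Localization.AtPrime Q) l i (h Q i hi)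
  exact ModuleCat.isZero_of_subsingleton _

theorem descOK_koszul : DescOK.{u} (fun R _ l => LCI.IsKoszulRegularSeq R l) where
  flat φ hφ l h := Groth.Agent.H39.KoszulFlatBC.isKoszulRegularSeq_map_of_flat φ hφ l h
  len a b ha hab hI := Groth.Agent.H79.KoszulMinGen.length_le a b ha hab hI
  swap a b ha hab hlen := Groth.Agent.H79.KoszulMinGen.regular_of_length_eq a b ha hab hlen
  unit l h := koszul_unit l h
  desc φ hφ hsurj l h := koszul_desc φ hφ hsurj l h
  loc l h := koszul_loc l h

end inputs

end Groth.Agent.H94.RegDescent
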