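import Mathlib
import Groth.Prelude.Def_CAlgX
import Groth.Agent.H94.RegDescentCore
import Groth.Agent.H94.H1QuasiFlat
import Groth.Agent.H39.RelRegAlg
import Groth.Agent.H19.QuasiRegCot

/-!
# The quasi-regular kind satisfies the inputs of the descent argument
-/

set_option autoImplicit false
set_option linter.style.haveILetI false
universe u

namespace Groth.Agent.H94.RegDescent

open Groth.Agent.H39.RelRegAlg Groth.Agent.H19.QReg Groth.Agent.H19.QRegGen
  Groth.Agent.H19.QRegCot MvPolynomial

section quasi

variable {R : Type u} [CommRing R]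

theorem quasi_get_map_iff {S : Type u} [CommRing S] (φ : R →+* S) (l : List R) :
    CAlgX.IsQuasiRegular (l.map φ).get ↔ CAlgX.IsQuasiRegular (fun i => φ (l.get i)) := by
  constructor
  · intro h
    exact isQuasiRegular_congr (List.length_map φ).symm (l.map φ).get _ (fun i => by simp) h
  · intro h
    exact isQuasiRegular_get_of_eq_ofFn _ h _ (map_eq_ofFn _ _)

theorem quasi_flat {S : Type u} [CommRing S] (φ : R →+* S) (hφ : φ.Flat) (l : List R)
    (h : CAlgX.IsQuasiRegular l.get) : CAlgX.IsQuasiRegular (l.map φ).get :=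
  (quasi_get_map_iff φ l).mpr (Groth.Agent.H94.H1QuasiFlat.isQuasiRegular_map_of_flat φ hφ l.get h)

theorem quasi_unit (l : List R) (h : Ideal.ofList l = ⊤) : CAlgX.IsQuasiRegular l.get := by
  intro n P _ _ d
  rw [span_range_get, h]
  trivial

theorem quasi_swap (a b : List R) (ha : CAlgX.IsQuasiRegular a.get)
    (hab : Ideal.ofList a = Ideal.ofList b) (hlen : a.length = b.length) :
    CAlgX.IsQuasiRegular b.get := by
  let f' : Fin a.length → R := fun i => b.get (Fin.cast hlen i)
  have hrange : Set.range f' = Set.range b.get := by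
    ext x
    constructor
    · rintro ⟨i, rfl⟩; exact ⟨Fin.cast hlen i, rfl⟩
    · rintro ⟨j, rfl⟩; exact ⟨Fin.cast hlen.symm j, by simp [f']⟩
  have hspan : Ideal.span (Set.range f') = Ideal.span (Set.range a.get) := by
    rw [hrange, span_range_get, span_range_get, hab]
  have h1 : QR f' := qr_of_span_eq a.get f' ha hspan
  exact isQuasiRegular_congr hlen.symm f' b.get (fun i => by simp [f']) h1

theorem quasi_len (a b : List R) (ha : CAlgX.IsQuasiRegular a.get)
    (hab : Ideal.ofList a = Ideal.ofList b) (hI : Ideal.ofList a ≠ ⊤) :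
    a.length ≤ b.length := by
  classical
  set I := Ideal.ofList a with hIdef
  haveI : Nontrivial (R ⧸ I) := Ideal.Quotient.nontrivial_iff.mpr hI
  let fa : Fin a.length → I := fun i => ⟨a.get i, Ideal.subset_span (List.get_mem a i)⟩
  have hbI : ∀ j : Fin b.length, b.get j ∈ I := fun j => by
    rw [hab]; exact Ideal.subset_span (List.get_mem b j)
  let fb : Fin b.length → I := fun j => ⟨b.get j, hbI j⟩
  have hli := (forward I fa ha (span_range_get a)).1
  have hsp : Submodule.span (R ⧸ I) (Set.range fun j => I.toCotangent (fb j)) = ⊤ := by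
    rw [eq_top_iff]
    intro y _
    obtain ⟨x, rfl⟩ := I.toCotangent_surjective y
    have hx : (x : R) ∈ Ideal.span (Set.range fun j => (fb j : R)) := by
      have : (fun j => (fb j : R)) = b.get := rfl
      rw [this, span_range_get, ← hab]
      exact x.2
    obtain ⟨c, hc⟩ := Ideal.mem_span_range_iff_exists_fun.mp hx
    have hx' : x = ∑ j, c j • fb j := by
      apply Subtype.ext
      rw [coe_sum_smul, hc]
    rw [hx', ← sum_mk_smul_toCotangent]
    exact Submodule.sum_mem _ fun j _ =>
      Submodule.smul_mem _ _ (Submodule.subset_span ⟨j, rfl⟩)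
  let w : Finset I.Cotangent := Finset.univ.image (fun j => I.toCotangent (fb j))
  have hw : Submodule.span (R ⧸ I) (w : Set I.Cotangent) = ⊤ := by
    rw [← hsp]
    congr 1
    ext y
    simp [w]
  have h1 := linearIndependent_le_span_finset _ hli w hw
  rw [Cardinal.mk_fin, Nat.cast_le] at h1
  refine le_trans h1 (le_trans Finset.card_image_le ?_)
  simp

/-- Coefficients of a relation, after a ring map along which the sequence is quasi-regular. -/
theorem quasi_map_coeff_mem {S : Type u} [CommRing S] (φ : R →+* S) {c : ℕ} (f : Fin c → R)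
    (h : CAlgX.IsQuasiRegular (fun i => φ (f i))) (n : ℕ) (P : MvPolynomial (Fin c) R)
    (hP : P.IsHomogeneous n) (hev : eval f P ∈ Ideal.span (Set.range f) ^ (n + 1))
    (d : Fin c →₀ ℕ) : φ (P.coeff d) ∈ (Ideal.span (Set.range f)).map φ := by
  have hev' : eval (fun i => φ (f i)) (map φ P) ∈
      Ideal.span (Set.range fun i => φ (f i)) ^ (n + 1) := by
    have h0 : eval (fun i => φ (f i)) (map φ P) = φ (eval f P) := by
      rw [eval_map, ← eval₂_id, eval₂_comp_left φ (RingHom.id R) f P, RingHom.comp_id]
      rfl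
    rw [h0]
    have h2 := Ideal.mem_map_of_mem φ hev
    rw [Ideal.map_pow, Ideal.map_span, ← Set.range_comp] at h2
    exact h2
  have h1 := h n (map φ P) (hP.map φ) hev' d
  rw [coeff_map] at h1
  rw [Ideal.map_span, ← Set.range_comp]
  exact h1

theorem quasi_desc {S : Type u} [CommRing S] (φ : R →+* S) (hφ : φ.Flat)
    (hsurj : Function.Surjective (PrimeSpectrum.comap φ)) (l : List R)
    (h : CAlgX.IsQuasiRegular (l.map φ).get) : CAlgX.IsQuasiRegular l.get := by
  have h' := (quasi_get_map_iff φ l).mp h
  intro n P hP hev d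
  have h1 := quasi_map_coeff_mem φ l.get h' n P hP hev d
  letI := φ.toAlgebra
  haveI : Module.Flat R S := hφ
  haveI : Module.FaithfullyFlat R S := Module.FaithfullyFlat.of_comap_surjective hsurj
  have h2 : P.coeff d ∈ ((Ideal.span (Set.range l.get)).map (algebraMap R S)).comap
      (algebraMap R S) := h1
  rwa [Ideal.comap_map_eq_self_of_faithfullyFlat] at h2

theorem quasi_loc (l : List R)
    (h : ∀ (Q : Ideal R) [Q.IsPrime],
      CAlgX.IsQuasiRegular (l.map (algebraMap R (Localization.AtPrime Q))).get) :
    CAlgX.IsQuasiRegular l.get := by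
  intro n P hP hev d
  apply Ideal.mem_of_localization_maximal
  intro Q hQ
  haveI := hQ.isPrime
  exact quasi_map_coeff_mem (algebraMap R (Localization.AtPrime Q)) l.get
    ((quasi_get_map_iff _ l).mp (h Q)) n P hP hev d

theorem descOK_quasi : DescOK.{u} (fun R _ l => CAlgX.IsQuasiRegular l.get) where
  flat φ hφ l h := quasi_flat φ hφ l h
  len a b ha hab hI := quasi_len a b ha hab hI
  swap a b ha hab hlen := quasi_swap a b ha hab hlen
  unit l h := quasi_unit l h
  desc φ hφ hsurj l h := quasi_desc φ hφ hsurj l h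
  loc l h := quasi_loc l h

end quasi

end Groth.Agent.H94.RegDescent
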