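import Mathlib
import Groth.Prelude.Def_CAlgX
import Groth.Agent.H94.RegDescentQuasi
import Groth.Agent.H11.H1Quasi

/-!
# The `H_1`-regular kind satisfies the inputs of the descent argument
-/

set_option autoImplicit false
set_option linter.style.haveILetI false
universe u

namespace Groth.Agent.H94.RegDescent

open Groth.Agent.H39.RelRegAlg Groth.Agent.H19.QReg Groth.Agent.H19.QRegGen
  Groth.Agent.H19.QRegCot MvPolynomial Groth.Agent.H11.H1Reg

section h1swap

variable {R : Type u} [CommRing R] {n : ℕ}

/-- the trivial relation `b_m e_k - b_k e_m` -/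
theorem triv_mem_T (b : Fin n → R) (k m : Fin n) :
    (Pi.single k (b m) - Pi.single m (b k) : Fin n → R) ∈ T b :=
  Submodule.subset_span ⟨k, m, rfl⟩

/-- multiples of cycles by elements of the ideal are boundaries -/
theorem smul_mem_T_of_rel_eq_zero (b : Fin n → R) (z : Fin n → R) (hz : ∑ i, z i * b i = 0)
    (x : R) (hx : x ∈ Ideal.span (Set.range b)) : x • z ∈ T b := by
  classical
  induction hx using Submodule.span_induction with
  | mem y hy =>
    obtain ⟨k, rfl⟩ := hy
    have h1 : b k • z = ∑ i, z i • (Pi.single i (b k) - Pi.single k (b i) : Fin n → R) := by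
      funext j
      have e1 : ∑ i, z i * (if j = i then b k else 0) = z j * b k := by
        rw [Finset.sum_eq_single j]
        · simp
        · intro i _ hij
          simp [Ne.symm hij]
        · simp
      have e2 : ∑ i, z i * (if j = k then b i else 0) = 0 := by
        by_cases hjk : j = k
        · simp only [hjk, if_true]
          exact hz
        · simp [hjk]
      simp only [Pi.smul_apply, smul_eq_mul, Finset.sum_apply, Pi.sub_apply, Pi.single_apply,
        mul_sub, Finset.sum_sub_distrib]
      rw [e1, e2]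
      ring
    rw [h1]
    exact Submodule.sum_mem _ fun i _ => Submodule.smul_mem _ _ (triv_mem_T b i k)
  | zero => rw [zero_smul]; exact Submodule.zero_mem _
  | add x y _ _ hx hy => rw [add_smul]; exact Submodule.add_mem _ hx hy
  | smul r x _ hx => rw [smul_eq_mul, mul_smul]; exact Submodule.smul_mem _ _ hx

/-- right multiplication of row vectors by a matrix -/
def NT (N : Fin n → Fin n → R) : (Fin n → R) →ₗ[R] (Fin n → R) where
  toFun v := fun k => ∑ j, v j * N j k
  map_add' v w := by
    funext k
    simp [add_mul, Finset.sum_add_distrib]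
  map_smul' r v := by
    funext k
    simp [Finset.mul_sum, mul_assoc]

theorem NT_apply (N : Fin n → Fin n → R) (v : Fin n → R) (k : Fin n) :
    NT N v k = ∑ j, v j * N j k := rfl

/-- If `a = N b`, then `N^T` maps trivial relations of `a` to trivial relations of `b`. -/
theorem NT_mem_T (a b : Fin n → R) (N : Fin n → Fin n → R) (hN : ∀ i, ∑ j, N i j * b j = a i)
    {v : Fin n → R} (hv : v ∈ T a) : NT N v ∈ T b := by
  classical
  have hle : T a ≤ (T b).comap (NT N) := by
    unfold T
    rw [Submodule.span_le]
    rintro v ⟨i, j, rfl⟩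
    show NT N (Pi.single i (a j) - Pi.single j (a i)) ∈ T b
    have key : NT N (Pi.single i (a j) - Pi.single j (a i)) =
        ∑ m, ∑ k, (N j m * N i k) • (Pi.single k (b m) - Pi.single m (b k) : Fin n → R) := by
      funext k₀
      have hL : NT N (Pi.single i (a j) - Pi.single j (a i)) k₀ =
          a j * N i k₀ - a i * N j k₀ := by
        rw [NT_apply]
        simp only [Pi.sub_apply, sub_mul, Finset.sum_sub_distrib, Pi.single_apply, ite_mul,
          zero_mul, Finset.sum_ite_eq', Finset.mem_univ, if_true]
      have hS1 : ∑ m, ∑ k, N j m * N i k * (if k₀ = k then b m else 0) =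
          N i k₀ * a j := by
        rw [← hN j, Finset.mul_sum]
        refine Finset.sum_congr rfl fun m _ => ?_
        rw [Finset.sum_eq_single k₀]
        · simp; ring
        · intro k _ hk
          simp [Ne.symm hk]
        · simp
      have hS2 : ∑ m, ∑ k, N j m * N i k * (if k₀ = m then b k else 0) =
          N j k₀ * a i := by
        rw [Finset.sum_eq_single k₀]
        · rw [← hN i, Finset.mul_sum]
          refine Finset.sum_congr rfl fun k _ => ?_
          simp; ring
        · intro m _ hm
          simp [Ne.symm hm]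
        · simp
      rw [hL]
      simp only [Finset.sum_apply, Pi.smul_apply, Pi.sub_apply, Pi.single_apply, smul_eq_mul,
        mul_sub, Finset.sum_sub_distrib]
      rw [hS1, hS2]
      ring
    rw [key]
    exact Submodule.sum_mem _ fun m _ => Submodule.sum_mem _ fun k _ =>
      Submodule.smul_mem _ _ (triv_mem_T b k m)
  exact hle hv

/-- `H_1`-regularity only depends on the ideal (for sequences of the same length). -/
theorem h1_of_span_eq (a b : Fin n → R) (ha : CAlgX.IsH1Regular a)
    (h : Ideal.span (Set.range b) = Ideal.span (Set.range a)) : CAlgX.IsH1Regular b := by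
  classical
  have hM : ∀ i, ∃ m : Fin n → R, ∑ j, m j * a j = b i := fun i =>
    Ideal.mem_span_range_iff_exists_fun.mp (h ▸ Ideal.subset_span ⟨i, rfl⟩)
  have hN : ∀ i, ∃ m : Fin n → R, ∑ j, m j * b j = a i := fun i =>
    Ideal.mem_span_range_iff_exists_fun.mp (h.symm ▸ Ideal.subset_span ⟨i, rfl⟩)
  choose M hM using hM
  choose N hN using hN
  have hqa : QR a := Groth.Agent.H11.H1Quasi.isQuasiRegular_of_isH1Regular a ha
  have hqb : QR b := qr_of_span_eq a b hqa h
  intro c hc
  -- Step 1: the coefficients lie in the ideal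
  have hcJ : ∀ i, c i ∈ Ideal.span (Set.range b) := by
    intro i
    have h1 : eval b (linv c) ∈ Ideal.span (Set.range b) ^ (1 + 1) := by
      rw [eval_linv, hc]
      exact Ideal.zero_mem _
    have h2 := hqb 1 (linv c) (linv_isHomogeneous c) h1 (Finsupp.single i 1)
    rwa [coeff_linv] at h2
  -- Step 2: `M^T c` is a relation of `a`, hence trivial
  have hc' : ∑ j, (∑ i, c i * M i j) * a j = 0 := by
    calc ∑ j, (∑ i, c i * M i j) * a j = ∑ j, ∑ i, c i * M i j * a j := by
          simp only [Finset.sum_mul]
      _ = ∑ i, ∑ j, c i * M i j * a j := Finset.sum_comm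
      _ = ∑ i, c i * b i := by
          refine Finset.sum_congr rfl fun i _ => ?_
          rw [← hM i, Finset.mul_sum]
          exact Finset.sum_congr rfl fun j _ => by ring
      _ = 0 := hc
  have hc'T : (fun j => ∑ i, c i * M i j) ∈ T a := ha _ hc'
  -- Step 3: transport to `b`
  have h3 := NT_mem_T a b N hN hc'T
  -- Step 4: `N^T M^T c = c + E^T c`
  let E : Fin n → Fin n → R := fun i k => (∑ j, M i j * N j k) - if i = k then 1 else 0
  have hErel : ∀ i, ∑ k, E i k * b k = 0 := by
    intro i
    simp only [E, sub_mul, Finset.sum_sub_distrib, ite_mul, one_mul, zero_mul,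
      Finset.sum_ite_eq, Finset.mem_univ, if_true]
    rw [sub_eq_zero, ← hM i]
    calc ∑ k, (∑ j, M i j * N j k) * b k = ∑ k, ∑ j, M i j * N j k * b k := by
          simp only [Finset.sum_mul]
      _ = ∑ j, ∑ k, M i j * N j k * b k := Finset.sum_comm
      _ = ∑ j, M i j * a j := by
          refine Finset.sum_congr rfl fun j _ => ?_
          rw [← hN j, Finset.mul_sum]
          exact Finset.sum_congr rfl fun k _ => by ring
  have hdecomp : NT N (fun j => ∑ i, c i * M i j) = c + ∑ i, c i • E i := by
    funext k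
    rw [NT_apply]
    simp only [Pi.add_apply, Finset.sum_apply, Pi.smul_apply, smul_eq_mul, E, mul_sub,
      Finset.sum_sub_distrib, mul_ite, mul_one, mul_zero, Finset.sum_ite_eq', Finset.mem_univ,
      if_true]
    rw [add_sub_cancel]
    calc ∑ j, (∑ i, c i * M i j) * N j k = ∑ j, ∑ i, c i * M i j * N j k := by
          simp only [Finset.sum_mul]
      _ = ∑ i, ∑ j, c i * M i j * N j k := Finset.sum_comm
      _ = ∑ i, c i * ∑ j, M i j * N j k := by
          refine Finset.sum_congr rfl fun i _ => ?_
          rw [Finset.mul_sum]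
          exact Finset.sum_congr rfl fun j _ => by ring
  have hE : ∑ i, c i • E i ∈ T b :=
    Submodule.sum_mem _ fun i _ => smul_mem_T_of_rel_eq_zero b (E i) (hErel i) (c i) (hcJ i)
  have hfinal : c = NT N (fun j => ∑ i, c i * M i j) - ∑ i, c i • E i := by
    rw [hdecomp, add_sub_cancel_right]
  rw [hfinal]
  exact Submodule.sub_mem _ h3 hE

end h1swap

section h1desc

open TensorProduct

variable {R : Type u} [CommRing R] {S : Type u} [CommRing S] [Algebra R S] {n : ℕ}

/-- the `S`-linear extension of `v ↦ 1 ⊗ [v]` -/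
noncomputable def Psi (f : Fin n → R) : (Fin n → S) →ₗ[S] S ⊗[R] ((Fin n → R) ⧸ T f) :=
  ∑ i, (LinearMap.proj i : (Fin n → S) →ₗ[S] S).smulRight
    ((1 : S) ⊗ₜ[R] (Submodule.Quotient.mk (Pi.single i 1) : (Fin n → R) ⧸ T f))

theorem Psi_apply (f : Fin n → R) (w : Fin n → S) :
    Psi f w = ∑ i, w i •
      ((1 : S) ⊗ₜ[R] (Submodule.Quotient.mk (Pi.single i 1) : (Fin n → R) ⧸ T f)) := by
  simp [Psi]

theorem Psi_map (f a : Fin n → R) :
    Psi (S := S) f (fun i => algebraMap R S (a i)) =
      (1 : S) ⊗ₜ[R] (Submodule.Quotient.mk a : (Fin n → R) ⧸ T f) := by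
  classical
  rw [Psi_apply]
  have h0 : a = ∑ i, a i • (Pi.single i 1 : Fin n → R) := by
    funext j
    simp [Pi.single_apply]
  have h1 : (Submodule.Quotient.mk a : (Fin n → R) ⧸ T f) =
      ∑ i, a i • (Submodule.Quotient.mk (Pi.single i 1) : (Fin n → R) ⧸ T f) := by
    conv_lhs => rw [h0]
    exact (map_sum (T f).mkQ _ _).trans
      (Finset.sum_congr rfl fun i _ => map_smul (T f).mkQ _ _)
  rw [h1, tmul_sum]
  refine Finset.sum_congr rfl fun i _ => ?_
  rw [tmul_smul, algebraMap_smul]

/-- If `a` becomes a trivial relation after base change to `S`, then `1 ⊗ [a] = 0`. -/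
theorem one_tmul_mk_eq_zero (f a : Fin n → R)
    (hS : (fun i => algebraMap R S (a i)) ∈ T (fun i => algebraMap R S (f i))) :
    (1 : S) ⊗ₜ[R] (Submodule.Quotient.mk a : (Fin n → R) ⧸ T f) = 0 := by
  classical
  rw [← Psi_map]
  have hle : T (fun i => algebraMap R S (f i)) ≤ LinearMap.ker (Psi (S := S) f) := by
    refine Submodule.span_le.mpr ?_
    rintro v ⟨i, j, rfl⟩
    rw [SetLike.mem_coe, LinearMap.mem_ker]
    have h1 : (Pi.single i (algebraMap R S (f j)) - Pi.single j (algebraMap R S (f i)) :
        Fin n → S) =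
        fun k => algebraMap R S ((Pi.single i (f j) - Pi.single j (f i) : Fin n → R) k) := by
      funext k
      simp only [Pi.sub_apply, Pi.single_apply, map_sub]
      congr 1 <;> split_ifs <;> simp
    rw [h1, Psi_map, (Submodule.Quotient.mk_eq_zero _).mpr (triv_mem_T f i j), tmul_zero]
  exact hle hS

end h1desc

section h1

variable {R : Type u} [CommRing R]

theorem h1_get_map_iff {S : Type u} [CommRing S] (φ : R →+* S) (l : List R) :
    CAlgX.IsH1Regular (l.map φ).get ↔ CAlgX.IsH1Regular (fun i => φ (l.get i)) := by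
  constructor
  · intro h
    exact isH1Regular_congr (List.length_map φ).symm (l.map φ).get _ (fun i => by simp) h
  · intro h
    exact isH1Regular_get_of_eq_ofFn _ h _ (map_eq_ofFn _ _)

theorem h1_flat {S : Type u} [CommRing S] (φ : R →+* S) (hφ : φ.Flat) (l : List R)
    (h : CAlgX.IsH1Regular l.get) : CAlgX.IsH1Regular (l.map φ).get :=
  (h1_get_map_iff φ l).mpr (Groth.Agent.H94.H1QuasiFlat.isH1Regular_map_of_flat φ hφ l.get h)

theorem h1_unit (l : List R) (h : Ideal.ofList l = ⊤) : CAlgX.IsH1Regular l.get := by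
  intro c hc
  have h1 := smul_mem_T_of_rel_eq_zero l.get c hc 1 (by rw [span_range_get, h]; trivial)
  rwa [one_smul] at h1

theorem h1_swap (a b : List R) (ha : CAlgX.IsH1Regular a.get)
    (hab : Ideal.ofList a = Ideal.ofList b) (hlen : a.length = b.length) :
    CAlgX.IsH1Regular b.get := by
  let f' : Fin a.length → R := fun i => b.get (Fin.cast hlen i)
  have hrange : Set.range f' = Set.range b.get := by
    ext x
    constructor
    · rintro ⟨i, rfl⟩; exact ⟨Fin.cast hlen i, rfl⟩
    · rintro ⟨j, rfl⟩; exact ⟨Fin.cast hlen.symm j, by simp [f']⟩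
  have hspan : Ideal.span (Set.range f') = Ideal.span (Set.range a.get) := by
    rw [hrange, span_range_get, span_range_get, hab]
  have h1 : CAlgX.IsH1Regular f' := h1_of_span_eq a.get f' ha hspan
  exact isH1Regular_congr hlen.symm f' b.get (fun i => by simp [f']) h1

theorem h1_len (a b : List R) (ha : CAlgX.IsH1Regular a.get)
    (hab : Ideal.ofList a = Ideal.ofList b) (hI : Ideal.ofList a ≠ ⊤) :
    a.length ≤ b.length :=
  quasi_len a b (Groth.Agent.H11.H1Quasi.isQuasiRegular_of_isH1Regular a.get ha) hab hI

/-- a relation stays a relation after a ring map -/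
theorem map_rel {S : Type u} [CommRing S] (φ : R →+* S) {n : ℕ} (f c : Fin n → R)
    (hc : ∑ i, c i * f i = 0) : ∑ i, φ (c i) * φ (f i) = 0 := by
  simp only [← map_mul, ← map_sum, hc, map_zero]

theorem h1_desc {S : Type u} [CommRing S] (φ : R →+* S) (hφ : φ.Flat)
    (hsurj : Function.Surjective (PrimeSpectrum.comap φ)) (l : List R)
    (h : CAlgX.IsH1Regular (l.map φ).get) : CAlgX.IsH1Regular l.get := by
  have h' := (h1_get_map_iff φ l).mp h
  intro c hc
  letI := φ.toAlgebra
  haveI : Module.Flat R S := hφ
  haveI : Module.FaithfullyFlat R S := Module.FaithfullyFlat.of_comap_surjective hsurj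
  have h1 : (fun i => algebraMap R S (c i)) ∈ T (fun i => algebraMap R S (l.get i)) :=
    h' _ (map_rel φ l.get c hc)
  have h2 := one_tmul_mk_eq_zero (S := S) l.get c h1
  rw [Module.FaithfullyFlat.one_tmul_eq_zero_iff] at h2
  exact (Submodule.Quotient.mk_eq_zero _).mp h2

theorem h1_loc (l : List R)
    (h : ∀ (Q : Ideal R) [Q.IsPrime],
      CAlgX.IsH1Regular (l.map (algebraMap R (Localization.AtPrime Q))).get) :
    CAlgX.IsH1Regular l.get := by
  intro c hc
  have h2 : (Submodule.Quotient.mk c : (Fin l.length → R) ⧸ T l.get) = 0 := by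
    apply Module.eq_zero_of_localization_maximal
      (fun Q _ => TensorProduct R (Localization.AtPrime Q) ((Fin l.length → R) ⧸ T l.get))
      (fun Q _ => TensorProduct.mk R (Localization.AtPrime Q) _ 1)
    intro Q hQ
    haveI := hQ.isPrime
    have h' := (h1_get_map_iff (algebraMap R (Localization.AtPrime Q)) l).mp (h Q)
    exact one_tmul_mk_eq_zero (S := Localization.AtPrime Q) l.get c
      (h' _ (map_rel (algebraMap R (Localization.AtPrime Q)) l.get c hc))
  exact (Submodule.Quotient.mk_eq_zero _).mp h2

theorem descOK_h1 : DescOK.{u} (fun _ _ l => CAlgX.IsH1Regular l.get) where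
  flat φ hφ l h := h1_flat φ hφ l h
  len a b ha hab hI := h1_len a b ha hab hI
  swap a b ha hab hlen := h1_swap a b ha hab hlen
  unit l h := h1_unit l h
  desc φ hφ hsurj l h := h1_desc φ hφ hsurj l h
  loc l h := h1_loc l h

end h1

end Groth.Agent.H94.RegDescent
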