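import Mathlib

/-!
# Lifting regular sequences along a surjection whose kernel is generated by a regular sequence
(helper94)
-/

namespace Groth.Agent.H94.RegSeqAppend

open RingTheory.Sequence
open scoped Pointwise

theorem isWeaklyRegular_append_of_surjective {Q L : Type*} [CommRing Q] [CommRing L] (ρ : Q →+* L)
    (hρ : Function.Surjective ρ) (rs₁ : List Q) (hker : RingHom.ker ρ = Ideal.ofList rs₁)
    (h1 : IsWeaklyRegular Q rs₁) (rs₂ : List Q) (h2 : IsWeaklyRegular L (rs₂.map ρ)) :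
    IsWeaklyRegular Q (rs₁ ++ rs₂) := by
  letI := ρ.toAlgebra
  rw [isWeaklyRegular_append_iff]
  refine ⟨h1, ?_⟩
  have hk : LinearMap.ker (Algebra.linearMap Q L) = (Ideal.ofList rs₁ • ⊤ : Submodule Q Q) := by
    rw [smul_eq_mul, Ideal.mul_top, ← hker]
    rfl
  have hsurj : Function.Surjective (Algebra.linearMap Q L) := hρ
  let e : (Q ⧸ (Ideal.ofList rs₁ • ⊤ : Submodule Q Q)) ≃ₗ[Q] L :=
    (Submodule.quotEquivOfEq _ _ hk.symm).trans
      ((Algebra.linearMap Q L).quotKerEquivOfSurjective hsurj)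
  refine (e.toAddEquiv.isWeaklyRegular_congr (as := rs₂) (bs := rs₂.map ρ) ?_).mpr h2
  refine List.forall₂_map_right_iff.mpr (List.forall₂_same.mpr fun r _ x => ?_)
  change e (r • x) = ρ r • e x
  rw [map_smul, Algebra.smul_def]
  rfl

theorem isRegular_append_of_surjective {Q L : Type*} [CommRing Q] [CommRing L] (ρ : Q →+* L)
    (hρ : Function.Surjective ρ) (rs₁ : List Q) (hker : RingHom.ker ρ = Ideal.ofList rs₁)
    (h1 : IsWeaklyRegular Q rs₁) (rs₂ : List Q) (h2 : IsRegular L (rs₂.map ρ)) :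
    IsRegular Q (rs₁ ++ rs₂) := by
  refine ⟨isWeaklyRegular_append_of_surjective ρ hρ rs₁ hker h1 rs₂ h2.toIsWeaklyRegular, ?_⟩
  intro htop
  apply h2.top_ne_smul
  rw [smul_eq_mul, Ideal.mul_top] at htop ⊢
  rw [← Ideal.map_ofList]
  have h3 : Ideal.map ρ (Ideal.ofList (rs₁ ++ rs₂)) = ⊤ := by
    rw [← htop]; exact Ideal.map_top ρ
  rw [Ideal.ofList_append, Ideal.map_sup, ← hker, (Ideal.map_eq_bot_iff_le_ker ρ).mpr le_rfl,
    bot_sup_eq] at h3
  exact h3.symm

end Groth.Agent.H94.RegSeqAppend
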