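import Mathlib

/-!
# The local ring of a fibre (helper94)

For `R → S`, a prime `p` of `R` and a prime `q̄` of the fibre ring `p.Fiber S = κ(p) ⊗[R] S`
with `q = q̄ ∩ S`: the natural local homomorphism `S_q → (p.Fiber S)_{q̄}` is surjective with kernel
`p S_q`.
-/

set_option autoImplicit false
set_option linter.style.haveILetI false
universe u

open TensorProduct

namespace Groth.Agent.H94.FibLoc

variable {R S : Type u} [CommRing R] [CommRing S] [Algebra R S] (p : Ideal R) [p.IsPrime]

/-- the ring map `S → κ(p) ⊗[R] S`. -/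
noncomputable abbrev inc : S →+* p.Fiber S :=
  (Algebra.TensorProduct.includeRight : S →ₐ[R] p.Fiber S).toRingHom

theorem exists_smul_mem_of_one_tmul_eq_zero (c : S)
    (h : (1 : p.ResidueField) ⊗ₜ[R] c = 0) :
    ∃ t : R, t ∉ p ∧ t • c ∈ p.map (algebraMap R S) := by
  letI : Algebra S (p.Fiber S) := Algebra.TensorProduct.rightAlgebra
  have h2 : (Ideal.Fiber.algEquivAux₁ p) ((1 : p.ResidueField) ⊗ₜ[R] c) = algebraMap S _ c := by
    have : (1 : p.ResidueField) ⊗ₜ[R] c = algebraMap S (p.Fiber S) c := rfl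
    rw [this]
    exact AlgEquiv.commutes _ c
  rw [h, map_zero] at h2
  have h3 : algebraMap S (Localization (Algebra.algebraMapSubmonoid S p.primeCompl)) c ∈
      (p.map (algebraMap R S)).map
        (algebraMap S (Localization (Algebra.algebraMapSubmonoid S p.primeCompl))) := by
    rw [← Ideal.Quotient.eq_zero_iff_mem]
    exact h2.symm
  obtain ⟨⟨a, m⟩, ha⟩ := (IsLocalization.mem_map_algebraMap_iff
    (Algebra.algebraMapSubmonoid S p.primeCompl) _).mp h3
  rw [← map_mul] at ha
  obtain ⟨m', hm'⟩ := (IsLocalization.eq_iff_exists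
    (Algebra.algebraMapSubmonoid S p.primeCompl) _).mp ha
  obtain ⟨t, ht, htm⟩ := m.2
  obtain ⟨t', ht', htm'⟩ := m'.2
  refine ⟨t' * t, p.primeCompl.mul_mem ht' ht, ?_⟩
  have : (t' * t) • c = m'.1 * a.1 := by
    rw [← hm', ← htm, ← htm', Algebra.smul_def, map_mul]
    ring
  rw [this]
  exact Ideal.mul_mem_left _ _ a.2

variable (q : Ideal (p.Fiber S)) [q.IsPrime]

/-- elements of `R ∖ p` act invertibly modulo `q̄`. -/
theorem smul_mem_iff (r : R) (hr : r ∉ p) (x : p.Fiber S) : r • x ∈ q ↔ x ∈ q := by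
  rw [Algebra.smul_def]
  refine ⟨fun h => (Ideal.IsPrime.mem_or_mem inferInstance h).resolve_left ?_,
    fun h => Ideal.mul_mem_left _ _ h⟩
  intro hmem
  apply hr
  have : r ∈ q.under R := hmem
  rwa [← Ideal.over_def q p] at this

/-- the local homomorphism `S_q → (κ(p) ⊗ S)_{q̄}`. -/
noncomputable def sigma : Localization.AtPrime (q.comap (inc (S := S) p)) →+*
    Localization.AtPrime q :=
  Localization.localRingHom (q.comap (inc (S := S) p)) q (inc p) rfl

theorem sigma_algebraMap (x : S) :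
    sigma p q (algebraMap S _ x) = algebraMap (p.Fiber S) _ ((1 : p.ResidueField) ⊗ₜ[R] x) :=
  Localization.localRingHom_to_map _ _ _ _ x

theorem sigma_comp : (sigma p q).comp (algebraMap S _) =
    (algebraMap (p.Fiber S) (Localization.AtPrime q)).comp (inc p) :=
  RingHom.ext fun x => sigma_algebraMap p q x

theorem sigma_surjective : Function.Surjective (sigma p q) := by
  intro z
  obtain ⟨x, s, rfl⟩ := IsLocalization.exists_mk'_eq q.primeCompl z
  obtain ⟨r, hr, a, ha⟩ := Ideal.Fiber.exists_smul_eq_one_tmul p x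
  obtain ⟨r', hr', b, hb⟩ := Ideal.Fiber.exists_smul_eq_one_tmul p s.1
  have hb' : (1 : p.ResidueField) ⊗ₜ[R] b ∉ q := by
    rw [← hb, smul_mem_iff p q r' hr']
    exact s.2
  have hrb : r • b ∉ q.comap (inc (S := S) p) := by
    intro hmem
    have h1 : (1 : p.ResidueField) ⊗ₜ[R] (r • b) ∈ q := hmem
    rw [TensorProduct.tmul_smul, smul_mem_iff p q r hr] at h1
    exact hb' h1
  refine ⟨IsLocalization.mk' _ (r' • a) (⟨r • b, hrb⟩ : (q.comap (inc (S := S) p)).primeCompl), ?_⟩
  unfold sigma
  rw [Localization.localRingHom_mk']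
  apply IsLocalization.mk'_eq_of_eq
  show (1 : p.ResidueField) ⊗ₜ[R] (r • b) * x = s.1 * (1 : p.ResidueField) ⊗ₜ[R] (r' • a)
  rw [TensorProduct.tmul_smul, TensorProduct.tmul_smul, ← hb, ← ha]
  simp only [Algebra.smul_def]
  ring

theorem ker_sigma : RingHom.ker (sigma p q) =
    p.map (algebraMap R (Localization.AtPrime (q.comap (inc (S := S) p)))) := by
  apply le_antisymm
  · intro z hz
    rw [RingHom.mem_ker] at hz
    obtain ⟨a, t, rfl⟩ := IsLocalization.exists_mk'_eq (q.comap (inc (S := S) p)).primeCompl z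
    unfold sigma at hz
    rw [Localization.localRingHom_mk', IsLocalization.mk'_eq_zero_iff] at hz
    obtain ⟨s, hs⟩ := hz
    obtain ⟨r', hr', b, hb⟩ := Ideal.Fiber.exists_smul_eq_one_tmul p s.1
    have hb' : (1 : p.ResidueField) ⊗ₜ[R] b ∉ q := by
      rw [← hb, smul_mem_iff p q r' hr']
      exact s.2
    have h0 : (1 : p.ResidueField) ⊗ₜ[R] (b * a) = 0 := by
      have : (1 : p.ResidueField) ⊗ₜ[R] (b * a) =
          ((1 : p.ResidueField) ⊗ₜ[R] b) * ((1 : p.ResidueField) ⊗ₜ[R] a) := by
        rw [Algebra.TensorProduct.tmul_mul_tmul, mul_one]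
      rw [this, ← hb, smul_mul_assoc]
      have hs' : s.1 * (1 : p.ResidueField) ⊗ₜ[R] a = 0 := hs
      rw [hs', smul_zero]
    obtain ⟨t', ht', hmem⟩ := exists_smul_mem_of_one_tmul_eq_zero p (b * a) h0
    -- `t' • b` is a unit in `S_q`
    have htb : t' • b ∉ q.comap (inc (S := S) p) := by
      intro hmem'
      have h1 : (1 : p.ResidueField) ⊗ₜ[R] (t' • b) ∈ q := hmem'
      rw [TensorProduct.tmul_smul, smul_mem_iff p q t' ht'] at h1
      exact hb' h1
    have hu : IsUnit (algebraMap S (Localization.AtPrime (q.comap (inc (S := S) p))) (t' • b)) :=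
      IsLocalization.map_units _ (⟨t' • b, htb⟩ : (q.comap (inc (S := S) p)).primeCompl)
    have h1 : algebraMap S (Localization.AtPrime (q.comap (inc (S := S) p))) (t' • (b * a)) ∈
        p.map (algebraMap R (Localization.AtPrime (q.comap (inc (S := S) p)))) := by
      have := Ideal.mem_map_of_mem
        (algebraMap S (Localization.AtPrime (q.comap (inc (S := S) p)))) hmem
      rwa [Ideal.map_map, ← IsScalarTower.algebraMap_eq] at this
    have h2 : t' • (b * a) = (t' • b) * a := (smul_mul_assoc t' b a).symm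
    rw [h2, map_mul] at h1
    have h3 := (Ideal.unit_mul_mem_iff_mem _ hu).mp h1
    rw [← IsLocalization.mk'_spec' _ a t] at h3
    exact (Ideal.unit_mul_mem_iff_mem _ (IsLocalization.map_units _ t)).mp h3
  · rw [Ideal.map_le_iff_le_comap]
    intro c hc
    rw [Ideal.mem_comap, RingHom.mem_ker,
      IsScalarTower.algebraMap_apply R S (Localization.AtPrime (q.comap (inc (S := S) p))),
      sigma_algebraMap]
    have : (1 : p.ResidueField) ⊗ₜ[R] (algebraMap R S c) = 0 := by
      rw [Algebra.algebraMap_eq_smul_one, ← TensorProduct.smul_tmul, Algebra.smul_def, mul_one,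
        Ideal.algebraMap_residueField_eq_zero.mpr hc, TensorProduct.zero_tmul]
    rw [this, map_zero]

end Groth.Agent.H94.FibLoc
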