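import Mathlib
import Groth.Agent.H47.TransReg.Ring
import Groth.Agent.H61.Obs.KoszulBridge
import Groth.Agent.H15.Koszul3
import Groth.Agent.H79.KoszulMinGen
import Groth.Agent.H94.KAt
import Groth.Agent.H94.FibLoc

/-!
# Fibre criterion for Koszul-regularity of an ideal with flat quotient (helper94)

`R → P` of finite presentation, flat at `Q`; `I ⊆ Q` a finitely generated ideal with `P ⧸ I` flat
over `R`.  If the image of `I` in the local ring of the fibre at `Q` is generated by a regular
sequence, then `I` is generated by a Koszul-regular sequence on a principal open neighbourhood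
of `Q` (`KAt I Q`).  This generalises helper47's `TransReg.exists_away_regular` (no regularity
assumption on the fibre of `P`).
-/

set_option autoImplicit false
set_option linter.unusedSectionVars false
set_option linter.style.haveILetI false
universe u

namespace Groth.Agent.H94.KoszulFC

open RingTheory.Sequence IsLocalRing Groth.Agent.H47.CI Groth.Agent.H47.CMSlice
  Groth.Agent.H49.FlatApprox Groth.Agent.H47.TransReg Groth.Agent.H94.KAt TensorProduct

/-- weakly regular sequences are Koszul-regular. -/
theorem koszul_of_weaklyRegular {A : Type u} [CommRing A] (l : List A)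
    (hl : IsWeaklyRegular A l) : LCI.IsKoszulRegularSeq A l :=
  fun i hi => Groth.Agent.H79.KoszulCone.isZero_homology_of_isWeaklyRegular l hl i hi

/-- in a Noetherian local ring a Koszul-regular sequence generating a proper ideal is regular. -/
theorem isRegular_of_koszul {F : Type u} [CommRing F] [IsLocalRing F] [IsNoetherianRing F]
    (l : List F) (hl : LCI.IsKoszulRegularSeq F l) (hne : Ideal.ofList l ≠ ⊤) :
    IsRegular F l := by
  have hmem : ∀ r ∈ l, r ∈ maximalIdeal F := fun r hr =>
    IsLocalRing.le_maximalIdeal hne (Ideal.subset_span hr)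
  have h1 := Groth.Agent.H61.Obs.koszulH1Zero_of_isKoszulRegularSeq l hl
  have h2 := Groth.Agent.H15.isWeaklyRegular_of_koszulH1Zero
    (fun i : Fin l.length => l.get i) (fun i => by
      rw [IsLocalRing.jacobson_eq_maximalIdeal ⊥ bot_ne_top]
      exact hmem _ (List.get_mem _ _)) F h1
  rw [List.ofFn_get] at h2
  exact IsRegular.of_isWeaklyRegular_of_mem_maximalIdeal _ hmem h2

/-- generators of the extension of `I` to a Noetherian local ring `F` can be chosen in `I`,
forming a regular sequence if the extension is generated by some regular sequence. -/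
theorem exists_list_of_isRegular_noeth {B : Type u} [CommRing B] (I : Ideal B)
    (F : Type u) [CommRing F] [IsLocalRing F] [IsNoetherianRing F] (π : B →+* F)
    (hrs : ∃ rs : List F, IsRegular F rs ∧ I.map π = Ideal.ofList rs) :
    ∃ hs : List B, (∀ h ∈ hs, h ∈ I) ∧ IsRegular F (hs.map π) ∧
      Ideal.ofList (hs.map π) = I.map π := by
  obtain ⟨rs, hreg, hI⟩ := hrs
  obtain ⟨hs, hmemI, hlen, hgen⟩ :=
    Groth.Agent.H94.RegDescent.exists_list_of_map π I rs hI
  have hne : Ideal.ofList rs ≠ ⊤ := by
    intro htop
    apply hreg.top_ne_smul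
    rw [htop, smul_eq_mul, Ideal.mul_top]
  have hkr : LCI.IsKoszulRegularSeq F rs := koszul_of_weaklyRegular rs hreg.toIsWeaklyRegular
  have hab : Ideal.ofList rs = Ideal.ofList (hs.map π) := by rw [hgen, hI]
  have hlen' : rs.length = (hs.map π).length := by
    apply le_antisymm (Groth.Agent.H79.KoszulMinGen.length_le rs (hs.map π) hkr hab hne)
    rw [List.length_map]
    exact hlen
  have hkr' := Groth.Agent.H79.KoszulMinGen.regular_of_length_eq rs (hs.map π) hkr hab hlen'
  exact ⟨hs, hmemI, isRegular_of_koszul _ hkr' (by rw [← hab]; exact hne), hgen⟩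

/-- **Spreading out** (second half of helper47's `exists_away_regular`): a list in `I` which is a
regular sequence modulo `𝔪 = p B_q` and generates `I B_q` modulo `𝔪` is weakly regular and
generates `I` on a principal open neighbourhood of `q`. -/
theorem exists_away_of_list (H : Hyp4848.{u}) (A : Type u) [CommRing A]
    (B : Type u) [CommRing B] [Algebra A B] [Algebra.FinitePresentation A B]
    (q : Ideal B) [q.IsPrime] (Bq : Type u) [CommRing Bq] [Algebra B Bq]
    [IsLocalization.AtPrime Bq q] [IsLocalRing Bq] [Algebra A Bq] [IsScalarTower A B Bq]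
    (hflat : Module.Flat A Bq)
    (I : Ideal B) (hIfg : I.FG) [Module.Flat A (B ⧸ I)]
    (hs : List B) (hmemI : ∀ h ∈ hs, h ∈ I) (hmem : ∀ h ∈ hs, h ∈ q)
    (hregSeq : RegSeq ((q.comap (algebraMap A B)).map (algebraMap A Bq))
      (hs.map (algebraMap B Bq)))
    (hle : I.map (algebraMap B Bq) ≤ (Ideal.ofList hs).map (algebraMap B Bq) ⊔
      (q.comap (algebraMap A B)).map (algebraMap A Bq)) :
    ∃ g : B, g ∉ q ∧
      ∀ (Bg : Type u) [CommRing Bg] [Algebra B Bg] [IsLocalization.Away g Bg],
        IsWeaklyRegular Bg (hs.map (algebraMap B Bg)) ∧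
          Ideal.ofList (hs.map (algebraMap B Bg)) = I.map (algebraMap B Bg) := by
  classical
  set 𝔪 : Ideal Bq := (q.comap (algebraMap A B)).map (algebraMap A Bq) with h𝔪
  obtain ⟨g₀, hg₀, R₀, _, _, _, _, hAway₀, hgood₀⟩ := slice_list H A B q Bq hflat hs hmem hregSeq
  haveI := hAway₀
  have h𝔪le : 𝔪 ≤ maximalIdeal Bq := by
    rw [h𝔪, Ideal.map_le_iff_le_comap]
    intro a ha
    rw [Ideal.mem_comap, IsScalarTower.algebraMap_apply A B Bq]
    exact (IsLocalization.AtPrime.to_map_mem_maximal_iff Bq q _).mpr ha
  have hK'K : (Ideal.ofList hs).map (algebraMap B Bq) ≤ I.map (algebraMap B Bq) := by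
    refine Ideal.map_mono ?_
    rw [Ideal.ofList, Ideal.span_le]
    exact fun h hh => hmemI h hh
  haveI : Module.Flat (B ⧸ I) (Bq ⧸ I.map (algebraMap B Bq)) :=
    IsLocalization.flat _ (Algebra.algebraMapSubmonoid (B ⧸ I) q.primeCompl)
  haveI : Module.Flat A (Bq ⧸ I.map (algebraMap B Bq)) :=
    Module.Flat.trans A (B ⧸ I) (Bq ⧸ I.map (algebraMap B Bq))
  have hKK' : I.map (algebraMap B Bq) = (Ideal.ofList hs).map (algebraMap B Bq) :=
    eq_of_le_sup_map_of_flat A Bq (q.comap (algebraMap A B)) h𝔪le _ _ hK'K
      (Ideal.FG.map hIfg _) hle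
  obtain ⟨t, ht, htI⟩ := Groth.Agent.H39.RegSpread2.exists_mul_mem_of_map_le q Bq I
    (Ideal.ofList hs) hIfg hKK'.le
  -- the localization away from `g₀ t`
  have hr : algebraMap B R₀ t ∉ q.map (algebraMap B R₀) := by
    intro h
    have h1 : t ∈ (q.map (algebraMap B R₀)).comap (algebraMap B R₀) := h
    rw [comap_map_away q R₀ g₀ hg₀] at h1
    exact ht h1
  obtain ⟨g, hg, hAway⟩ := exists_away_of_away_away q R₀ g₀ hg₀ (algebraMap B R₀ t) hr
    (Localization.Away (algebraMap B R₀ t))
  haveI := hAway
  refine ⟨g, hg, ?_⟩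
  have hlist₂ : (hs.map (algebraMap B R₀)).map
      (algebraMap R₀ (Localization.Away (algebraMap B R₀ t))) =
      hs.map (algebraMap B (Localization.Away (algebraMap B R₀ t))) := by
    rw [List.map_map]
    exact List.map_congr_left fun b _ =>
      (IsScalarTower.algebraMap_apply B R₀ (Localization.Away (algebraMap B R₀ t)) b).symm
  have hreg₂ : IsWeaklyRegular (Localization.Away (algebraMap B R₀ t))
      (hs.map (algebraMap B (Localization.Away (algebraMap B R₀ t)))) := by
    rw [← hlist₂]
    exact hgood₀.1.of_isLocalization (Localization.Away (algebraMap B R₀ t))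
      (Submonoid.powers (algebraMap B R₀ t))
  have hunit : IsUnit (algebraMap B (Localization.Away (algebraMap B R₀ t)) t) := by
    rw [IsScalarTower.algebraMap_apply B R₀ (Localization.Away (algebraMap B R₀ t))]
    exact IsLocalization.Away.algebraMap_isUnit (algebraMap B R₀ t)
  have hideal₂ : Ideal.ofList (hs.map (algebraMap B (Localization.Away (algebraMap B R₀ t)))) =
      I.map (algebraMap B (Localization.Away (algebraMap B R₀ t))) := by
    rw [← Ideal.map_ofList]
    apply le_antisymm
    · refine Ideal.map_mono ?_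
      rw [Ideal.ofList, Ideal.span_le]
      exact fun h hh => hmemI h hh
    · rw [Ideal.map_le_iff_le_comap]
      intro a ha
      rw [Ideal.mem_comap]
      have h1 : algebraMap B (Localization.Away (algebraMap B R₀ t)) (t * a) ∈
          (Ideal.ofList hs).map (algebraMap B (Localization.Away (algebraMap B R₀ t))) :=
        Ideal.mem_map_of_mem _ (htI a ha)
      rw [map_mul] at h1
      exact (Ideal.unit_mul_mem_iff_mem _ hunit).mp h1
  intro Bg _ _ _
  let e : Localization.Away (algebraMap B R₀ t) ≃ₐ[B] Bg :=
    IsLocalization.algEquiv (Submonoid.powers g) _ _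
  have hlist : (hs.map (algebraMap B (Localization.Away (algebraMap B R₀ t)))).map e =
      hs.map (algebraMap B Bg) := by
    rw [List.map_map]
    exact List.map_congr_left fun b _ => e.commutes b
  refine ⟨?_, ?_⟩
  · rw [← hlist]
    exact isWeaklyRegular_of_ringEquiv e.toRingEquiv _ hreg₂
  · have h1 : Ideal.ofList (hs.map (algebraMap B Bg)) =
        (Ideal.ofList (hs.map (algebraMap B (Localization.Away (algebraMap B R₀ t))))).map
          (e : Localization.Away (algebraMap B R₀ t) →+* Bg) := by
      rw [Ideal.map_ofList]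
      exact congrArg Ideal.ofList hlist.symm
    rw [h1, hideal₂, Ideal.map_map]
    congr 1
    ext b
    exact e.commutes b

/-- **Fibre criterion, general form**: `F` is a Noetherian local ring with a surjection
`σ : P_Q → F` of kernel `p P_Q`. -/
theorem kAt_of_fibre_regular_gen (H : Hyp4848.{u}) (A : Type u) [CommRing A]
    (B : Type u) [CommRing B] [Algebra A B] [Algebra.FinitePresentation A B]
    (q : Ideal B) [q.IsPrime] (hflat : Module.Flat A (Localization.AtPrime q))
    (I : Ideal B) (hIq : I ≤ q) (hIfg : I.FG) [Module.Flat A (B ⧸ I)]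
    (F : Type u) [CommRing F] [IsLocalRing F] [IsNoetherianRing F]
    (σ : Localization.AtPrime q →+* F) (hσ : Function.Surjective σ)
    (hker : RingHom.ker σ =
      (q.comap (algebraMap A B)).map (algebraMap A (Localization.AtPrime q)))
    (hrs : ∃ rs : List F, IsRegular F rs ∧
      I.map (σ.comp (algebraMap B (Localization.AtPrime q))) = Ideal.ofList rs) :
    KAt I q := by
  set π : B →+* F := σ.comp (algebraMap B (Localization.AtPrime q)) with hπ
  obtain ⟨hs, hmemI, hreg, hgen⟩ := exists_list_of_isRegular_noeth I F π hrs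
  have hlistπ : (hs.map (algebraMap B (Localization.AtPrime q))).map σ = hs.map π := by
    rw [List.map_map]
    rfl
  have hregSeq : RegSeq ((q.comap (algebraMap A B)).map (algebraMap A (Localization.AtPrime q)))
      (hs.map (algebraMap B (Localization.AtPrime q))) := by
    refine regSeq_of_map σ hσ _ _ hker.le ?_
    have h0 : ((q.comap (algebraMap A B)).map (algebraMap A (Localization.AtPrime q))).map σ
        = ⊥ := by
      rw [Ideal.map_eq_bot_iff_le_ker, hker]
    rw [h0, hlistπ]
    exact regSeq_bot_of_isWeaklyRegular_self _ hreg.toIsWeaklyRegular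
  have hle : I.map (algebraMap B (Localization.AtPrime q)) ≤
      (Ideal.ofList hs).map (algebraMap B (Localization.AtPrime q)) ⊔
        (q.comap (algebraMap A B)).map (algebraMap A (Localization.AtPrime q)) := by
    have h1 : (I.map (algebraMap B (Localization.AtPrime q))).map σ =
        ((Ideal.ofList hs).map (algebraMap B (Localization.AtPrime q))).map σ := by
      rw [Ideal.map_map, Ideal.map_map, ← hπ, ← hgen, Ideal.map_ofList]
    calc I.map (algebraMap B (Localization.AtPrime q))
        ≤ ((I.map (algebraMap B (Localization.AtPrime q))).map σ).comap σ := Ideal.le_comap_map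
      _ = (Ideal.ofList hs).map (algebraMap B (Localization.AtPrime q)) ⊔
            (q.comap (algebraMap A B)).map (algebraMap A (Localization.AtPrime q)) := by
          rw [h1, Ideal.comap_map_of_surjective σ hσ, ← RingHom.ker_eq_comap_bot, hker]
  obtain ⟨g, hg, hw⟩ := exists_away_of_list H A B q (Localization.AtPrime q) hflat I hIfg hs hmemI
    (fun h hh => hIq (hmemI h hh)) hregSeq hle
  obtain ⟨hwr, hwgen⟩ := hw (Localization.Away g)
  exact ⟨g, hg, hs.map (algebraMap B (Localization.Away g)), koszul_of_weaklyRegular _ hwr,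
    hwgen.symm⟩

/-- **Fibre criterion**: if the image of `I` in the local ring of the fibre `κ(p) ⊗ P` at a
prime `Q̄` is generated by a regular sequence, then `I` is Koszul-regular at `Q̄ ∩ P`. -/
theorem kAt_of_fibre_regular (H : Hyp4848.{u}) (R : Type u) [CommRing R]
    (P : Type u) [CommRing P] [Algebra R P] [Algebra.FinitePresentation R P] [Module.Flat R P]
    (p : Ideal R) [p.IsPrime] (Q : Ideal (p.Fiber P)) [Q.IsPrime]
    (I : Ideal P) (hIQ : I ≤ Q.comap (Groth.Agent.H94.FibLoc.inc (S := P) p)) (hIfg : I.FG)
    [Module.Flat R (P ⧸ I)]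
    (hrs : ∃ rs : List (Localization.AtPrime Q), IsRegular (Localization.AtPrime Q) rs ∧
      I.map ((algebraMap (p.Fiber P) (Localization.AtPrime Q)).comp
        (Groth.Agent.H94.FibLoc.inc (S := P) p)) = Ideal.ofList rs) :
    KAt I (Q.comap (Groth.Agent.H94.FibLoc.inc (S := P) p)) := by
  haveI : Algebra.FiniteType p.ResidueField (p.Fiber P) := inferInstance
  haveI : IsNoetherianRing (p.Fiber P) :=
    Algebra.FiniteType.isNoetherianRing p.ResidueField (p.Fiber P)
  haveI : IsNoetherianRing (Localization.AtPrime Q) :=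
    IsLocalization.isNoetherianRing Q.primeCompl _ inferInstance
  have hflat : Module.Flat R
      (Localization.AtPrime (Q.comap (Groth.Agent.H94.FibLoc.inc (S := P) p))) :=
    Module.Flat.trans R P _
  have hp : (Q.comap (Groth.Agent.H94.FibLoc.inc (S := P) p)).comap (algebraMap R P) = p := by
    rw [Ideal.comap_comap]
    have : (Groth.Agent.H94.FibLoc.inc (S := P) p).comp (algebraMap R P) =
        algebraMap R (p.Fiber P) :=
      (Algebra.TensorProduct.includeRight : P →ₐ[R] p.Fiber P).comp_algebraMap
    rw [this]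
    exact (Ideal.over_def Q p).symm
  refine kAt_of_fibre_regular_gen H R P _ hflat I hIQ hIfg (Localization.AtPrime Q)
    (Groth.Agent.H94.FibLoc.sigma p Q) (Groth.Agent.H94.FibLoc.sigma_surjective p Q) ?_ ?_
  · rw [Groth.Agent.H94.FibLoc.ker_sigma, hp]
  · rw [Groth.Agent.H94.FibLoc.sigma_comp]
    exact hrs

end Groth.Agent.H94.KoszulFC
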