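import Mathlib
import Groth.Prelude.Def_LCI2
import Groth.Agent.H94.RegDescentKoszul
import Groth.Agent.H39.KoszulPresMain
import Groth.Agent.H39.KoszulLCILocal
import Groth.Agent.H39.LCIMor

/-!
# Faithfully flat descent of local complete intersection ring maps

* `koszul_of_map_mvPolynomial` : for `A → A'` faithfully flat, an ideal `I` of `A[x]` is
  Koszul-regular as soon as `I A'[x]` is.
* `koszul_pi` : an ideal of `(Π i, A i)[x]` is Koszul-regular as soon as its images in all `A i [x]`
  are.
* `koszul_ker_baseChange` : if `A₁ ⊗[A] B` is lci over `A₁`, the extension to `A₁[x]` of the kernel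
  of any presentation `A[x] → B` is Koszul-regular.
* `isLCIHom_of_flat_family` : a ring map `A → B` of finite type is lci as soon as its base changes
  along a finite jointly surjective family of flat maps `A → A i` are.
-/

set_option autoImplicit false
set_option linter.style.haveILetI false
universe u

open TensorProduct

attribute [local instance] HasDerivedCategory.standard

namespace Groth.Agent.H94.LCIDescent

open MvPolynomial

section part1

attribute [local instance] MvPolynomial.algebraMvPolynomial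

theorem faithfullyFlat_mvPolynomial (A A' : Type u) [CommRing A] [CommRing A'] [Algebra A A']
    [Module.FaithfullyFlat A A'] (σ : Type*) :
    Module.FaithfullyFlat (MvPolynomial σ A) (MvPolynomial σ A') := by
  have e := Algebra.IsPushout.equiv A (MvPolynomial σ A) A' (MvPolynomial σ A')
  exact Module.FaithfullyFlat.of_linearEquiv (MvPolynomial σ A) (MvPolynomial σ A ⊗[A] A')
    e.toLinearEquiv.symm

/-- Faithfully flat descent of Koszul-regular ideals, for polynomial rings. -/
theorem koszul_of_map_mvPolynomial (A A' : Type u) [CommRing A] [CommRing A'] [Algebra A A']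
    [Module.FaithfullyFlat A A'] (n : ℕ) (I : Ideal (MvPolynomial (Fin n) A))
    (h : LCI.IsKoszulRegularIdeal (I.map (MvPolynomial.map (σ := Fin n) (algebraMap A A')))) :
    LCI.IsKoszulRegularIdeal I := by
  haveI := faithfullyFlat_mvPolynomial A A' (Fin n)
  have hflat : (algebraMap (MvPolynomial (Fin n) A) (MvPolynomial (Fin n) A')).Flat :=
    (RingHom.flat_algebraMap_iff (R := MvPolynomial (Fin n) A)
      (S := MvPolynomial (Fin n) A')).mpr inferInstance
  exact Groth.Agent.H94.RegDescent.main (P := fun R _ l => LCI.IsKoszulRegularSeq R l)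
    (algebraMap (MvPolynomial (Fin n) A) (MvPolynomial (Fin n) A')) I
    Groth.Agent.H94.RegDescent.descOK_koszul hflat
    PrimeSpectrum.comap_surjective_of_faithfullyFlat h

end part1

section part2

variable {m : ℕ} (Ai : Fin m → Type u) [∀ i, CommRing (Ai i)]

/-- the `i`-th factor is the localization of the product away from the `i`-th idempotent -/
theorem isLocalization_away_single (i : Fin m) :
    letI := (Pi.evalRingHom Ai i).toAlgebra
    IsLocalization.Away (Pi.single i 1 : ∀ i, Ai i) (Ai i) := by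
  classical
  letI := (Pi.evalRingHom Ai i).toAlgebra
  refine IsLocalization.away_of_isIdempotentElem_of_mul ?_ ?_ ?_
  · show (Pi.single i 1 : ∀ i, Ai i) * Pi.single i 1 = Pi.single i 1
    funext j
    by_cases hj : j = i
    · subst hj; simp
    · simp [Pi.single_eq_of_ne hj]
  · intro x y
    show x i = y i ↔ _
    constructor
    · intro h
      funext j
      by_cases hj : j = i
      · subst hj; simp [h]
      · simp [Pi.single_eq_of_ne hj]
    · intro h
      have := congr_fun h i
      simpa using this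
  · intro a
    exact ⟨Pi.single i a, by show (Pi.single i a : ∀ i, Ai i) i = a; simp⟩

attribute [local instance] MvPolynomial.algebraMvPolynomial in
theorem isLocalization_away_C_single (n : ℕ) (i : Fin m) :
    letI := (MvPolynomial.map (σ := Fin n) (Pi.evalRingHom Ai i)).toAlgebra
    IsLocalization.Away (C (Pi.single i 1) : MvPolynomial (Fin n) (∀ i, Ai i))
      (MvPolynomial (Fin n) (Ai i)) := by
  letI : Algebra (∀ i, Ai i) (Ai i) := (Pi.evalRingHom Ai i).toAlgebra
  haveI : IsLocalization.Away (Pi.single i 1 : ∀ i, Ai i) (Ai i) := isLocalization_away_single Ai i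
  have h := MvPolynomial.isLocalization (σ := Fin n)
    (Submonoid.powers (Pi.single i 1 : ∀ i, Ai i)) (Ai i)
  rw [Submonoid.map_powers] at h
  exact h

theorem exists_C_single_notMem (n : ℕ) (q : Ideal (MvPolynomial (Fin n) (∀ i, Ai i)))
    [q.IsPrime] : ∃ i, (C (Pi.single i 1) : MvPolynomial (Fin n) (∀ i, Ai i)) ∉ q := by
  classical
  by_contra hcon
  push Not at hcon
  have h1 : (∑ i, C (Pi.single i 1) : MvPolynomial (Fin n) (∀ i, Ai i)) ∈ q :=
    Ideal.sum_mem _ fun i _ => hcon i
  rw [← map_sum, Finset.univ_sum_single] at h1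
  have h2 : (C (fun _ => 1 : ∀ i, Ai i) : MvPolynomial (Fin n) (∀ i, Ai i)) = 1 := by
    rw [← C_1]; rfl
  rw [h2] at h1
  exact (Ideal.IsPrime.ne_top inferInstance) ((Ideal.eq_top_iff_one _).mpr h1)

/-- Koszul-regularity of an ideal of a polynomial ring over a finite product can be checked
factor by factor. -/
theorem koszul_pi (n : ℕ) (J : Ideal (MvPolynomial (Fin n) (∀ i, Ai i)))
    (h : ∀ i, LCI.IsKoszulRegularIdeal
      (J.map (MvPolynomial.map (σ := Fin n) (Pi.evalRingHom Ai i)))) :
    LCI.IsKoszulRegularIdeal J := by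
  intro 𝔭 h𝔭
  obtain ⟨i, hi⟩ := exists_C_single_notMem Ai n 𝔭.asIdeal
  refine Groth.Agent.H39.KoszulLCILocal.koszul_at_of_map_away J _ ?_ 𝔭 h𝔭 hi
  letI := (MvPolynomial.map (σ := Fin n) (Pi.evalRingHom Ai i)).toAlgebra
  haveI := isLocalization_away_C_single Ai n i
  let ε : MvPolynomial (Fin n) (Ai i) ≃ₐ[MvPolynomial (Fin n) (∀ i, Ai i)]
      Localization.Away (C (Pi.single i 1) : MvPolynomial (Fin n) (∀ i, Ai i)) :=
    IsLocalization.algEquiv (Submonoid.powers (C (Pi.single i 1))) _ _
  have h1 := Groth.Agent.H39.KoszulPres.isKoszulRegularIdeal_map_ringEquiv ε.toRingEquiv _ (h i)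
  rw [Ideal.map_map] at h1
  have h2 : ε.toRingEquiv.toRingHom.comp (MvPolynomial.map (σ := Fin n) (Pi.evalRingHom Ai i)) =
      algebraMap _ _ := by
    refine RingHom.ext fun x => ?_
    exact ε.commutes x
  rwa [h2] at h1

end part2

section part3

variable (A A₁ B : Type u) [CommRing A] [CommRing A₁] [CommRing B] [Algebra A A₁] [Algebra A B]

/-- If `A₁ ⊗[A] B` is lci over `A₁`, then the extension to `A₁[x]` of the kernel of any
presentation `A[x] → B` is a Koszul-regular ideal. -/
theorem koszul_ker_baseChange (n : ℕ) (ψ : MvPolynomial (Fin n) A →ₐ[A] B)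
    (hψ : Function.Surjective ψ) (h : LCI.IsLCI A₁ (A₁ ⊗[A] B)) :
    LCI.IsKoszulRegularIdeal
      ((RingHom.ker ψ.toRingHom).map (MvPolynomial.map (σ := Fin n) (algebraMap A A₁))) := by
  obtain ⟨_, n', α, hα, hKα⟩ := h
  let e₁ : A₁ ⊗[A] MvPolynomial (Fin n) A ≃ₐ[A₁] MvPolynomial (Fin n) A₁ :=
    MvPolynomial.algebraTensorAlgEquiv A A₁
  let Ψ : A₁ ⊗[A] MvPolynomial (Fin n) A →ₐ[A₁] A₁ ⊗[A] B :=
    Algebra.TensorProduct.map (AlgHom.id A₁ A₁) ψ
  let ψ₁ : MvPolynomial (Fin n) A₁ →ₐ[A₁] A₁ ⊗[A] B := Ψ.comp e₁.symm.toAlgHom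
  have hψ₁ : Function.Surjective ψ₁ :=
    (Algebra.FiniteType.baseChangeAux_surj A₁ hψ).comp e₁.symm.surjective
  have hK := Groth.Agent.H39.KoszulPresMain.isKoszulRegularIdeal_ker_of_other_presentation A₁
    (A₁ ⊗[A] B) n' n α hα ψ₁ hψ₁ hKα
  have hcomp : e₁.toAlgHom.toRingHom.comp
      (Algebra.TensorProduct.includeRight : MvPolynomial (Fin n) A →ₐ[A] _).toRingHom =
      MvPolynomial.map (σ := Fin n) (algebraMap A A₁) := by
    refine RingHom.ext fun p => ?_
    show e₁ ((1 : A₁) ⊗ₜ[A] p) = _
    rw [MvPolynomial.algebraTensorAlgEquiv_tmul, one_smul]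
  have hker : RingHom.ker ψ₁.toRingHom =
      (RingHom.ker ψ.toRingHom).map (MvPolynomial.map (σ := Fin n) (algebraMap A A₁)) := by
    apply le_antisymm
    · intro x hx
      have hx' : Ψ (e₁.symm x) = 0 := hx
      have hΨ : ∀ y, Algebra.TensorProduct.map (AlgHom.id A A₁) ψ y = Ψ y := by
        intro y
        induction y using TensorProduct.induction_on with
        | zero => rw [map_zero, map_zero]
        | tmul a p => rfl
        | add y z hy hz => rw [map_add, map_add, hy, hz]
      have h1 : e₁.symm x ∈ RingHom.ker (Algebra.TensorProduct.map (AlgHom.id A A₁) ψ) := by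
        rw [RingHom.mem_ker, hΨ]
        exact hx'
      rw [Algebra.TensorProduct.lTensor_ker ψ hψ] at h1
      have h2 := Ideal.mem_map_of_mem e₁.toAlgHom.toRingHom h1
      have h3 : e₁.toAlgHom.toRingHom (e₁.symm x) = x := e₁.apply_symm_apply x
      rw [h3] at h2
      have h4 : Ideal.map e₁.toAlgHom.toRingHom
          (Ideal.map (Algebra.TensorProduct.includeRight : MvPolynomial (Fin n) A →ₐ[A] _)
            (RingHom.ker ψ)) =
          (RingHom.ker ψ.toRingHom).map (MvPolynomial.map (σ := Fin n) (algebraMap A A₁)) := by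
        rw [← hcomp, ← Ideal.map_map]
        rfl
      rw [h4] at h2
      exact h2
    · rw [Ideal.map_le_iff_le_comap]
      intro p hp
      have hp' : ψ p = 0 := hp
      show ψ₁ (MvPolynomial.map (algebraMap A A₁) p) = 0
      show Ψ (e₁.symm (MvPolynomial.map (algebraMap A A₁) p)) = 0
      rw [MvPolynomial.algebraTensorAlgEquiv_symm_map]
      show (AlgHom.id A₁ A₁) 1 ⊗ₜ[A] ψ p = 0
      rw [hp', TensorProduct.tmul_zero]
  rwa [hker] at hK

end part3

section part4

open CategoryTheory Groth.Agent.H39.LCIMor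

/-- A finite type ring map `φ : A → B` is a local complete intersection homomorphism as soon as its
base changes along a finite, jointly surjective (on spectra) family of flat ring maps
`α i : A → A i` are. -/
theorem isLCIHom_of_flat_family {A B : Type u} [CommRing A] [CommRing B] (φ : A →+* B)
    (hft : φ.FiniteType) {m : ℕ} (Ai Bi : Fin m → Type u) [∀ i, CommRing (Ai i)]
    [∀ i, CommRing (Bi i)] (α : ∀ i, A →+* Ai i) (β : ∀ i, B →+* Bi i)
    (φi : ∀ i, Ai i →+* Bi i) (hα : ∀ i, (α i).Flat)
    (hsurj : ∀ p : PrimeSpectrum A, ∃ i, p ∈ Set.range (PrimeSpectrum.comap (α i)))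
    (hpo : ∀ i, IsPushout (CommRingCat.ofHom φ) (CommRingCat.ofHom (α i))
      (CommRingCat.ofHom (β i)) (CommRingCat.ofHom (φi i)))
    (h : ∀ i, IsLCIHom (φi i)) : IsLCIHom φ := by
  unfold IsLCIHom
  letI algAB : Algebra A B := φ.toAlgebra
  have hft' : Algebra.FiniteType A B := hft
  obtain ⟨n, ψ, hψ⟩ := Algebra.FiniteType.iff_quotient_mvPolynomial''.mp hft'
  refine ⟨hft', n, ψ, hψ, ?_⟩
  letI algAi : ∀ i, Algebra A (Ai i) := fun i => (α i).toAlgebra
  haveI flatAi : ∀ i, Module.Flat A (Ai i) := fun i => hα i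
  haveI : Module.Flat A (∀ i, Ai i) :=
    Module.Flat.of_linearEquiv (DirectSum.linearEquivFunOnFintype A (Fin m) Ai).symm
  haveI : Module.FaithfullyFlat A (∀ i, Ai i) := by
    apply Module.FaithfullyFlat.of_comap_surjective
    intro p
    obtain ⟨i, q, hq⟩ := hsurj p
    refine ⟨PrimeSpectrum.comap (Pi.evalRingHom Ai i) q, ?_⟩
    rw [← hq]
    rfl
  apply koszul_of_map_mvPolynomial A (∀ i, Ai i) n
  apply koszul_pi Ai n
  intro i
  rw [Ideal.map_map]
  have hcomp : (MvPolynomial.map (σ := Fin n) (Pi.evalRingHom Ai i)).comp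
      (MvPolynomial.map (σ := Fin n) (algebraMap A (∀ i, Ai i))) =
      MvPolynomial.map (σ := Fin n) (algebraMap A (Ai i)) := by
    refine RingHom.ext fun p => ?_
    rw [RingHom.comp_apply, MvPolynomial.map_map]
    rfl
  rw [hcomp]
  -- the base change to `A i`
  letI : Algebra (Ai i) (Bi i) := (φi i).toAlgebra
  letI : Algebra B (Bi i) := (β i).toAlgebra
  letI : Algebra A (Bi i) := ((φi i).comp (α i)).toAlgebra
  haveI : IsScalarTower A (Ai i) (Bi i) := IsScalarTower.of_algebraMap_eq' rfl
  haveI : IsScalarTower A B (Bi i) := IsScalarTower.of_algebraMap_eq' (by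
    have hw := (hpo i).w
    have hw' : (β i).comp φ = (φi i).comp (α i) := by
      have := congr_arg CommRingCat.Hom.hom hw
      simpa using this
    exact hw'.symm)
  have hpo' : Algebra.IsPushout A B (Ai i) (Bi i) :=
    CommRingCat.isPushout_iff_isPushout.mp (hpo i)
  haveI : Algebra.IsPushout A (Ai i) B (Bi i) := hpo'.symm
  let e : Ai i ⊗[A] B ≃ₐ[Ai i] Bi i := Algebra.IsPushout.equiv A (Ai i) B (Bi i)
  have hlci : LCI.IsLCI (Ai i) (Ai i ⊗[A] B) := isLCI_of_algEquiv e.symm (h i)
  exact koszul_ker_baseChange A (Ai i) B n ψ hψ hlci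

end part4

end Groth.Agent.H94.LCIDescent
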