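import Mathlib
import Groth.Prelude.Def_RegImm
import Groth.Agent.H94.RegDescentCore
import Groth.Agent.H94.KindFlat
import Groth.Agent.H39.ImmCompChart

/-!
# fpqc descent of regular immersions of a given kind (scheme level)
-/

set_option autoImplicit false
set_option linter.style.haveILetI false
universe u

open AlgebraicGeometry CategoryTheory CategoryTheory.Limits

namespace Groth.Agent.H94.RegDescentScheme

section dictionary

variable {X : Scheme.{u}} {U : X.Opens}

theorem mem_basicOpen_iff (hU : IsAffineOpen U) (x : U) (f : Γ(X, U)) :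
    x.1 ∈ X.basicOpen f ↔ f ∉ (hU.primeIdealOf x).asIdeal := by
  have h1 := hU.fromSpec_primeIdealOf x
  have h2 : hU.fromSpec (hU.primeIdealOf x) ∈ X.basicOpen f ↔
      hU.primeIdealOf x ∈ hU.fromSpec ⁻¹ᵁ X.basicOpen f := Iff.rfl
  rw [← h1, h2, hU.fromSpec_preimage_basicOpen]
  exact Iff.rfl

theorem exists_primeIdealOf_eq (hU : IsAffineOpen U) (p : PrimeSpectrum Γ(X, U)) :
    ∃ x : U, hU.primeIdealOf x = p := by
  refine ⟨hU.isoSpec.inv (show ↥(Spec Γ(X, U)) from p), ?_⟩
  exact Scheme.inv_hom_apply hU.isoSpec _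

end dictionary

section charts

/-- Around a point of its image an immersion restricts to a closed immersion over an affine
open. -/
theorem exists_affine_closedImmersion {Y X : Scheme.{u}} (i : Y ⟶ X) [IsImmersion i] (y : Y) :
    ∃ U : X.Opens, IsAffineOpen U ∧ i y ∈ U ∧ IsClosedImmersion (i ∣_ U) := by
  have hy : i y ∈ i.coborderRange := subset_coborder ⟨y, rfl⟩
  obtain ⟨_, ⟨U, hU, rfl⟩, hyU, hUle⟩ :=
    X.isBasis_affineOpens.exists_subset_of_mem_open hy i.coborderRange.2
  exact ⟨U, hU, hyU,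
    Groth.Agent.H39.RegImmStalk3.isClosedImmersion_restrict_of_le_coborderRange i U hUle⟩

/-- An affine scheme, flat over `X'`, whose image in `X` is the affine open `U`. -/
theorem exists_affine_flat_cover {X X' : Scheme.{u}} (g : X' ⟶ X) [Flat g] [Surjective g]
    [QuasiCompact g] (U : X.Opens) (hU : IsAffineOpen U) :
    ∃ (W : Scheme.{u}) (c : W ⟶ X'), IsAffine W ∧ Flat c ∧ (∀ w, g (c w) ∈ U) ∧
      ∀ x ∈ U, ∃ w, g (c w) = x := by
  let V : X'.Opens := g ⁻¹ᵁ U
  haveI : CompactSpace V.toScheme :=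
    isCompact_iff_compactSpace.mp (QuasiCompact.isCompact_preimage (f := g) _ U.2 hU.isCompact)
  let 𝒰 := V.toScheme.affineCover.finiteSubcover
  let p : (∐ fun j : 𝒰.I₀ => 𝒰.X j) ⟶ V.toScheme := Sigma.desc fun j => 𝒰.f j
  refine ⟨∐ fun j : 𝒰.I₀ => 𝒰.X j, p ≫ V.ι, inferInstance, inferInstance, ?_, ?_⟩
  · intro w
    rw [Scheme.Hom.comp_apply]
    exact (p w).2
  · intro x hx
    obtain ⟨x', rfl⟩ := g.surjective x
    let v : V.toScheme := ⟨x', hx⟩
    obtain ⟨j, y, hy⟩ := 𝒰.exists_eq v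
    refine ⟨(Sigma.ι (fun j : 𝒰.I₀ => 𝒰.X j) j) y, ?_⟩
    have h1 : p ((Sigma.ι (fun j : 𝒰.I₀ => 𝒰.X j) j) y) = v := by
      rw [← Scheme.Hom.comp_apply, Sigma.ι_desc]
      exact hy
    rw [Scheme.Hom.comp_apply, h1]
    rfl

end charts

section main

open Groth.Agent.H39.RelRegGeom Groth.Agent.H39.ImmCompChart Groth.Agent.H39.RegImmStalk3
open Groth.Agent.H94.RegDescent

/-- A point of an affine scheme whose prime contains the kernel of a closed immersion lies in
the range. -/
theorem mem_range_of_ker_le {Z W : Scheme.{u}} (iW : Z ⟶ W) [IsClosedImmersion iW]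
    (hWtop : IsAffineOpen (⊤ : W.Opens)) (w : (⊤ : W.Opens))
    (hq : RingHom.ker (iW.app ⊤).hom ≤ (hWtop.primeIdealOf w).asIdeal) :
    w.1 ∈ Set.range iW := by
  have hsupp : w.1 ∈ iW.ker.support := by
    rw [Scheme.IdealSheafData.mem_support_iff_of_mem (U := ⟨⊤, hWtop⟩) trivial,
      Scheme.Hom.ker_apply, Scheme.mem_zeroLocus_iff]
    intro f hf hmem
    exact (mem_basicOpen_iff hWtop w f).mp hmem (hq hf)
  have h2 : (iW.ker.support : Set W) = closure (Set.range iW) := Scheme.Hom.support_ker iW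
  have h3 : w.1 ∈ closure (Set.range iW) := h2 ▸ hsupp
  rwa [closure_eq_iff_isClosed.mpr iW.isClosedEmbedding.isClosed_range] at h3

/-- For a closed immersion into an affine scheme which is a regular immersion of kind `k`, the
kernel on global sections is locally generated by a sequence of kind `k`. -/
theorem locGen_of_isRegularImmersion (k : RegImm.Kind)
    (hk : DescOK.{u} (fun R _ l => k.Seq R l)) {Z W : Scheme.{u}} (iW : Z ⟶ W)
    [IsClosedImmersion iW] (hWtop : IsAffineOpen (⊤ : W.Opens))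
    (hiW : RegImm.IsRegularImmersion k iW) :
    LocGen (fun R _ l => k.Seq R l) (RingHom.ker (iW.app ⊤).hom) := by
  intro q hq
  obtain ⟨w, rfl⟩ := exists_primeIdealOf_eq hWtop q
  obtain ⟨zW, hzW⟩ := mem_range_of_ker_le iW hWtop w hq
  obtain ⟨UW, hzUW, hclUW, rs, hrs, hkerUW⟩ := hiW.2 zW
  haveI := hclUW
  haveI : IsClosedImmersion (iW ∣_ (⊤ : W.Opens)) :=
    IsZariskiLocalAtTarget.restrict (P := @IsClosedImmersion) (inferInstance : IsClosedImmersion iW) _
  have hwUW : w.1 ∈ UW.1 := by rw [← hzW]; exact hzUW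
  obtain ⟨h, hhle, hwh⟩ := hWtop.exists_basicOpen_le ⟨w.1, hwUW⟩ trivial
  have hD : IsAffineOpen (W.basicOpen h) := hWtop.basicOpen h
  have hDle : W.basicOpen h ≤ ⊤ := le_top
  have hker1 := ker_app_of_le iW hhle UW.2 hD
  have hker2 := ker_app_of_le iW hDle hWtop hD
  have hres1 := flat_res hhle UW.2 hD
  letI : Algebra Γ(W, ⊤) Γ(W, W.basicOpen h) :=
    (W.presheaf.map (homOfLE hDle).op).hom.toAlgebra
  haveI : IsLocalization.Away h Γ(W, W.basicOpen h) := hWtop.isLocalization_basicOpen h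
  let ψ : Γ(W, W.basicOpen h) ≃ₐ[Γ(W, ⊤)] Localization.Away h :=
    IsLocalization.algEquiv (Submonoid.powers h) _ _
  have hψflat : (ψ : Γ(W, W.basicOpen h) →+* Localization.Away h).Flat :=
    RingHom.Flat.of_bijective ψ.bijective
  have hψ : (ψ : Γ(W, W.basicOpen h) →+* Localization.Away h).comp
      (W.presheaf.map (homOfLE hDle).op).hom = algebraMap Γ(W, ⊤) (Localization.Away h) := by
    ext x
    exact ψ.commutes x
  refine ⟨h, (mem_basicOpen_iff hWtop w h).mp hwh,
    (rs.map (W.presheaf.map (homOfLE hhle).op).hom).map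
      (ψ : Γ(W, W.basicOpen h) →+* Localization.Away h), ?_, ?_⟩
  · exact hk.flat _ hψflat _ (hk.flat _ hres1 rs hrs)
  · rw [← hψ, ← Ideal.map_map, ← hker2, hker1, hkerUW, Ideal.map_ofList, Ideal.map_ofList]

/-- **fpqc descent of regular immersions of kind `k`** (the immersion property is assumed). -/
theorem isRegularImmersion_of_isPullback_fpqc (k : RegImm.Kind)
    (hk : DescOK.{u} (fun R _ l => k.Seq R l))
    {X Y X' Y' : Scheme.{u}} (i : Y ⟶ X) [IsImmersion i] (g : X' ⟶ X) [Flat g] [Surjective g]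
    [QuasiCompact g] (i' : Y' ⟶ X') (g' : Y' ⟶ Y) (hsq : IsPullback g' i' i g)
    (hi' : RegImm.IsRegularImmersion k i') : RegImm.IsRegularImmersion k i := by
  refine ⟨inferInstance, fun y => ?_⟩
  obtain ⟨U, hU, hyU, hcl⟩ := exists_affine_closedImmersion i y
  haveI := hcl
  obtain ⟨W, c, hWaff, hcflat, hcU, hcsurj⟩ := exists_affine_flat_cover g U hU
  haveI := hWaff
  haveI := hcflat
  -- base change to `W`
  have hsqW : IsPullback (pullback.fst i (c ≫ g)) (pullback.snd i (c ≫ g)) i (c ≫ g) :=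
    IsPullback.of_hasPullback i (c ≫ g)
  have hiW : RegImm.IsRegularImmersion k (pullback.snd i (c ≫ g)) := by
    have hcond : pullback.fst i (c ≫ g) ≫ i = (pullback.snd i (c ≫ g) ≫ c) ≫ g := by
      rw [Category.assoc]; exact pullback.condition
    have hsq' : IsPullback (hsq.lift (pullback.fst i (c ≫ g)) (pullback.snd i (c ≫ g) ≫ c) hcond)
        (pullback.snd i (c ≫ g)) i' c :=
      IsPullback.of_right (by rw [hsq.lift_fst]; exact hsqW) (hsq.lift_snd _ _ _) hsq
    exact Groth.Agent.H94.KindFlat.isRegularImmersion_of_isPullback_flat k i' c _ _ hsq' hi'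
  have hWtop : IsAffineOpen (⊤ : W.Opens) := isAffineOpen_top W
  have hle : (⊤ : W.Opens) ≤ (c ≫ g) ⁻¹ᵁ U := fun w _ => by
    show (c ≫ g) w ∈ U
    rw [Scheme.Hom.comp_apply]
    exact hcU w
  have hφflat : ((c ≫ g).appLE U ⊤ hle).hom.Flat :=
    HasRingHomProperty.appLE (P := @Flat) (c ≫ g) inferInstance ⟨U, hU⟩ ⟨⊤, hWtop⟩ hle
  have hφsurj : Function.Surjective (PrimeSpectrum.comap ((c ≫ g).appLE U ⊤ hle).hom) := by
    intro p
    obtain ⟨x, rfl⟩ := exists_primeIdealOf_eq hU p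
    obtain ⟨w, hw⟩ := hcsurj x.1 x.2
    refine ⟨hWtop.primeIdealOf ⟨w, TopologicalSpace.Opens.mem_top w⟩, ?_⟩
    refine (IsAffineOpen.comap_primeIdealOf_appLE (f := c ≫ g) (x := w) U hU ⊤ hWtop hle
      (TopologicalSpace.Opens.mem_top w)).trans ?_
    congr 1
    apply Subtype.ext
    show (c ≫ g) w = x.1
    rw [Scheme.Hom.comp_apply]
    exact hw
  haveI hclWtop : IsClosedImmersion (pullback.snd i (c ≫ g) ∣_ (⊤ : W.Opens)) :=
    isClosedImmersion_restrict_of_isPullback hsqW hle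
  haveI hclW : IsClosedImmersion (pullback.snd i (c ≫ g)) :=
    IsZariskiLocalAtTarget.of_iSup_eq_top (P := @IsClosedImmersion) (fun _ : Unit => (⊤ : W.Opens))
      (by simp) (fun _ => hclWtop)
  have hkerW := ker_app_of_isPullback hsqW hle hU hWtop
  have H : LocGen (fun R _ l => k.Seq R l)
      ((RingHom.ker (i.app U).hom).map ((c ≫ g).appLE U ⊤ hle).hom) := by
    rw [← hkerW]
    exact locGen_of_isRegularImmersion k hk _ hWtop hiW
  have hmain := Groth.Agent.H94.RegDescent.main _ (RingHom.ker (i.app U).hom) hk hφflat hφsurj H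
  obtain ⟨hU', -⟩ := isAffineOpen_preimage_and_surjective_of_isClosedImmersion_restrict i U hU
  have hp := ker_app_le_primeIdealOf i y U hU hyU hU'
  obtain ⟨a, ha, f, hf, hspan⟩ := hmain (hU.primeIdealOf ⟨i y, hyU⟩) hp
  have hya : i y ∈ X.basicOpen a := (mem_basicOpen_iff hU ⟨i y, hyU⟩ a).mpr ha
  have hD : IsAffineOpen (X.basicOpen a) := hU.basicOpen a
  have hDle : X.basicOpen a ≤ U := X.basicOpen_le a
  have hclD : IsClosedImmersion (i ∣_ X.basicOpen a) := isClosedImmersion_restrict_of_le i hDle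
  have hkerD := ker_app_of_le i hDle hU hD
  letI : Algebra Γ(X, U) Γ(X, X.basicOpen a) :=
    (X.presheaf.map (homOfLE hDle).op).hom.toAlgebra
  haveI : IsLocalization.Away a Γ(X, X.basicOpen a) := hU.isLocalization_basicOpen a
  let ψ : Localization.Away a ≃ₐ[Γ(X, U)] Γ(X, X.basicOpen a) :=
    IsLocalization.algEquiv (Submonoid.powers a) _ _
  have hψflat : (ψ : Localization.Away a →+* Γ(X, X.basicOpen a)).Flat :=
    RingHom.Flat.of_bijective ψ.bijective
  have hψ : (ψ : Localization.Away a →+* Γ(X, X.basicOpen a)).comp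
      (algebraMap Γ(X, U) (Localization.Away a)) = (X.presheaf.map (homOfLE hDle).op).hom := by
    ext x
    exact ψ.commutes x
  refine ⟨⟨X.basicOpen a, hD⟩, hya, hclD,
    f.map (ψ : Localization.Away a →+* Γ(X, X.basicOpen a)), hk.flat _ hψflat f hf, ?_⟩
  rw [hkerD, ← hψ, ← Ideal.map_map, hspan, Ideal.map_ofList]

end main

end Groth.Agent.H94.RegDescentScheme
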