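import Mathlib
import Groth.Agent.H94.LCIDescent
import Groth.Agent.H94.RegDescentScheme
import Groth.Agent.H49.SliceScheme

/-!
# fpqc descent of local complete intersection morphisms (affine-local form)
-/

set_option autoImplicit false
set_option linter.style.haveILetI false
universe u

open AlgebraicGeometry CategoryTheory CategoryTheory.Limits TopologicalSpace
open Groth.Agent.H39.LCIMor

attribute [local instance] HasDerivedCategory.standard

namespace Groth.Agent.H94.LCIDescentScheme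

/-- **fpqc descent of lci morphisms**: if the base change `f'` of `f` along a flat, surjective,
quasi-compact morphism `g` is (affine-locally) lci, then so is `f`. -/
theorem lci_descent {X S X' S' : Scheme.{u}} (f : X ⟶ S) (f' : X' ⟶ S') (g' : X' ⟶ X)
    (g : S' ⟶ S) [Flat g] [Surjective g] [QuasiCompact g] (hc : IsPullback g' f' f g)
    (hf' : ∀ (U : X'.Opens) (V : S'.Opens) (_ : IsAffineOpen U) (_ : IsAffineOpen V)
      (hUV : U ≤ f' ⁻¹ᵁ V), IsLCIHom (f'.appLE V U hUV).hom) :
    ∀ (U : X.Opens) (V : S.Opens) (_ : IsAffineOpen U) (_ : IsAffineOpen V)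
      (hUV : U ≤ f ⁻¹ᵁ V), IsLCIHom (f.appLE V U hUV).hom := by
  intro U V hU hV hUV
  -- finite type descends
  have hft' : LocallyOfFiniteType f' := by
    rw [HasRingHomProperty.iff_appLE (P := @LocallyOfFiniteType)]
    intro V' U' e
    exact (hf' U'.1 V'.1 U'.2 V'.2 e).1
  have hft : LocallyOfFiniteType f :=
    MorphismProperty.of_isPullback_of_descendsAlong (P := @LocallyOfFiniteType)
      (Q := @Surjective ⊓ @Flat ⊓ @QuasiCompact) hc.flip
      ⟨⟨inferInstance, inferInstance⟩, inferInstance⟩ hft'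
  have hφft : (f.appLE V U hUV).hom.FiniteType :=
    HasRingHomProperty.appLE (P := @LocallyOfFiniteType) f hft ⟨V, hV⟩ ⟨U, hU⟩ hUV
  -- a finite affine cover of `g⁻¹ V`
  have hcompact : IsCompact ((g ⁻¹ᵁ V : S'.Opens) : Set S') :=
    QuasiCompact.isCompact_preimage (f := g) _ V.2 hV.isCompact
  obtain ⟨s, hsfin, hs⟩ := isCompact_iff_finite_and_eq_biUnion_affineOpens.mp hcompact
  obtain ⟨m, W, -, hW⟩ := hsfin.fin_param
  have hWmem : ∀ i, W i ∈ s := fun i => hW ▸ ⟨i, rfl⟩
  have hWle : ∀ i, (W i).1 ≤ g ⁻¹ᵁ V := by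
    intro i
    rw [hs]
    exact le_iSup₂ (f := fun (j : S'.affineOpens) (_ : j ∈ s) => (j : S'.Opens)) (W i) (hWmem i)
  let U' : Fin m → X'.Opens := fun i => g' ⁻¹ᵁ U ⊓ f' ⁻¹ᵁ (W i).1
  have hU'aff : ∀ i, IsAffineOpen (U' i) := by
    intro i
    haveI : IsAffine (V : Scheme) := hV
    haveI : IsAffine ((W i).1 : Scheme) := (W i).2
    haveI : IsAffine (U : Scheme) := hU
    exact .of_isIso (Scheme.Hom.isPullback_resLE hc (hWle i) hUV rfl).isoPullback.hom
  refine Groth.Agent.H94.LCIDescent.isLCIHom_of_flat_family (f.appLE V U hUV).hom hφft (fun i => Γ(S', (W i).1))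
    (fun i => Γ(X', U' i)) (fun i => (g.appLE V (W i).1 (hWle i)).hom)
    (fun i => (g'.appLE U (U' i) inf_le_left).hom)
    (fun i => (f'.appLE (W i).1 (U' i) inf_le_right).hom) ?_ ?_ ?_ ?_
  · intro i
    exact HasRingHomProperty.appLE (P := @Flat) g inferInstance ⟨V, hV⟩ (W i) (hWle i)
  · intro p
    obtain ⟨v, rfl⟩ := Groth.Agent.H94.RegDescentScheme.exists_primeIdealOf_eq hV p
    obtain ⟨s', hs'⟩ := g.surjective v.1
    have hs'V : s' ∈ g ⁻¹ᵁ V := by
      show g s' ∈ V
      rw [hs']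
      exact v.2
    rw [hs] at hs'V
    obtain ⟨j, hj, hs'j⟩ : ∃ j ∈ s, s' ∈ (j : S'.Opens) := by
      simpa [Opens.mem_iSup] using hs'V
    obtain ⟨i, rfl⟩ : ∃ i, W i = j := by
      rw [← hW] at hj
      exact hj
    refine ⟨i, (W i).2.primeIdealOf ⟨s', hs'j⟩, ?_⟩
    apply PrimeSpectrum.ext
    have h1 := Groth.Agent.H49.SliceScheme.primeIdealOf_comap g s' hV (W i).2 (hWle i) hs'j
    show ((W i).2.primeIdealOf ⟨s', hs'j⟩).asIdeal.comap (g.appLE V (W i).1 (hWle i)).hom = _
    rw [h1]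
    congr 2
    exact Subtype.ext hs'
  · intro i
    have h1 := (isIso_pushoutSection_iff hc (hWle i) hUV rfl).mp
      (isIso_pushoutSection_of_isAffineOpen hc (hWle i) hUV rfl hV (W i).2 hU)
    exact h1
  · intro i
    exact hf' (U' i) (W i).1 (hU'aff i) (W i).2 inf_le_right

end Groth.Agent.H94.LCIDescentScheme
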