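import Mathlib
import Groth.Agent.H39.KoszulAtComp
import Groth.Agent.H39.LCIMorComp
import Groth.Agent.H39.LCISmooth2
import Groth.Agent.H94.LCIDescentScheme

/-!
# fpqc descent of lci morphisms in the factorisation (`Synt.IsKoszulAt`) form

* `isLCIHom_res_basicOpen` : for an affine open `W` and `w ∈ Γ(X, W)` the restriction
  `Γ(X, W) → Γ(X, D(w))` is an lci ring map.
* `isLCIHom_appLE_of_isKoszulAt` : if `f` is Koszul at every point then `Γ(Y, V) → Γ(X, U)` is lci
  for **all** affine pairs `U ≤ f⁻¹ V`.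
* `isKoszulAt_descent` : S8662.
-/

set_option autoImplicit false
set_option linter.style.haveILetI false
universe u

open AlgebraicGeometry CategoryTheory CategoryTheory.Limits
open Groth.Agent.H39.LCIMor

namespace Groth.Agent.H94.KoszulAtDescent

/-- restriction to a basic open of an affine open is an lci ring map. -/
theorem isLCIHom_res_basicOpen {X : Scheme.{u}} {W : X.Opens} (hW : IsAffineOpen W)
    (w : Γ(X, W)) : IsLCIHom (X.presheaf.map (homOfLE (X.basicOpen_le w)).op).hom := by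
  haveI := hW.isLocalization_basicOpen w
  let e : Localization.Away w ≃ₐ[Γ(X, W)] Γ(X, X.basicOpen w) :=
    IsLocalization.algEquiv (Submonoid.powers w) _ _
  have h1 : LCI.IsLCI Γ(X, W) (Localization.Away w) :=
    Groth.Agent.H39.LCISmooth2.isLCI_localizationAway w
  have h2 : LCI.IsLCI Γ(X, W) Γ(X, X.basicOpen w) := isLCI_of_algEquiv e h1
  exact (isLCIHom_iff_of_algebraMap_eq _ rfl).mp h2

theorem isLCIHom_appLE_congr {X Y : Scheme.{u}} (f : X ⟶ Y) (V : Y.Opens) {O O' : X.Opens}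
    (hOO' : O = O') (hle : O ≤ f ⁻¹ᵁ V) (hle' : O' ≤ f ⁻¹ᵁ V)
    (h : IsLCIHom (f.appLE V O' hle').hom) : IsLCIHom (f.appLE V O hle).hom := by
  subst hOO'
  exact h

/-- If `f` is Koszul at every point, then for every affine pair `U ≤ f⁻¹ V` the ring map
`Γ(Y, V) → Γ(X, U)` is a local complete intersection homomorphism. -/
theorem isLCIHom_appLE_of_isKoszulAt {X Y : Scheme.{u}} (f : X ⟶ Y)
    (h : ∀ x : X, Synt.IsKoszulAt f x) (U : X.Opens) (V : Y.Opens) (hU : IsAffineOpen U)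
    (hV : IsAffineOpen V) (hUV : U ≤ f ⁻¹ᵁ V) : IsLCIHom (f.appLE V U hUV).hom := by
  let s : Set Γ(X, U) := {u | ∃ (W : X.Opens) (_ : IsAffineOpen W) (e : W ≤ f ⁻¹ᵁ V)
    (w : Γ(X, W)), IsLCIHom (f.appLE V W e).hom ∧ X.basicOpen u = X.basicOpen w}
  refine isLCIHom_of_span _ s ?_ ?_
  · rw [← hU.self_le_iSup_basicOpen_iff]
    intro x hx
    have hfx : f x ∈ V := hUV hx
    obtain ⟨W, hW, e, hxW, hlci⟩ :=
      Groth.Agent.H39.KoszulAtBridge3.exists_isLCIHom_appLE_of_isKoszulAt f x (h x) V hV hfx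
    obtain ⟨u, w, huw, hxu⟩ := exists_basicOpen_le_affine_inter hU hW x ⟨hx, hxW⟩
    rw [TopologicalSpace.Opens.mem_iSup]
    exact ⟨⟨u, W, hW, e, w, hlci, huw⟩, hxu⟩
  · rintro u ⟨W, hW, e, w, hlci, huw⟩
    apply Groth.Agent.H39.LCIMorComp.isLCIHom_away_of_basicOpen hU
    -- the composite is `f.appLE V (D(u))`
    have hle : X.basicOpen u ≤ f ⁻¹ᵁ V := (X.basicOpen_le u).trans hUV
    have h4 : (X.presheaf.map (homOfLE (X.basicOpen_le u)).op).hom.comp (f.appLE V U hUV).hom =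
        (f.appLE V (X.basicOpen u) hle).hom := by
      rw [← CommRingCat.hom_comp, Scheme.Hom.appLE_map]
    rw [h4]
    -- and `D(u) = D(w)`
    have hle' : X.basicOpen w ≤ f ⁻¹ᵁ V := (X.basicOpen_le w).trans e
    have h5 : IsLCIHom (f.appLE V (X.basicOpen w) hle').hom := by
      have h6 : (X.presheaf.map (homOfLE (X.basicOpen_le w)).op).hom.comp (f.appLE V W e).hom =
          (f.appLE V (X.basicOpen w) hle').hom := by
        rw [← CommRingCat.hom_comp, Scheme.Hom.appLE_map]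
      rw [← h6]
      exact isLCIHom_comp _ _ hlci (isLCIHom_res_basicOpen hW w)
    exact isLCIHom_appLE_congr f V huw hle hle' h5

/-- **S8662**: fpqc descent of lci morphisms, factorisation form. -/
theorem isKoszulAt_descent {X Y X' Y' : Scheme.{u}} (f : X ⟶ Y) (g : Y' ⟶ Y) [Flat g]
    [Surjective g] [QuasiCompact g] (f' : X' ⟶ Y') (g' : X' ⟶ X) (hsq : IsPullback g' f' f g)
    (hf' : ∀ x' : X', Synt.IsKoszulAt f' x') : ∀ x : X, Synt.IsKoszulAt f x := by
  intro x
  have hall := Groth.Agent.H94.LCIDescentScheme.lci_descent f f' g' g hsq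
    (fun U V hU hV hUV => isLCIHom_appLE_of_isKoszulAt f' hf' U V hU hV hUV)
  have htop : f x ∈ (⊤ : Y.Opens) := trivial
  obtain ⟨V, hV, hxV, -⟩ :=
    (TopologicalSpace.Opens.isBasis_iff_nbhd.mp Y.isBasis_affineOpens) htop
  have hx : x ∈ f ⁻¹ᵁ V := hxV
  obtain ⟨U, hU, hxU, hUV⟩ :=
    (TopologicalSpace.Opens.isBasis_iff_nbhd.mp X.isBasis_affineOpens) hx
  exact Groth.Agent.H39.KoszulAtBridge2.isKoszulAt_of_isLCIHom_appLE f x U hU V hV hUV hxU
    (hall U V hU hV hUV)

end Groth.Agent.H94.KoszulAtDescent
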