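import Mathlib
import Groth.Prelude.Def_AlgSpMor6
import Groth.Agent.H39.KoszulAtComp
import Groth.Agent.H39.KoszulAtBC
import Groth.Agent.H39.KoszulAtBridge2
import Groth.Agent.H39.KoszulAtBridge3
import Groth.Agent.H39.FlatSmoothSynt
import Groth.Agent.H94.KoszulAtDescent

/-!
# `AlgSp.lci` (Koszul at every point) as a morphism property of schemes

* `lci_of_smooth`, `lci_comp`, `RespectsIso`, `IsStableUnderComposition`, `ContainsIdentities`
* `IsZariskiLocalAtTarget AlgSp.lci`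
* `AlgSp.lci.DescendsAlong (Surjective ⊓ Flat ⊓ QuasiCompact)` (from S8662) and hence along fppf covers.
-/

set_option autoImplicit false
set_option linter.style.haveILetI false
universe u

open AlgebraicGeometry CategoryTheory CategoryTheory.Limits MorphismProperty
open Groth.Agent.H39.LCIMor

namespace Groth.Agent.H94.LciLocal

theorem lci_of_smooth {X Y : Scheme.{u}} (f : X ⟶ Y) [Smooth f] : AlgSp.lci f := fun x =>
  Groth.Agent.H39.FlatSmoothSynt.isKoszulAt_of_smooth_over f (𝟙 Y) f (Category.comp_id f) x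

theorem lci_comp {X Y Z : Scheme.{u}} (f : X ⟶ Y) (g : Y ⟶ Z) (hf : AlgSp.lci f)
    (hg : AlgSp.lci g) : AlgSp.lci (f ≫ g) :=
  Groth.Agent.H39.KoszulAtComp.isKoszulAt_comp f g hf hg

instance : AlgSp.lci.{u}.IsStableUnderComposition where
  comp_mem f g hf hg := lci_comp f g hf hg

instance : AlgSp.lci.{u}.ContainsIdentities where
  id_mem X := lci_of_smooth (𝟙 X)

instance : AlgSp.lci.{u}.IsMultiplicative where

instance : AlgSp.lci.{u}.RespectsIso :=
  MorphismProperty.respectsIso_of_isStableUnderComposition (fun _ _ f (_ : IsIso f) =>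
    lci_of_smooth f)

/-- flat base change of lci, pullback-square form. -/
theorem lci_of_isPullback_flat {X Y X' Y' : Scheme.{u}} {f : X ⟶ Y} {g : Y' ⟶ Y} [Flat g]
    {f' : X' ⟶ Y'} {g' : X' ⟶ X} (hsq : IsPullback g' f' f g) (hf : AlgSp.lci f) :
    AlgSp.lci f' :=
  Groth.Agent.H39.KoszulAtBC.isKoszulAt_baseChange_flat f g f' g' hsq hf

theorem lci_restrict {X Y : Scheme.{u}} (f : X ⟶ Y) (U : Y.Opens) (hf : AlgSp.lci f) :
    AlgSp.lci (f ∣_ U) :=
  lci_of_isPullback_flat (isPullback_morphismRestrict f U).flip hf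

/-- Koszul at a point can be checked after restricting to an open of the target. -/
theorem isKoszulAt_of_morphismRestrict {X Y : Scheme.{u}} (f : X ⟶ Y) (U : Y.Opens)
    (x' : (f ⁻¹ᵁ U : X.Opens)) (h : Synt.IsKoszulAt (f ∣_ U) x') :
    Synt.IsKoszulAt f ((f ⁻¹ᵁ U).ι x') := by
  have htop : (f ∣_ U) x' ∈ (⊤ : (U : Scheme.{u}).Opens) := trivial
  obtain ⟨V', hV', hxV', -⟩ :=
    (TopologicalSpace.Opens.isBasis_iff_nbhd.mp (U : Scheme.{u}).isBasis_affineOpens) htop
  obtain ⟨W', hW', e, hxW', hlci⟩ :=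
    Groth.Agent.H39.KoszulAtBridge3.exists_isLCIHom_appLE_of_isKoszulAt (f ∣_ U) x' h V' hV' hxV'
  rw [morphismRestrict_appLE] at hlci
  exact Groth.Agent.H39.KoszulAtBridge2.isKoszulAt_of_isLCIHom_appLE f _ _
    (hW'.image_of_isOpenImmersion _) _ (hV'.image_of_isOpenImmersion _) _ ⟨x', hxW', rfl⟩ hlci

instance : IsZariskiLocalAtTarget AlgSp.lci.{u} := by
  refine IsZariskiLocalAtTarget.mk' (fun f U hf => lci_restrict f U hf) ?_
  intro X Y f ι U hU hf x
  have hx : f x ∈ (⊤ : Y.Opens) := trivial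
  rw [← hU, TopologicalSpace.Opens.mem_iSup] at hx
  obtain ⟨i, hi⟩ := hx
  exact isKoszulAt_of_morphismRestrict f (U i) ⟨x, hi⟩ (hf i _)

instance : AlgSp.lci.{u}.DescendsAlong (@Surjective ⊓ @Flat ⊓ @QuasiCompact) where
  of_isPullback {A X Y Z fst snd f g} h hf hfst := by
    obtain ⟨⟨h1, h2⟩, h3⟩ := hf
    exact Groth.Agent.H94.KoszulAtDescent.isKoszulAt_descent g f fst snd h.flip hfst

theorem lci_descendsAlong_fppf :
    AlgSp.lci.{u}.DescendsAlong (@Surjective ⊓ @Flat ⊓ @LocallyOfFinitePresentation) :=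
  inferInstance

end Groth.Agent.H94.LciLocal
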