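import Mathlib

/-!
# A global form of the local Jacobian criterion

`injective_iff` : for a localization `A'` of `A`, `B' = A' ⊗ B`-like quotient with
`ker(A' → B') = ker(A → B) A'`, the map `K ⊗_A' ker(A' → B') → K ⊗_A' Ω[A'/R]` is injective iff
`K ⊗_A ker(A → B) → K ⊗_A Ω[A/R]` is.

`isSmoothAt_iff` : for `J ⊆ A` finitely generated, `P` a prime of `A/J` with preimage `q`,
`A` smooth at `q` over `R`, `Ω[A/R]` finite: `A/J` is smooth at `P` iff
`K ⊗_A J → K ⊗_A Ω[A/R]` is injective, `K` a field with `ker (A/J → K) = P`.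
-/

set_option autoImplicit false

universe u

namespace Groth.Agent.H94.GlobalJac

open TensorProduct KaehlerDifferential IsLocalRing

section Compare

variable (R : Type*) {A : Type*} [CommRing R] [CommRing A] [Algebra R A]
  (M : Submonoid A) (A' : Type*) [CommRing A'] [Algebra A A'] [IsLocalization M A']
  [Algebra R A'] [IsScalarTower R A A']
  (B : Type*) [CommRing B] [Algebra A B]
  (B' : Type*) [CommRing B'] [Algebra A' B']
  (hker : RingHom.ker (algebraMap A' B') = (RingHom.ker (algebraMap A B)).map (algebraMap A A'))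
  (K : Type*) [CommRing K]
  [Algebra B' K] [Algebra A' K] [IsScalarTower A' B' K] [Algebra B K] [Algebra A K]
  [IsScalarTower A B K] [IsScalarTower A A' K]

include M hker in
/-- comparison isomorphism on the kernel side -/
noncomputable def kerEquiv :
    K ⊗[A] RingHom.ker (algebraMap A B) ≃ₗ[K] K ⊗[A'] RingHom.ker (algebraMap A' B') :=
  have hbc : IsBaseChange A' (Algebra.idealMap A' (RingHom.ker (algebraMap A B))) :=
    IsLocalizedModule.isBaseChange M A' _
  (AlgebraTensorModule.cancelBaseChange A A' K K (RingHom.ker (algebraMap A B))).symm ≪≫ₗ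
    AlgebraTensorModule.congr (LinearEquiv.refl K K)
      (hbc.equiv ≪≫ₗ LinearEquiv.ofEq _ _ hker.symm)

theorem kerEquiv_tmul (x : K) (j : RingHom.ker (algebraMap A B)) :
    ((kerEquiv M A' B B' hker K) (x ⊗ₜ j) : K ⊗[A'] RingHom.ker (algebraMap A' B')) =
      x ⊗ₜ ⟨algebraMap A A' j, by
        rw [hker]; exact Ideal.mem_map_of_mem _ j.2⟩ := by
  simp only [kerEquiv, LinearEquiv.trans_apply, AlgebraTensorModule.cancelBaseChange_symm_tmul,
    AlgebraTensorModule.congr_tmul, LinearEquiv.refl_apply, IsBaseChange.equiv_tmul, one_smul]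
  rfl

/-- comparison isomorphism on the differentials side -/
noncomputable def omegaEquiv : K ⊗[A] Ω[A⁄R] ≃ₗ[K] K ⊗[A'] Ω[A'⁄R] :=
  have : Algebra.FormallyEtale A A' := Algebra.FormallyEtale.of_isLocalization M
  (AlgebraTensorModule.cancelBaseChange A A' K K Ω[A⁄R]).symm ≪≫ₗ
    AlgebraTensorModule.congr (LinearEquiv.refl K K)
      (tensorKaehlerEquivOfFormallyEtale R A A')

theorem omegaEquiv_tmul (x : K) (ω : Ω[A⁄R]) :
    omegaEquiv R M A' K (x ⊗ₜ ω) = x ⊗ₜ KaehlerDifferential.map R R A A' ω := by
  simp [omegaEquiv]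

include M hker in
theorem square :
    (cotangentComplexBaseChange R B' A' K) ∘ₗ (kerEquiv M A' B B' hker K).toLinearMap =
      (omegaEquiv R M A' K).toLinearMap ∘ₗ (cotangentComplexBaseChange R B A K) := by
  apply TensorProduct.AlgebraTensorModule.ext
  intro x j
  simp only [LinearMap.coe_comp, LinearEquiv.coe_coe, Function.comp_apply, kerEquiv_tmul,
    cotangentComplexBaseChange_tmul, kerToTensor_apply, map_smul, omegaEquiv_tmul, map_D]

include M hker in
theorem injective_iff :
    Function.Injective (cotangentComplexBaseChange R B' A' K) ↔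
      Function.Injective (cotangentComplexBaseChange R B A K) := by
  have h := square R M A' B B' hker K
  constructor
  · intro hinj
    have h1 : Function.Injective ((cotangentComplexBaseChange R B' A' K) ∘ₗ
        (kerEquiv M A' B B' hker K).toLinearMap) :=
      hinj.comp (kerEquiv M A' B B' hker K).injective
    rw [h, LinearMap.coe_comp] at h1
    exact Function.Injective.of_comp h1
  · intro hinj
    have h1 : Function.Injective ((omegaEquiv R M A' K).toLinearMap ∘ₗ
        (cotangentComplexBaseChange R B A K)) :=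
      (omegaEquiv R M A' K).injective.comp hinj
    rw [← h] at h1
    intro a b hab
    have := @h1 ((kerEquiv M A' B B' hker K).symm a) ((kerEquiv M A' B B' hker K).symm b)
      (by simpa using hab)
    simpa using this

end Compare

section Main

variable (R : Type u) {A : Type u} [CommRing R] [CommRing A] [Algebra R A] (J : Ideal A)
  (P : Ideal (A ⧸ J)) [P.IsPrime]

/-- **Global form of the local Jacobian criterion.** -/
theorem isSmoothAt_iff (hJ : J.FG) [Module.Finite A Ω[A⁄R]]
    [Algebra.IsSmoothAt R (P.comap (Ideal.Quotient.mk J))]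
    (K : Type*) [Field K] [Algebra (A ⧸ J) K] [Algebra A K] [IsScalarTower A (A ⧸ J) K]
    (hK : RingHom.ker (algebraMap (A ⧸ J) K) = P) :
    Algebra.IsSmoothAt R P ↔
      Function.Injective (cotangentComplexBaseChange R (A ⧸ J) A K) := by
  let Aq := Localization.AtPrime (P.comap (Ideal.Quotient.mk J))
  let S := Localization.AtPrime P
  letI alg1 : Algebra Aq S :=
    (Localization.localRingHom (P.comap (Ideal.Quotient.mk J)) P (Ideal.Quotient.mk J) rfl).toAlgebra
  haveI tw1 : IsScalarTower A Aq S := IsScalarTower.of_algebraMap_eq fun a => by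
    show _ = Localization.localRingHom (P.comap (Ideal.Quotient.mk J)) P (Ideal.Quotient.mk J) rfl
      (algebraMap A Aq a)
    rw [Localization.localRingHom_to_map]
    rfl
  haveI tw2 : IsScalarTower R Aq S := IsScalarTower.of_algebraMap_eq fun r => by
    rw [IsScalarTower.algebraMap_apply R A S, IsScalarTower.algebraMap_apply R A Aq,
      ← IsScalarTower.algebraMap_apply A Aq S]
  have hunit : ∀ y : P.primeCompl, IsUnit (algebraMap (A ⧸ J) K y) := fun y => by
    rw [isUnit_iff_ne_zero, ne_eq, ← RingHom.mem_ker, hK]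
    exact y.2
  letI alg2 : Algebra S K := (IsLocalization.lift (M := P.primeCompl) hunit).toAlgebra
  haveI tw3 : IsScalarTower (A ⧸ J) S K := IsScalarTower.of_algebraMap_eq fun x => by
    show _ = IsLocalization.lift hunit (algebraMap (A ⧸ J) S x)
    rw [IsLocalization.lift_eq]
  letI alg3 : Algebra Aq K := ((algebraMap S K).comp (algebraMap Aq S)).toAlgebra
  haveI tw4 : IsScalarTower Aq S K := IsScalarTower.of_algebraMap_eq' rfl
  haveI tw5 : IsScalarTower A Aq K := IsScalarTower.of_algebraMap_eq fun a => by
    show _ = algebraMap S K (algebraMap Aq S (algebraMap A Aq a))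
    rw [← IsScalarTower.algebraMap_apply A Aq S, IsScalarTower.algebraMap_apply A (A ⧸ J) S,
      ← IsScalarTower.algebraMap_apply (A ⧸ J) S K, ← IsScalarTower.algebraMap_apply A (A ⧸ J) K]
  have h₁ : Function.Surjective (algebraMap Aq S) :=
    RingHom.surjective_localRingHom_of_surjective _ Ideal.Quotient.mk_surjective P
  have hT : Submonoid.map (Ideal.Quotient.mk J) (P.comap (Ideal.Quotient.mk J)).primeCompl =
      P.primeCompl := Submonoid.map_comap_eq_of_surjective Ideal.Quotient.mk_surjective P.primeCompl
  have hker : RingHom.ker (algebraMap Aq S) =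
      (RingHom.ker (algebraMap A (A ⧸ J))).map (algebraMap A Aq) :=
    IsLocalization.ker_map (S := Aq) S (Ideal.Quotient.mk J) hT
  have h₂ : (RingHom.ker (algebraMap Aq S)).FG := by
    rw [hker]
    refine Ideal.FG.map ?_ _
    rwa [Ideal.Quotient.algebraMap_eq, Ideal.mk_ker]
  have h₃ : maximalIdeal S ≤ RingHom.ker (algebraMap S K) := by
    intro x hx
    obtain ⟨a, s, rfl⟩ := IsLocalization.exists_mk'_eq P.primeCompl x
    rw [IsLocalization.AtPrime.mk'_mem_maximal_iff S P] at hx
    rw [RingHom.mem_ker]
    show IsLocalization.lift hunit (IsLocalization.mk' S a s) = 0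
    rw [IsLocalization.lift_mk']
    have : algebraMap (A ⧸ J) K a = 0 := by
      rw [← RingHom.mem_ker, hK]
      exact hx
    simp [this]
  haveI : Algebra.FormallySmooth R Aq := ‹Algebra.IsSmoothAt R _›
  haveI : Algebra.FormallyEtale A Aq :=
    Algebra.FormallyEtale.of_isLocalization (P.comap (Ideal.Quotient.mk J)).primeCompl
  haveI : Module.Finite Aq Ω[Aq⁄R] :=
    Module.Finite.equiv (tensorKaehlerEquivOfFormallyEtale R A Aq)
  haveI : Module.Free Aq Ω[Aq⁄R] := Module.free_of_flat_of_isLocalRing
  show Algebra.FormallySmooth R S ↔ _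
  rw [Algebra.FormallySmooth.iff_injective_cotangentComplexBaseChange Aq K h₁ h₂ h₃]
  exact injective_iff R (P.comap (Ideal.Quotient.mk J)).primeCompl Aq (A ⧸ J) S hker K

end Main

end Groth.Agent.H94.GlobalJac
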