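import Mathlib
import Groth.Agent.H94.GlobalJac

/-!
# Global Jacobian criterion for an abstract surjection `A → B`

`isSmoothAt_iff_of_surjective` : `A → B` surjective with finitely generated kernel, `P` a prime of
`B`, `A` smooth over `R` at the preimage of `P`, `Ω[A/R]` finite, `K` a field over `B` with kernel
`P`. Then `B` is smooth over `R` at `P` iff `K ⊗_A ker (A → B) → K ⊗_A Ω[A/R]` is injective.
Universe polymorphic.
-/

set_option autoImplicit false

namespace Groth.Agent.H94.GlobalJacS

open TensorProduct KaehlerDifferential IsLocalRing Groth.Agent.H94.GlobalJac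

variable (R : Type*) {A B : Type*} [CommRing R] [CommRing A] [CommRing B] [Algebra R A]
  [Algebra A B] [Algebra R B] [IsScalarTower R A B]

/-- **Global form of the local Jacobian criterion**, for a surjection `A → B`. -/
theorem isSmoothAt_iff_of_surjective (hsurj : Function.Surjective (algebraMap A B))
    (hJ : (RingHom.ker (algebraMap A B)).FG) [Module.Finite A Ω[A⁄R]]
    (P : Ideal B) [P.IsPrime]
    [Algebra.IsSmoothAt R (P.comap (algebraMap A B))]
    (K : Type*) [Field K] [Algebra B K] [Algebra A K] [IsScalarTower A B K]
    (hK : RingHom.ker (algebraMap B K) = P) :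
    Algebra.IsSmoothAt R P ↔
      Function.Injective (cotangentComplexBaseChange R B A K) := by
  let Aq := Localization.AtPrime (P.comap (algebraMap A B))
  let S := Localization.AtPrime P
  letI alg1 : Algebra Aq S :=
    (Localization.localRingHom (P.comap (algebraMap A B)) P (algebraMap A B) rfl).toAlgebra
  haveI tw1 : IsScalarTower A Aq S := IsScalarTower.of_algebraMap_eq fun a => by
    show _ = Localization.localRingHom (P.comap (algebraMap A B)) P (algebraMap A B) rfl
      (algebraMap A Aq a)
    rw [Localization.localRingHom_to_map]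
    exact IsScalarTower.algebraMap_apply A B S a
  haveI tw2 : IsScalarTower R Aq S := IsScalarTower.of_algebraMap_eq fun r => by
    rw [IsScalarTower.algebraMap_apply R A S, IsScalarTower.algebraMap_apply R A Aq,
      ← IsScalarTower.algebraMap_apply A Aq S]
  have hunit : ∀ y : P.primeCompl, IsUnit (algebraMap B K y) := fun y => by
    rw [isUnit_iff_ne_zero, ne_eq, ← RingHom.mem_ker, hK]
    exact y.2
  letI alg2 : Algebra S K := (IsLocalization.lift (M := P.primeCompl) hunit).toAlgebra
  haveI tw3 : IsScalarTower B S K := IsScalarTower.of_algebraMap_eq fun x => by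
    show _ = IsLocalization.lift hunit (algebraMap B S x)
    rw [IsLocalization.lift_eq]
  letI alg3 : Algebra Aq K := ((algebraMap S K).comp (algebraMap Aq S)).toAlgebra
  haveI tw4 : IsScalarTower Aq S K := IsScalarTower.of_algebraMap_eq' rfl
  haveI tw5 : IsScalarTower A Aq K := IsScalarTower.of_algebraMap_eq fun a => by
    show _ = algebraMap S K (algebraMap Aq S (algebraMap A Aq a))
    rw [← IsScalarTower.algebraMap_apply A Aq S, IsScalarTower.algebraMap_apply A B S,
      ← IsScalarTower.algebraMap_apply B S K, ← IsScalarTower.algebraMap_apply A B K]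
  have h₁ : Function.Surjective (algebraMap Aq S) := by
    intro z
    obtain ⟨t, ⟨s, hs⟩, rfl⟩ := IsLocalization.exists_mk'_eq P.primeCompl z
    obtain ⟨t', rfl⟩ := hsurj t
    obtain ⟨s', rfl⟩ := hsurj s
    exact ⟨IsLocalization.mk' _ t' ⟨s', hs⟩, Localization.localRingHom_mk' _ _ _ _ _ _⟩
  have hT : Submonoid.map (algebraMap A B) (P.comap (algebraMap A B)).primeCompl =
      P.primeCompl := Submonoid.map_comap_eq_of_surjective hsurj P.primeCompl
  have hker : RingHom.ker (algebraMap Aq S) =
      (RingHom.ker (algebraMap A B)).map (algebraMap A Aq) :=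
    IsLocalization.ker_map (S := Aq) S (algebraMap A B) hT
  have h₂ : (RingHom.ker (algebraMap Aq S)).FG := by
    rw [hker]
    exact Ideal.FG.map hJ _
  have h₃ : maximalIdeal S ≤ RingHom.ker (algebraMap S K) := by
    intro x hx
    obtain ⟨a, s, rfl⟩ := IsLocalization.exists_mk'_eq P.primeCompl x
    rw [IsLocalization.AtPrime.mk'_mem_maximal_iff S P] at hx
    rw [RingHom.mem_ker]
    show IsLocalization.lift hunit (IsLocalization.mk' S a s) = 0
    rw [IsLocalization.lift_mk']
    have : algebraMap B K a = 0 := by
      rw [← RingHom.mem_ker, hK]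
      exact hx
    simp [this]
  haveI : Algebra.FormallySmooth R Aq := ‹Algebra.IsSmoothAt R _›
  haveI : Algebra.FormallyEtale A Aq :=
    Algebra.FormallyEtale.of_isLocalization (P.comap (algebraMap A B)).primeCompl
  haveI : Module.Finite Aq Ω[Aq⁄R] :=
    Module.Finite.equiv (tensorKaehlerEquivOfFormallyEtale R A Aq)
  haveI : Module.Free Aq Ω[Aq⁄R] := Module.free_of_flat_of_isLocalRing
  show Algebra.FormallySmooth R S ↔ _
  rw [Algebra.FormallySmooth.iff_injective_cotangentComplexBaseChange Aq K h₁ h₂ h₃]
  exact injective_iff R (P.comap (algebraMap A B)).primeCompl Aq B S hker K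

end Groth.Agent.H94.GlobalJacS
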