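import Mathlib
import Groth.Agent.H94.GlobalJacS

/-!
# Injectivity of the Jacobian map from independent differentials

* `injective_of_rep` : `A → B` with kernel `I`, `K` a field over `B`, `g i ∈ I` with `1 ⊗ d(g i)`
  linearly independent in `K ⊗ Ω[A/R]`, such that every `f ∈ I` satisfies `t f ∈ (g)` for some `t`
  invertible in `K`. Then `K ⊗ I → K ⊗ Ω[A/R]` is injective.
* `isSmoothAt_of_linearIndependent` : `A / (g₁, …, g_c)` is smooth at a prime where the `d(g i)`
  are independent.
-/

set_option autoImplicit false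

namespace Groth.Agent.H94.JacCore

open TensorProduct KaehlerDifferential

variable (R : Type*) {A B : Type*} [CommRing R] [CommRing A] [CommRing B] [Algebra R A]
  [Algebra A B] [Algebra R B] [IsScalarTower R A B]
  (K : Type*) [Field K] [Algebra B K] [Algebra A K] [IsScalarTower A B K]
  {κ : Type*} [Fintype κ] (g : κ → A) (hg : ∀ i, g i ∈ RingHom.ker (algebraMap A B))

omit [Algebra B K] [IsScalarTower A B K] in
include hg in
/-- every element of `K ⊗ I` is a combination of the `1 ⊗ g i` -/
theorem exists_rep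
    (hrep : ∀ f ∈ RingHom.ker (algebraMap A B), ∃ t : A, algebraMap A K t ≠ 0 ∧
      t * f ∈ Ideal.span (Set.range g))
    (z : K ⊗[A] RingHom.ker (algebraMap A B)) :
    ∃ x : κ → K, z = ∑ i, x i ⊗ₜ[A] (⟨g i, hg i⟩ : RingHom.ker (algebraMap A B)) := by
  induction z using TensorProduct.induction_on with
  | zero => exact ⟨0, by simp⟩
  | tmul y f =>
    obtain ⟨t, ht, htf⟩ := hrep f.1 f.2
    obtain ⟨c, hc⟩ := (Submodule.mem_span_range_iff_exists_fun A).mp htf
    refine ⟨fun i => c i • ((algebraMap A K t)⁻¹ * y), ?_⟩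
    have h1 : y = t • ((algebraMap A K t)⁻¹ * y) := by
      rw [Algebra.smul_def, ← mul_assoc, mul_inv_cancel₀ ht, one_mul]
    have h2 : t • f = ∑ i, c i • (⟨g i, hg i⟩ : RingHom.ker (algebraMap A B)) := by
      apply Subtype.ext
      rw [Submodule.coe_smul, Submodule.coe_sum, smul_eq_mul, ← hc]
      rfl
    conv_lhs => rw [h1, TensorProduct.smul_tmul, h2, TensorProduct.tmul_sum]
    refine Finset.sum_congr rfl fun i _ => ?_
    rw [TensorProduct.smul_tmul]
  | add z w hz hw =>
    obtain ⟨x, rfl⟩ := hz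
    obtain ⟨y, rfl⟩ := hw
    refine ⟨x + y, ?_⟩
    rw [← Finset.sum_add_distrib]
    refine Finset.sum_congr rfl fun i _ => ?_
    rw [Pi.add_apply, TensorProduct.add_tmul]

omit [Algebra R B] [IsScalarTower R A B] in
include hg in
/-- **Core lemma.** -/
theorem injective_of_rep
    (hli : LinearIndependent K (fun i => (1 : K) ⊗ₜ[A] D R A (g i)))
    (hrep : ∀ f ∈ RingHom.ker (algebraMap A B), ∃ t : A, algebraMap A K t ≠ 0 ∧
      t * f ∈ Ideal.span (Set.range g)) :
    Function.Injective (cotangentComplexBaseChange R B A K) := by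
  rw [injective_iff_map_eq_zero]
  intro z hz
  obtain ⟨x, rfl⟩ := exists_rep K g hg hrep z
  rw [map_sum] at hz
  have h1 : ∀ i, cotangentComplexBaseChange R B A K
      (x i ⊗ₜ[A] (⟨g i, hg i⟩ : RingHom.ker (algebraMap A B))) =
      x i • ((1 : K) ⊗ₜ[A] D R A (g i)) := by
    intro i
    rw [cotangentComplexBaseChange_tmul, kerToTensor_apply]
  simp only [h1] at hz
  have h2 := Fintype.linearIndependent_iff.mp hli x hz
  refine Finset.sum_eq_zero fun i _ => ?_
  rw [h2 i, TensorProduct.zero_tmul]

/-- `A / (g₁, …, g_c)` is smooth at a prime where the `d(g i)` are linearly independent. -/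
theorem isSmoothAt_of_linearIndependent
    (hsurj : Function.Surjective (algebraMap A B))
    (hker : RingHom.ker (algebraMap A B) = Ideal.span (Set.range g))
    [Module.Finite A Ω[A⁄R]] (P : Ideal B) [P.IsPrime]
    [Algebra.IsSmoothAt R (P.comap (algebraMap A B))]
    (hK : RingHom.ker (algebraMap B K) = P)
    (hli : LinearIndependent K (fun i => (1 : K) ⊗ₜ[A] D R A (g i))) :
    Algebra.IsSmoothAt R P := by
  have hg : ∀ i, g i ∈ RingHom.ker (algebraMap A B) := fun i => by
    rw [hker]; exact Ideal.subset_span ⟨i, rfl⟩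
  have hfg : (RingHom.ker (algebraMap A B)).FG := by
    rw [hker]; exact Submodule.fg_span (Set.finite_range g)
  rw [GlobalJacS.isSmoothAt_iff_of_surjective R hsurj hfg P K hK]
  refine injective_of_rep R K g hg hli fun f hf => ⟨1, ?_, ?_⟩
  · rw [map_one]; exact one_ne_zero
  · rw [one_mul, ← hker]; exact hf

end Groth.Agent.H94.JacCore
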