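import Mathlib

/-!
# Bases of kernels of split surjections over a local ring, chosen from a spanning family

* `exists_basis_ker` : over a local ring, the kernel of a surjection `V → Q` of finite modules with
  `V` free and `Q` projective has a basis chosen among any given spanning family of the kernel,
  and the kernel is a retract of `V`.
* `linearIndependent_baseChange_of_retract` : a basis of a retract `W` of `V` stays linearly
  independent in `K ⊗ V` for any algebra `K`.
* `ker_baseChange_eq_span` : kernel of a base-changed surjection.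
-/

set_option autoImplicit false

universe u

namespace Groth.Agent.H94.LocalBasis

open TensorProduct

section Ker

variable {Λ : Type*} [CommRing Λ] [IsLocalRing Λ] {V Q : Type*} [AddCommGroup V] [Module Λ V]
  [AddCommGroup Q] [Module Λ Q] [Module.Finite Λ V] [Module.Free Λ V] [Module.Projective Λ Q]

theorem exists_basis_ker (π : V →ₗ[Λ] Q) (hπ : Function.Surjective π) {ι : Type u} (v : ι → V)
    (hv : Submodule.span Λ (Set.range v) = LinearMap.ker π) :
    ∃ (κ : Type u) (a : κ → ι) (b : Module.Basis κ Λ (LinearMap.ker π))
      (ρ : V →ₗ[Λ] LinearMap.ker π),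
      (∀ i, (b i : V) = v (a i)) ∧ (∀ w : LinearMap.ker π, ρ w = w) := by
  obtain ⟨σ, hσ⟩ := Module.projective_lifting_property π LinearMap.id hπ
  have hσ' : ∀ q, π (σ q) = q := fun q => LinearMap.congr_fun hσ q
  let ρ : V →ₗ[Λ] LinearMap.ker π :=
    (LinearMap.id - σ ∘ₗ π).codRestrict (LinearMap.ker π) (fun x => by
      rw [LinearMap.mem_ker, LinearMap.sub_apply, map_sub, LinearMap.id_apply,
        LinearMap.comp_apply, hσ', sub_self])
  have hρ : ∀ w : LinearMap.ker π, ρ w = w := by
    intro w
    apply Subtype.ext
    show (w : V) - σ (π w) = w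
    rw [LinearMap.mem_ker.mp w.2, map_zero, sub_zero]
  have hρsurj : Function.Surjective ρ := fun w => ⟨w, hρ w⟩
  haveI : Module.Finite Λ (LinearMap.ker π) := Module.Finite.of_surjective ρ hρsurj
  haveI : Module.Projective Λ (LinearMap.ker π) :=
    Module.Projective.of_split (LinearMap.ker π).subtype ρ (LinearMap.ext hρ)
  haveI : Module.FinitePresentation Λ (LinearMap.ker π) :=
    Module.finitePresentation_of_projective Λ _
  have hvmem : ∀ j, v j ∈ LinearMap.ker π := fun j => by
    rw [← hv]; exact Submodule.subset_span ⟨j, rfl⟩
  let v' : ι → LinearMap.ker π := fun j => ⟨v j, hvmem j⟩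
  have hv' : Submodule.span Λ (Set.range v') = ⊤ := by
    apply Submodule.map_injective_of_injective (LinearMap.ker π).injective_subtype
    rw [Submodule.map_span, ← Set.range_comp, Submodule.map_top, Submodule.range_subtype]
    exact hv
  obtain ⟨κ, a, b, hb⟩ := Module.exists_basis_of_span_of_flat v' hv'
  refine ⟨κ, a, b, ρ, fun i => ?_, hρ⟩
  rw [hb i]

end Ker

section Retract

variable {Λ : Type*} [CommRing Λ] {V : Type*} [AddCommGroup V] [Module Λ V]
  (W : Submodule Λ V) (ρ : V →ₗ[Λ] W) (hρ : ∀ w : W, ρ w = w)
  {κ : Type*} (b : Module.Basis κ Λ W)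

include hρ in
theorem linearIndependent_baseChange_of_retract (K : Type*) [CommRing K] [Algebra Λ K] :
    LinearIndependent K (fun i => (1 : K) ⊗ₜ[Λ] (b i : V)) := by
  have h1 : LinearIndependent K (Module.Basis.baseChange K b) :=
    (Module.Basis.baseChange K b).linearIndependent
  have hinj : Function.Injective (W.subtype.baseChange K) := by
    have hleft : Function.LeftInverse (ρ.baseChange K) (W.subtype.baseChange K) := by
      intro z
      induction z using TensorProduct.induction_on with
      | zero => simp
      | tmul x w =>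
        rw [LinearMap.baseChange_tmul, LinearMap.baseChange_tmul, Submodule.subtype_apply, hρ]
      | add z w hz hw => rw [map_add, map_add, hz, hw]
    exact hleft.injective
  have h2 := h1.map' (W.subtype.baseChange K) (LinearMap.ker_eq_bot.mpr hinj)
  have h3 : (fun i => (1 : K) ⊗ₜ[Λ] (b i : V)) =
      (W.subtype.baseChange K) ∘ (Module.Basis.baseChange K b) := by
    funext i
    simp [Module.Basis.baseChange_apply]
  rw [h3]
  exact h2

end Retract

section BaseChange

variable {A : Type*} [CommRing A] {M N : Type*} [AddCommGroup M] [Module A M]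
  [AddCommGroup N] [Module A N] (Λ : Type*) [CommRing Λ] [Algebra A Λ]

/-- kernel of a base-changed surjection -/
theorem ker_baseChange_eq_span (g : M →ₗ[A] N) (hg : Function.Surjective g) (S : Set M)
    (hS : Submodule.span A S = LinearMap.ker g) :
    LinearMap.ker (g.baseChange Λ) = Submodule.span Λ ((fun s => (1 : Λ) ⊗ₜ[A] s) '' S) := by
  have hspan : ∀ m ∈ Submodule.span A S,
      (1 : Λ) ⊗ₜ[A] m ∈ Submodule.span Λ ((fun s => (1 : Λ) ⊗ₜ[A] s) '' S) := by
    intro m hm
    induction hm using Submodule.span_induction with
    | mem s hs => exact Submodule.subset_span ⟨s, hs, rfl⟩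
    | zero => rw [TensorProduct.tmul_zero]; exact zero_mem _
    | add s t _ _ hs ht => rw [TensorProduct.tmul_add]; exact add_mem hs ht
    | smul a s _ hs =>
      rw [TensorProduct.tmul_smul, ← algebraMap_smul Λ a]
      exact Submodule.smul_mem _ _ hs
  apply le_antisymm
  · intro z hz
    have hexact : Function.Exact (LinearMap.ker g).subtype g := LinearMap.exact_subtype_ker_map g
    have hexact' := lTensor_exact Λ hexact hg
    have hz' : (LinearMap.lTensor Λ g) z = 0 := hz
    obtain ⟨y, rfl⟩ := (hexact' z).mp hz'
    clear hz hz'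
    induction y using TensorProduct.induction_on with
    | zero => rw [map_zero]; exact zero_mem _
    | tmul x m =>
      rw [LinearMap.lTensor_tmul, Submodule.subtype_apply]
      have hm : (m : M) ∈ Submodule.span A S := hS.ge m.2
      have hx : x ⊗ₜ[A] (m : M) = x • ((1 : Λ) ⊗ₜ[A] (m : M)) := by
        rw [TensorProduct.smul_tmul', smul_eq_mul, mul_one]
      rw [hx]
      exact Submodule.smul_mem _ _ (hspan _ hm)
    | add y z hy hz => rw [map_add]; exact add_mem hy hz
  · rw [Submodule.span_le]
    rintro _ ⟨s, hs, rfl⟩
    rw [SetLike.mem_coe, LinearMap.mem_ker, LinearMap.baseChange_tmul]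
    have : g s = 0 := by
      rw [← LinearMap.mem_ker, ← hS]; exact Submodule.subset_span hs
    rw [this, TensorProduct.tmul_zero]

end BaseChange

end Groth.Agent.H94.LocalBasis
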