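import Mathlib

/-!
# Nakayama's lemma with an arbitrary field

`exists_smul_eq_zero_of_subsingleton_tensor` : `M` a finite `R`-module, `K` a field over `R`
with `K ⊗ M = 0`. Then some `s` invertible in `K` kills `M`.
-/

set_option autoImplicit false

namespace Groth.Agent.H94.NakField

open TensorProduct

variable {R : Type*} [CommRing R] (M : Type*) [AddCommGroup M] [Module R M]

theorem exists_smul_eq_zero_of_subsingleton_tensor [Module.Finite R M]
    (K : Type*) [Field K] [Algebra R K] (h : Subsingleton (K ⊗[R] M)) :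
    ∃ s : R, algebraMap R K s ≠ 0 ∧ ∀ m : M, s • m = 0 := by
  let P : Ideal R := RingHom.ker (algebraMap R K)
  haveI : P.IsPrime := RingHom.ker_isPrime _
  let p : PrimeSpectrum R := ⟨P, inferInstance⟩
  have hsupp : p ∉ Module.support R M := by
    intro hp
    rw [Module.mem_support_iff_nontrivial_residueField_tensorProduct] at hp
    let κ := P.ResidueField
    let ι : κ →+* K := Ideal.ResidueField.lift P (algebraMap R K) le_rfl (by
      intro s hs
      rw [Submonoid.mem_comap]
      show IsUnit (algebraMap R K s)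
      rw [isUnit_iff_ne_zero]
      exact hs)
    letI : Algebra κ K := ι.toAlgebra
    haveI : IsScalarTower R κ K := IsScalarTower.of_algebraMap_eq fun r => by
      show _ = ι (algebraMap R κ r)
      rw [Ideal.ResidueField.lift_algebraMap]
    let e : K ⊗[κ] (κ ⊗[R] M) ≃ₗ[K] K ⊗[R] M :=
      AlgebraTensorModule.cancelBaseChange R κ K K M
    haveI : Nontrivial (κ ⊗[R] M) := hp
    have h1 : 0 < Module.finrank κ (κ ⊗[R] M) := Module.finrank_pos
    have h2 : Module.finrank K (K ⊗[κ] (κ ⊗[R] M)) = Module.finrank κ (κ ⊗[R] M) :=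
      Module.finrank_baseChange
    have h3 : Module.finrank K (K ⊗[κ] (κ ⊗[R] M)) = 0 := by
      rw [e.finrank_eq]
      exact Module.finrank_zero_of_subsingleton
    omega
  rw [Module.mem_support_iff_of_finite] at hsupp
  obtain ⟨s, hs, hsP⟩ := SetLike.not_le_iff_exists.mp hsupp
  refine ⟨s, fun h0 => hsP (RingHom.mem_ker.mpr h0), fun m => ?_⟩
  exact Module.mem_annihilator.mp hs m

end Groth.Agent.H94.NakField
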