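import Mathlib
import Groth.Agent.H94.JacCore
import Groth.Agent.H94.NakField
import Groth.Agent.H94.LocalBasis
import Groth.Agent.H47.RegSmoothField
import Groth.Agent.H47.SmoothRegular
import Groth.Agent.Lead.RegularLocal

/-!
# Smoothness at the closed point of a section over a local domain

`isSmoothAt_comap_maximalIdeal` : `R` a regular ring, `Λ` a local domain over `R`, `A` an
`R`-algebra of finite type with `A → Λ`, smooth at the kernel, with `Λ ⊗ Ω[A/R]` projective.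
Then `A` is smooth at the preimage of the maximal ideal of `Λ`.
-/

set_option autoImplicit false

universe u

namespace Groth.Agent.H94.DVRSection

open TensorProduct KaehlerDifferential IsLocalRing

/-- smooth over a regular ring at a prime implies the local ring is regular -/
theorem isRegularLocalRing_of_isSmoothAt (R S : Type u) [CommRing R] [CommRing S] [Algebra R S]
    [IsRegularRing R] [Algebra.FinitePresentation R S] (q : Ideal S) [q.IsPrime]
    [Algebra.IsSmoothAt R q] : IsRegularLocalRing (Localization.AtPrime q) := by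
  obtain ⟨f, hf, hfs⟩ := Algebra.IsSmoothAt.exists_notMem_smooth R q
  haveI : IsRegularRing (Localization.Away f) :=
    Groth.Agent.H47.isRegularRing_of_smooth R (Localization.Away f)
  refine Groth.Agent.H47.RSF.isRegularLocalRing_atPrime_of_isLocalization
    (S := Localization.Away f) (Submonoid.powers f) q ?_
  rw [Set.disjoint_left]
  rintro _ ⟨n, rfl⟩ hmem
  exact hf (Ideal.IsPrime.mem_of_pow_mem ‹_› n hmem)

section Cancel

variable (P₀ A Λ K M : Type*) [CommRing P₀] [CommRing A] [CommRing Λ] [CommRing K]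
  [Algebra P₀ A] [Algebra A Λ] [Algebra Λ K] [Algebra A K] [Algebra P₀ K]
  [IsScalarTower A Λ K] [IsScalarTower P₀ A K] [AddCommGroup M] [Module P₀ M]

/-- the identification `K ⊗[Λ] (Λ ⊗[A] (A ⊗[P₀] M)) ≃ K ⊗[P₀] M` -/
noncomputable def cancel3 : K ⊗[Λ] (Λ ⊗[A] (A ⊗[P₀] M)) ≃ₗ[K] K ⊗[P₀] M :=
  (AlgebraTensorModule.cancelBaseChange A Λ K K (A ⊗[P₀] M)) ≪≫ₗ
    (AlgebraTensorModule.cancelBaseChange P₀ A K K M)

@[simp] theorem cancel3_tmul (x : K) (m : M) :
    cancel3 P₀ A Λ K M (x ⊗ₜ[Λ] ((1 : Λ) ⊗ₜ[A] ((1 : A) ⊗ₜ[P₀] m))) = x ⊗ₜ[P₀] m := by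
  simp [cancel3]

end Cancel

section Aux

variable (R Λ A P₀ : Type u) [CommRing R] [IsRegularRing R]
  [CommRing Λ] [IsDomain Λ] [IsLocalRing Λ] [Algebra R Λ]
  [CommRing A] [Algebra R A] [Algebra A Λ] [IsScalarTower R A Λ]
  [CommRing P₀] [Algebra R P₀] [Algebra P₀ A] [IsScalarTower R P₀ A] [Algebra P₀ Λ]
  [IsScalarTower P₀ A Λ] [IsNoetherianRing P₀] [Algebra.FormallySmooth R P₀]
  [Algebra.FinitePresentation R P₀] [Module.Free P₀ Ω[P₀⁄R]] [Module.Finite P₀ Ω[P₀⁄R]]

omit [Algebra R Λ] [IsScalarTower R A Λ] in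
theorem isSmoothAt_comap_maximalIdeal_aux (hsurj : Function.Surjective (algebraMap P₀ A))
    [(RingHom.ker (algebraMap A Λ)).IsPrime]
    (hq : Algebra.IsSmoothAt R (RingHom.ker (algebraMap A Λ)))
    (hfree : Module.Projective Λ (Λ ⊗[A] Ω[A⁄R])) :
    Algebra.IsSmoothAt R ((maximalIdeal Λ).comap (algebraMap A Λ)) := by
  classical
  let k := ResidueField Λ
  let L := FractionRing Λ
  let I : Ideal P₀ := RingHom.ker (algebraMap P₀ A)
  have hIfg : I.FG := IsNoetherian.noetherian I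
  have hsmP₀ : ∀ (q : Ideal P₀) [q.IsPrime], Algebra.IsSmoothAt R q := by
    intro q _
    haveI : Algebra.FormallySmooth P₀ (Localization.AtPrime q) :=
      Algebra.FormallySmooth.of_isLocalization q.primeCompl
    exact Algebra.FormallySmooth.comp R P₀ (Localization.AtPrime q)
  -- the presentation of `Ω[A/R]`
  let mb : A ⊗[P₀] Ω[P₀⁄R] →ₗ[A] Ω[A⁄R] := mapBaseChange R P₀ A
  have hmb : Function.Surjective mb := mapBaseChange_surjective R P₀ A hsurj
  let w : I → A ⊗[P₀] Ω[P₀⁄R] := fun f => (1 : A) ⊗ₜ[P₀] D R P₀ (f : P₀)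
  have hS : Submodule.span A (Set.range w) = LinearMap.ker mb := by
    apply le_antisymm
    · rw [Submodule.span_le]
      rintro _ ⟨f, rfl⟩
      rw [SetLike.mem_coe, LinearMap.mem_ker]
      show mapBaseChange R P₀ A ((1 : A) ⊗ₜ[P₀] D R P₀ (f : P₀)) = 0
      rw [mapBaseChange_tmul, map_D, RingHom.mem_ker.mp f.2, map_zero, smul_zero]
    · intro z hz
      have hz' : z ∈ (LinearMap.ker (mapBaseChange R P₀ A)).restrictScalars P₀ := hz
      rw [← range_kerCotangentToTensor R P₀ A hsurj] at hz'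
      obtain ⟨c, rfl⟩ := hz'
      obtain ⟨j, rfl⟩ := Ideal.toCotangent_surjective _ c
      rw [kerCotangentToTensor_toCotangent]
      exact Submodule.subset_span ⟨j, rfl⟩
  -- base change to `Λ`
  let π : Λ ⊗[A] (A ⊗[P₀] Ω[P₀⁄R]) →ₗ[Λ] Λ ⊗[A] Ω[A⁄R] := mb.baseChange Λ
  have hπ : Function.Surjective π := LinearMap.lTensor_surjective Λ hmb
  let v : I → Λ ⊗[A] (A ⊗[P₀] Ω[P₀⁄R]) := fun f => (1 : Λ) ⊗ₜ[A] w f
  have hv : Submodule.span Λ (Set.range v) = LinearMap.ker π := by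
    rw [LocalBasis.ker_baseChange_eq_span Λ mb hmb (Set.range w) hS, ← Set.range_comp]
    rfl
  obtain ⟨κ, a, b, ρ, hb, hρ⟩ := LocalBasis.exists_basis_ker π hπ v hv
  have hρsurj : Function.Surjective ρ := fun x => ⟨x, hρ x⟩
  haveI : Module.Finite Λ (LinearMap.ker π) := Module.Finite.of_surjective ρ hρsurj
  haveI : Finite κ := Module.Finite.finite_basis b
  haveI : Fintype κ := Fintype.ofFinite κ
  let g : κ → P₀ := fun i => (a i : P₀)
  have hg : ∀ i, g i ∈ RingHom.ker (algebraMap P₀ A) := fun i => (a i).2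
  -- transfer to `K ⊗[P₀] Ω[P₀/R]`
  have hli : ∀ (K : Type u) [Field K] [Algebra Λ K] [Algebra A K] [Algebra P₀ K]
      [IsScalarTower A Λ K] [IsScalarTower P₀ A K],
      LinearIndependent K (fun i => (1 : K) ⊗ₜ[P₀] D R P₀ (g i)) := by
    intro K _ _ _ _ _ _
    have h1 := LocalBasis.linearIndependent_baseChange_of_retract (LinearMap.ker π) ρ hρ b K
    let E : K ⊗[Λ] (Λ ⊗[A] (A ⊗[P₀] Ω[P₀⁄R])) ≃ₗ[K] K ⊗[P₀] Ω[P₀⁄R] :=
      cancel3 P₀ A Λ K Ω[P₀⁄R]
    have h2 := h1.map' E.toLinearMap (LinearMap.ker_eq_bot.mpr E.injective)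
    have h3 : (fun i => (1 : K) ⊗ₜ[P₀] D R P₀ (g i)) =
        E.toLinearMap ∘ (fun i => (1 : K) ⊗ₜ[Λ] (b i : Λ ⊗[A] (A ⊗[P₀] Ω[P₀⁄R]))) := by
      funext i
      rw [Function.comp_apply, hb i]
      show _ = E ((1 : K) ⊗ₜ[Λ] ((1 : Λ) ⊗ₜ[A] ((1 : A) ⊗ₜ[P₀] D R P₀ (g i))))
      rw [cancel3_tmul]
    rw [h3]
    exact h2
  have hlik := hli k
  have hliL := hli L
  -- the complete intersection `B' = P₀ / (g)`
  let J : Ideal P₀ := Ideal.span (Set.range g)
  have hJI : J ≤ I := Ideal.span_le.mpr (by rintro _ ⟨i, rfl⟩; exact hg i)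
  have hJfg : J.FG := Submodule.fg_span (Set.finite_range g)
  have hIΛ : ∀ f ∈ I, algebraMap P₀ Λ f = 0 := fun f hf => by
    rw [IsScalarTower.algebraMap_apply P₀ A Λ, RingHom.mem_ker.mp hf, map_zero]
  have hJk : ∀ f ∈ J, algebraMap P₀ k f = 0 := fun f hf => by
    rw [IsScalarTower.algebraMap_apply P₀ Λ k, hIΛ f (hJI hf), map_zero]
  letI algB'k : Algebra (P₀ ⧸ J) k := (Ideal.Quotient.lift J (algebraMap P₀ k) hJk).toAlgebra
  haveI : IsScalarTower P₀ (P₀ ⧸ J) k := IsScalarTower.of_algebraMap_eq fun a => rfl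
  let P' : Ideal (P₀ ⧸ J) := RingHom.ker (algebraMap (P₀ ⧸ J) k)
  haveI : P'.IsPrime := RingHom.ker_isPrime _
  haveI : Algebra.IsSmoothAt R (P'.comap (algebraMap P₀ (P₀ ⧸ J))) := hsmP₀ _
  have hsmB' : Algebra.IsSmoothAt R P' :=
    JacCore.isSmoothAt_of_linearIndependent R k g Ideal.Quotient.mk_surjective
      (by rw [Ideal.Quotient.algebraMap_eq, Ideal.mk_ker]) P' rfl hlik
  haveI : Algebra.FinitePresentation R (P₀ ⧸ J) := Algebra.FinitePresentation.quotient hJfg
  haveI : IsRegularLocalRing (Localization.AtPrime P') :=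
    isRegularLocalRing_of_isSmoothAt R (P₀ ⧸ J) P'
  haveI : IsDomain (Localization.AtPrime P') := Groth.Agent.Lead.RLR.isDomain _
  -- the Jacobian map at the generic point of the section is injective
  have hL : RingHom.ker (algebraMap A L) = RingHom.ker (algebraMap A Λ) := by
    ext x
    rw [RingHom.mem_ker, RingHom.mem_ker, IsScalarTower.algebraMap_apply A Λ L]
    exact (IsFractionRing.injective Λ L).eq_iff' (map_zero _)
  haveI : Algebra.IsSmoothAt R ((RingHom.ker (algebraMap A Λ)).comap (algebraMap P₀ A)) :=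
    hsmP₀ _
  have hΦL : Function.Injective (cotangentComplexBaseChange R A P₀ L) :=
    (GlobalJacS.isSmoothAt_iff_of_surjective R hsurj hIfg
      (RingHom.ker (algebraMap A Λ)) L hL).mp hq
  -- every `1 ⊗ f`, `f ∈ I`, is an `L`-combination of the `1 ⊗ g i`
  let T : Λ ⊗[A] (A ⊗[P₀] Ω[P₀⁄R]) →ₗ[Λ] L ⊗[P₀] Ω[P₀⁄R] :=
    ((cancel3 P₀ A Λ L Ω[P₀⁄R]).toLinearMap.restrictScalars Λ) ∘ₗ
      (TensorProduct.mk Λ L (Λ ⊗[A] (A ⊗[P₀] Ω[P₀⁄R])) 1)
  have hTv : ∀ f : I, T (v f) = (1 : L) ⊗ₜ[P₀] D R P₀ (f : P₀) := fun f => by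
    show cancel3 P₀ A Λ L Ω[P₀⁄R]
      ((1 : L) ⊗ₜ[Λ] ((1 : Λ) ⊗ₜ[A] ((1 : A) ⊗ₜ[P₀] D R P₀ (f : P₀)))) = _
    rw [cancel3_tmul]
  have hvker : ∀ f : I, v f ∈ LinearMap.ker π := fun f => by
    rw [← hv]; exact Submodule.subset_span ⟨f, rfl⟩
  have hcomb : ∀ f : I, ∃ c : κ → L, (1 : L) ⊗ₜ[P₀] D R P₀ (f : P₀) =
      ∑ i, c i • ((1 : L) ⊗ₜ[P₀] D R P₀ (g i)) := by
    intro f
    have h1 := congrArg Subtype.val (b.sum_repr ⟨v f, hvker f⟩)
    rw [Submodule.coe_sum] at h1
    simp only [Submodule.coe_smul, hb] at h1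
    have h2 := congrArg T h1
    rw [map_sum, hTv] at h2
    refine ⟨fun i => algebraMap Λ L (b.repr ⟨v f, hvker f⟩ i), ?_⟩
    rw [← h2]
    refine Finset.sum_congr rfl fun i _ => ?_
    rw [map_smul, hTv, algebraMap_smul]
  let gI : κ → I := fun i => ⟨g i, hg i⟩
  have hcombI : ∀ f : I, ∃ c : κ → L, (1 : L) ⊗ₜ[P₀] f = ∑ i, c i • ((1 : L) ⊗ₜ[P₀] gI i) := by
    intro f
    obtain ⟨c, hc⟩ := hcomb f
    refine ⟨c, hΦL ?_⟩
    rw [map_sum, cotangentComplexBaseChange_tmul, kerToTensor_apply, one_smul, hc]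
    refine Finset.sum_congr rfl fun i _ => ?_
    rw [map_smul, cotangentComplexBaseChange_tmul, kerToTensor_apply, one_smul]
  -- Nakayama: `I / (g)` vanishes at the generic point of the section
  let Js : Submodule P₀ I := Submodule.span P₀ (Set.range gI)
  haveI : Module.Finite P₀ I := Module.Finite.iff_fg.mpr hIfg
  have hsub : Subsingleton (L ⊗[P₀] (I ⧸ Js)) := by
    have hsurj' : Function.Surjective (Js.mkQ.baseChange L) :=
      LinearMap.lTensor_surjective L (Submodule.mkQ_surjective Js)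
    have hzero : ∀ z : L ⊗[P₀] I, Js.mkQ.baseChange L z = 0 := by
      intro z
      induction z using TensorProduct.induction_on with
      | zero => exact map_zero _
      | tmul x f =>
        obtain ⟨c, hc⟩ := hcombI f
        have hx : x ⊗ₜ[P₀] f = x • ((1 : L) ⊗ₜ[P₀] f) := by
          rw [TensorProduct.smul_tmul', smul_eq_mul, mul_one]
        rw [hx, map_smul, hc, map_sum]
        have : ∀ i, Js.mkQ.baseChange L (c i • ((1 : L) ⊗ₜ[P₀] gI i)) = 0 := by
          intro i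
          rw [map_smul, LinearMap.baseChange_tmul]
          have : Js.mkQ (gI i) = 0 := by
            rw [Submodule.mkQ_apply, Submodule.Quotient.mk_eq_zero]
            exact Submodule.subset_span ⟨i, rfl⟩
          rw [this, TensorProduct.tmul_zero, smul_zero]
        rw [Finset.sum_eq_zero fun i _ => this i, smul_zero]
      | add z w hz hw => rw [map_add, hz, hw, add_zero]
    constructor
    intro x y
    obtain ⟨x', rfl⟩ := hsurj' x
    obtain ⟨y', rfl⟩ := hsurj' y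
    rw [hzero, hzero]
  obtain ⟨s, hsL, hs⟩ := NakField.exists_smul_eq_zero_of_subsingleton_tensor (I ⧸ Js) L hsub
  have hsI : ∀ f ∈ I, s * f ∈ J := by
    intro f hf
    have h1 := hs (Js.mkQ ⟨f, hf⟩)
    rw [← map_smul, Submodule.mkQ_apply, Submodule.Quotient.mk_eq_zero] at h1
    have h2 : (I.subtype) (s • (⟨f, hf⟩ : I)) ∈ Submodule.map I.subtype Js :=
      Submodule.mem_map_of_mem h1
    rw [Submodule.map_span, ← Set.range_comp] at h2
    exact h2
  -- pass to the closed point using that `B'_{P'}` is a domain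
  have hsΛ : algebraMap P₀ Λ s ≠ 0 := by
    intro h0
    apply hsL
    rw [IsScalarTower.algebraMap_apply P₀ Λ L, h0, map_zero]
  have hP'mem : ∀ t : P₀, Ideal.Quotient.mk J t ∈ P' ↔ algebraMap P₀ k t = 0 := fun t => by
    rw [RingHom.mem_ker]; rfl
  have hrep : ∀ f ∈ RingHom.ker (algebraMap P₀ A), ∃ t : P₀, algebraMap P₀ k t ≠ 0 ∧
      t * f ∈ Ideal.span (Set.range g) := by
    intro f hf
    let S' := Localization.AtPrime P'
    have hy : algebraMap (P₀ ⧸ J) S' (Ideal.Quotient.mk J s) ≠ 0 := by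
      intro h0
      obtain ⟨t', ht'⟩ := (IsLocalization.map_eq_zero_iff P'.primeCompl S' _).mp h0
      obtain ⟨t₀, ht₀⟩ := Ideal.Quotient.mk_surjective (t' : P₀ ⧸ J)
      rw [← ht₀, ← map_mul, Ideal.Quotient.eq_zero_iff_mem] at ht'
      have h1 : algebraMap P₀ Λ (t₀ * s) = 0 := hIΛ _ (hJI ht')
      rw [map_mul] at h1
      rcases mul_eq_zero.mp h1 with h2 | h2
      · apply t'.2
        show (t' : P₀ ⧸ J) ∈ P'
        rw [← ht₀, hP'mem, IsScalarTower.algebraMap_apply P₀ Λ k, h2, map_zero]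
      · exact hsΛ h2
    have hxy : algebraMap (P₀ ⧸ J) S' (Ideal.Quotient.mk J s) *
        algebraMap (P₀ ⧸ J) S' (Ideal.Quotient.mk J f) = 0 := by
      rw [← map_mul, ← map_mul, Ideal.Quotient.eq_zero_iff_mem.mpr (hsI f hf), map_zero]
    have hx : algebraMap (P₀ ⧸ J) S' (Ideal.Quotient.mk J f) = 0 :=
      (mul_eq_zero.mp hxy).resolve_left hy
    obtain ⟨t', ht'⟩ := (IsLocalization.map_eq_zero_iff P'.primeCompl S' _).mp hx
    obtain ⟨t₀, ht₀⟩ := Ideal.Quotient.mk_surjective (t' : P₀ ⧸ J)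
    rw [← ht₀, ← map_mul, Ideal.Quotient.eq_zero_iff_mem] at ht'
    refine ⟨t₀, ?_, ht'⟩
    intro h0
    apply t'.2
    show (t' : P₀ ⧸ J) ∈ P'
    rw [← ht₀, hP'mem]
    exact h0
  -- conclusion
  have hk : RingHom.ker (algebraMap A k) = (maximalIdeal Λ).comap (algebraMap A Λ) := by
    ext x
    rw [RingHom.mem_ker, Ideal.mem_comap, IsScalarTower.algebraMap_apply A Λ k,
      ← IsLocalRing.ker_residue, RingHom.mem_ker]
    rfl
  haveI : Algebra.IsSmoothAt R (((maximalIdeal Λ).comap (algebraMap A Λ)).comap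
      (algebraMap P₀ A)) := hsmP₀ _
  rw [GlobalJacS.isSmoothAt_iff_of_surjective R hsurj hIfg _ k hk]
  exact JacCore.injective_of_rep R k g hg hlik hrep

end Aux

/-- **Smoothness at the closed point of a section.** Let `R` be a regular ring, `Λ` a local domain,
`A` an `R`-algebra of finite type with a ring map `A → Λ` such that `A` is smooth over `R` at the
kernel and `Λ ⊗ Ω[A/R]` is projective. Then `A` is smooth over `R` at the preimage of the maximal
ideal of `Λ`. -/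
theorem isSmoothAt_comap_maximalIdeal (R Λ A : Type u) [CommRing R] [IsRegularRing R]
    [CommRing Λ] [IsDomain Λ] [IsLocalRing Λ]
    [CommRing A] [Algebra R A] [Algebra.FiniteType R A] [Algebra A Λ]
    [(RingHom.ker (algebraMap A Λ)).IsPrime]
    (hq : Algebra.IsSmoothAt R (RingHom.ker (algebraMap A Λ)))
    (hfree : Module.Projective Λ (Λ ⊗[A] Ω[A⁄R])) :
    Algebra.IsSmoothAt R ((maximalIdeal Λ).comap (algebraMap A Λ)) := by
  obtain ⟨n, ψ, hψ⟩ := Algebra.FiniteType.iff_quotient_mvPolynomial''.1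
    (inferInstance : Algebra.FiniteType R A)
  letI algPA : Algebra (MvPolynomial (Fin n) R) A := ψ.toRingHom.toAlgebra
  haveI twRPA : IsScalarTower R (MvPolynomial (Fin n) R) A :=
    IsScalarTower.of_algebraMap_eq fun r => (ψ.commutes r).symm
  letI algPΛ : Algebra (MvPolynomial (Fin n) R) Λ :=
    ((algebraMap A Λ).comp ψ.toRingHom).toAlgebra
  haveI twPAΛ : IsScalarTower (MvPolynomial (Fin n) R) A Λ :=
    IsScalarTower.of_algebraMap_eq fun r => rfl
  exact isSmoothAt_comap_maximalIdeal_aux R Λ A (MvPolynomial (Fin n) R) hψ hq hfree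

end Groth.Agent.H94.DVRSection
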