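import Mathlib.RingTheory.WittVector.Truncated
import Mathlib.RingTheory.Ideal.Quotient.Basic
import Mathlib.RingTheory.Ideal.Maps
import Mathlib.Algebra.BigOperators.Fin

set_option autoImplicit false
universe u

namespace Groth.Agent.H94

open Finset

/-- Explicit formula for the ghost components. -/
theorem ghostComponent_eq_sum (p : ℕ) [Fact p.Prime] {B : Type u} [CommRing B] (n : ℕ)
    (x : WittVector p B) :
    WittVector.ghostComponent n x =
      ∑ i ∈ range (n + 1), (p : B) ^ i * (x.coeff i) ^ (p ^ (n - i)) := by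
  rw [WittVector.ghostComponent_apply, wittPolynomial_eq_sum_C_mul_X_pow, map_sum]
  refine Finset.sum_congr rfl fun i _ => ?_
  simp [MvPolynomial.aeval_X]

/-- When `p ^ n = 0`, the `n`-th ghost component only involves the first `n` coefficients. -/
theorem ghostComponent_eq_sum_fin (p : ℕ) [Fact p.Prime] {B : Type u} [CommRing B] (n : ℕ)
    (hp : (p : B) ^ n = 0) (x : WittVector p B) :
    WittVector.ghostComponent n x =
      ∑ i : Fin n, (p : B) ^ (i : ℕ) * (x.coeff i) ^ (p ^ (n - i)) := by
  rw [ghostComponent_eq_sum, Finset.sum_range_succ, hp, zero_mul, add_zero,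
    Finset.sum_range (fun i => (p : B) ^ i * (x.coeff i) ^ (p ^ (n - i)))]

/-- The reduction map `W(B) → W_n(B/I)`. -/
noncomputable def redTrunc (p : ℕ) [Fact p.Prime] {B : Type u} [CommRing B] (n : ℕ) (I : Ideal B) :
    WittVector p B →+* TruncatedWittVector p n (B ⧸ I) :=
  (WittVector.truncate n).comp (WittVector.map (Ideal.Quotient.mk I))

theorem redTrunc_surjective (p : ℕ) [Fact p.Prime] {B : Type u} [CommRing B] (n : ℕ) (I : Ideal B) :
    Function.Surjective (redTrunc p n I) :=
  (WittVector.truncate_surjective p n (B ⧸ I)).comp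
    (WittVector.map_surjective _ Ideal.Quotient.mk_surjective)

theorem redTrunc_apply (p : ℕ) [Fact p.Prime] {B : Type u} [CommRing B] (n : ℕ) (I : Ideal B)
    (x : WittVector p B) :
    redTrunc p n I x = WittVector.truncate n (WittVector.map (Ideal.Quotient.mk I) x) := rfl

theorem redTrunc_coeff (p : ℕ) [Fact p.Prime] {B : Type u} [CommRing B] (n : ℕ) (I : Ideal B)
    (x : WittVector p B) (i : Fin n) :
    (redTrunc p n I x).coeff i = Ideal.Quotient.mk I (x.coeff i) := by
  rw [redTrunc_apply, WittVector.coeff_truncate, WittVector.map_coeff]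

theorem mem_ker_redTrunc (p : ℕ) [Fact p.Prime] {B : Type u} [CommRing B] (n : ℕ) (I : Ideal B)
    (x : WittVector p B) :
    x ∈ RingHom.ker (redTrunc p n I) ↔ ∀ i : Fin n, x.coeff i ∈ I := by
  rw [RingHom.mem_ker]
  constructor
  · intro h i
    have := congrArg (fun y => TruncatedWittVector.coeff i y) h
    simp only [redTrunc_coeff, TruncatedWittVector.coeff_zero] at this
    exact Ideal.Quotient.eq_zero_iff_mem.mp this
  · intro h
    apply TruncatedWittVector.ext
    intro i
    rw [redTrunc_coeff, TruncatedWittVector.coeff_zero]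
    exact Ideal.Quotient.eq_zero_iff_mem.mpr (h i)

end Groth.Agent.H94
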