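import Mathlib

/-!
# Helper lemmas for S18961 (part A): abstract "identity modulo 𝔪²" argument
-/

namespace Groth.Agent.H94.BBDec

open Ideal

/-- If `χ : R → R/𝔪ⁿ` is a ring hom which agrees with the quotient map modulo `𝔪²`, then
`χ h - h̄ ∈ 𝔪̄^(k+1)` whenever `h ∈ 𝔪^k`. -/
theorem sub_mem_map_pow_succ {R : Type*} [CommRing R] (𝔪 : Ideal R) (n : ℕ)
    (χ : R →+* R ⧸ 𝔪 ^ n)
    (hχ : ∀ h, χ h - Ideal.Quotient.mk (𝔪 ^ n) h ∈ (𝔪 ^ 2).map (Ideal.Quotient.mk (𝔪 ^ n)))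
    (k : ℕ) (h : R) (hh : h ∈ 𝔪 ^ k) :
    χ h - Ideal.Quotient.mk (𝔪 ^ n) h ∈ (𝔪 ^ (k + 1)).map (Ideal.Quotient.mk (𝔪 ^ n)) := by
  set q := Ideal.Quotient.mk (𝔪 ^ n)
  have hmap : ∀ j, (𝔪 ^ j).map q = (𝔪.map q) ^ j := fun j => Ideal.map_pow _ _ _
  induction k generalizing h with
  | zero =>
    have := hχ h
    refine Ideal.map_mono ?_ this
    simpa using Ideal.pow_le_pow_right (I := 𝔪) (show 1 ≤ 2 by norm_num)
  | succ k ih =>
    rw [pow_succ] at hh
    refine Submodule.mul_induction_on hh ?_ ?_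
    · intro u hu v hv
      have hv' : v ∈ 𝔪 ^ 1 := by simpa using hv
      have e : χ (u * v) - q (u * v) = (χ u - q u) * χ v + q u * (χ v - q v) := by
        rw [map_mul, map_mul]; ring
      rw [e]
      have hχv : χ v ∈ 𝔪.map q := by
        have h1 : χ v - q v ∈ 𝔪.map q := by
          have := hχ v
          rw [hmap] at this
          exact Ideal.pow_le_self (by norm_num) this
        have h2 : q v ∈ 𝔪.map q := Ideal.mem_map_of_mem _ hv
        have := add_mem h1 h2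
        simpa using this
      refine add_mem ?_ ?_
      · have h1 := ih u hu
        rw [hmap] at h1 ⊢
        rw [pow_succ (𝔪.map q) (k + 1)]
        exact Ideal.mul_mem_mul h1 hχv
      · have h1 : q u ∈ (𝔪.map q) ^ k := by
          rw [← hmap]; exact Ideal.mem_map_of_mem _ hu
        have h2 := hχ v
        rw [hmap] at h2 ⊢
        have : k + 1 + 1 = k + 2 := rfl
        rw [this, pow_add]
        exact Ideal.mul_mem_mul h1 h2
    · intro x y hx hy
      have e : χ (x + y) - q (x + y) = (χ x - q x) + (χ y - q y) := by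
        rw [map_add, map_add]; ring
      rw [e]
      exact add_mem hx hy

/-- If `χ : R → R/𝔪ⁿ` is a ring hom which agrees with the quotient map modulo `𝔪²`, then
`ker χ ≤ 𝔪ⁿ`. -/
theorem ker_le_pow_of_sub_mem {R : Type*} [CommRing R] (𝔪 : Ideal R) (n : ℕ)
    (χ : R →+* R ⧸ 𝔪 ^ n)
    (hχ : ∀ h, χ h - Ideal.Quotient.mk (𝔪 ^ n) h ∈ (𝔪 ^ 2).map (Ideal.Quotient.mk (𝔪 ^ n))) :
    RingHom.ker χ ≤ 𝔪 ^ n := by
  intro h hh
  rw [RingHom.mem_ker] at hh
  have key : ∀ k, k ≤ n → h ∈ 𝔪 ^ k := by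
    intro k
    induction k with
    | zero => intro _; simp
    | succ k ih =>
      intro hk
      have h1 := sub_mem_map_pow_succ 𝔪 n χ hχ k h (ih (by omega))
      rw [hh, zero_sub, neg_mem_iff] at h1
      have h2 : h ∈ ((𝔪 ^ (k + 1)).map (Ideal.Quotient.mk (𝔪 ^ n))).comap
          (Ideal.Quotient.mk (𝔪 ^ n)) := h1
      rw [Ideal.comap_map_of_surjective _ Ideal.Quotient.mk_surjective] at h2
      have h3 : (⊥ : Ideal (R ⧸ 𝔪 ^ n)).comap (Ideal.Quotient.mk (𝔪 ^ n)) = 𝔪 ^ n := by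
        rw [← RingHom.ker_eq_comap_bot, Ideal.mk_ker]
      rw [h3] at h2
      have h4 : 𝔪 ^ (k + 1) ⊔ 𝔪 ^ n = 𝔪 ^ (k + 1) :=
        sup_eq_left.mpr (Ideal.pow_le_pow_right hk)
      rwa [h4] at h2
  exact key n le_rfl

/-- The intersection of the powers of the ideal of variables is zero. -/
theorem eq_zero_of_forall_mem_pow_idealOfVars {σ R : Type*} [CommRing R] (p : MvPolynomial σ R)
    (hp : ∀ n, p ∈ MvPolynomial.idealOfVars σ R ^ n) : p = 0 := by
  ext x
  have := (MvPolynomial.mem_pow_idealOfVars_iff' (x.degree + 1) p).mp (hp _) x (Nat.lt_succ_self _)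
  simpa using this

end Groth.Agent.H94.BBDec
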