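import Mathlib

/-!
# Helper lemmas for S18961 (part B): graded sections
-/

namespace Groth.Agent.H94.BBDec

/-- Abstract graded-section lemma: given a surjection `π : V → N` onto a finite free module, and a
family of orthogonal idempotents `P d` on `V` summing to the identity and preserving `ker π`,
there are lifts `b i` of the basis whose span is stable under all `P d`. -/
theorem exists_lifts_span_stable {A V N ι : Type*} [CommRing A] [AddCommGroup V] [Module A V]
    [AddCommGroup N] [Module A N] [Fintype ι] (e : Module.Basis ι A N)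
    (π : V →ₗ[A] N) (hπ : Function.Surjective π)
    (P : ℕ → V →ₗ[A] V)
    (hPP : ∀ d d' v, P d (P d' v) = if d = d' then P d v else 0)
    (hfin : ∀ v, ∃ D, (∀ d, D ≤ d → P d v = 0) ∧ ∑ d ∈ Finset.range D, P d v = v)
    (hker : ∀ d v, π v = 0 → π (P d v) = 0) :
    ∃ b : ι → V, (∀ i, π (b i) = e i) ∧ ∀ i d, P d (b i) ∈ Submodule.span A (Set.range b) := by
  classical
  choose c hc using fun i => hπ (e i)
  let s₀ : N →ₗ[A] V := e.constr A c
  have hs₀e : ∀ i, s₀ (e i) = c i := fun i => by simp [s₀]
  have hs₀ : ∀ n, π (s₀ n) = n := by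
    intro n
    have : π.comp s₀ = LinearMap.id := e.ext (fun i => by simp [hs₀e, hc])
    exact LinearMap.congr_fun this n
  let p : ℕ → N →ₗ[A] N := fun d => π.comp ((P d).comp s₀)
  have hp : ∀ d n, p d n = π (P d (s₀ n)) := fun d n => rfl
  have hpπ : ∀ d v, p d (π v) = π (P d v) := by
    intro d v
    have h1 : π (s₀ (π v) - v) = 0 := by rw [map_sub, hs₀, sub_self]
    have h2 := hker d _ h1
    rw [map_sub, map_sub, sub_eq_zero] at h2
    exact h2
  choose D hD1 hD2 using fun i => hfin (c i)
  let D₀ := Finset.univ.sup D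
  have hDle : ∀ i, D i ≤ D₀ := fun i => Finset.le_sup (Finset.mem_univ i)
  have hPsum : ∀ n, ∑ d ∈ Finset.range D₀, P d (s₀ n) = s₀ n := by
    intro n
    have : (∑ d ∈ Finset.range D₀, (P d).comp s₀) = s₀ := e.ext (fun i => by
      simp only [LinearMap.sum_apply, LinearMap.comp_apply, hs₀e]
      rw [← Finset.sum_subset (Finset.range_subset_range.mpr (hDle i))
        (fun d _ hd => hD1 i d (by simpa using hd))]
      exact hD2 i)
    have h2 := LinearMap.congr_fun this n
    simpa only [LinearMap.sum_apply, LinearMap.comp_apply] using h2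
  let s : N →ₗ[A] V := ∑ d ∈ Finset.range D₀, (P d).comp (s₀.comp (p d))
  have hs : ∀ n, s n = ∑ d ∈ Finset.range D₀, P d (s₀ (p d n)) := by
    intro n; simp only [s, LinearMap.sum_apply, LinearMap.comp_apply]
  have hpp : ∀ d d' n, p d (p d' n) = if d = d' then p d n else 0 := by
    intro d d' n
    rw [hp d' n, hpπ, hPP]
    split_ifs
    · rfl
    · simp
  have hpsum : ∀ n, ∑ d ∈ Finset.range D₀, p d n = n := by
    intro n
    simp only [hp]
    rw [← map_sum, hPsum, hs₀]
  have hπs : ∀ n, π (s n) = n := by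
    intro n
    rw [hs, map_sum]
    have : ∀ d, π (P d (s₀ (p d n))) = p d n := by
      intro d; rw [← hpπ, hs₀, hpp, if_pos rfl]
    simp only [this]; exact hpsum n
  have hPs : ∀ d n, P d (s n) = s (p d n) := by
    intro d n
    rw [hs, hs, map_sum]
    refine Finset.sum_congr rfl (fun d' _ => ?_)
    rw [hPP, hpp]
    by_cases h : d = d'
    · subst h; simp
    · rw [if_neg h, if_neg (Ne.symm h)]; simp
  refine ⟨fun i => s (e i), fun i => hπs _, fun i d => ?_⟩
  rw [hPs]
  have h1 : s (p d (e i)) ∈ Submodule.map s ⊤ := ⟨_, trivial, rfl⟩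
  rw [← e.span_eq, Submodule.map_span, ← Set.range_comp] at h1
  exact h1

end Groth.Agent.H94.BBDec
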