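import Mathlib
import Groth.Agent.H94.BBDecB

/-!
# Helper lemmas for S18961 (part C): graded lifts of a basis of the conormal module of `B₊`
-/

namespace Groth.Agent.H94.BBDec

open DirectSum

variable {A B : Type*} [CommRing A] [CommRing B] [Algebra A B]
variable (𝒜 : ℕ → Submodule A B) [GradedAlgebra 𝒜]

/-- The irrelevant ideal, as an ideal. -/
abbrev irr : Ideal B := (HomogeneousIdeal.irrelevant 𝒜).toIdeal

theorem proj_mem_irr (d : ℕ) {x : B} (hx : x ∈ irr 𝒜) : GradedAlgebra.proj 𝒜 d x ∈ irr 𝒜 :=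
  (HomogeneousIdeal.irrelevant 𝒜).isHomogeneous d hx

theorem irr_sq_isHomogeneous : (irr 𝒜 ^ 2).IsHomogeneous 𝒜 := by
  rw [pow_two]
  exact (HomogeneousIdeal.irrelevant 𝒜).isHomogeneous.mul (HomogeneousIdeal.irrelevant 𝒜).isHomogeneous

theorem proj_mem_irr_sq (d : ℕ) {x : B} (hx : x ∈ irr 𝒜 ^ 2) :
    GradedAlgebra.proj 𝒜 d x ∈ irr 𝒜 ^ 2 :=
  irr_sq_isHomogeneous 𝒜 d hx

/-- The projection to degree `d`, restricted to the irrelevant ideal. -/
noncomputable def projI (d : ℕ) : irr 𝒜 →ₗ[A] irr 𝒜 where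
  toFun x := ⟨GradedAlgebra.proj 𝒜 d x, proj_mem_irr 𝒜 d x.2⟩
  map_add' x y := Subtype.ext (by
    show GradedAlgebra.proj 𝒜 d ((x + y : irr 𝒜) : B) =
      GradedAlgebra.proj 𝒜 d x + GradedAlgebra.proj 𝒜 d y
    rw [Submodule.coe_add, map_add])
  map_smul' a x := Subtype.ext (by
    show GradedAlgebra.proj 𝒜 d ((a • x : irr 𝒜) : B) = a • GradedAlgebra.proj 𝒜 d x
    rw [Submodule.coe_smul_of_tower, map_smul])

theorem coe_projI (d : ℕ) (x : irr 𝒜) :
    ((projI 𝒜 d x : irr 𝒜) : B) = GradedAlgebra.proj 𝒜 d x := rfl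

theorem proj_proj (d d' : ℕ) (x : B) :
    GradedAlgebra.proj 𝒜 d (GradedAlgebra.proj 𝒜 d' x) =
      if d = d' then GradedAlgebra.proj 𝒜 d x else 0 := by
  have hmem : GradedAlgebra.proj 𝒜 d' x ∈ 𝒜 d' := by
    rw [GradedAlgebra.proj_apply]; exact SetLike.coe_mem _
  split_ifs with h
  · subst h
    rw [GradedAlgebra.proj_apply, DirectSum.decompose_of_mem_same _ hmem]
  · rw [GradedAlgebra.proj_apply, DirectSum.decompose_of_mem_ne _ hmem (Ne.symm h)]

theorem exists_bound_proj (x : B) :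
    ∃ D, (∀ d, D ≤ d → GradedAlgebra.proj 𝒜 d x = 0) ∧
      ∑ d ∈ Finset.range D, GradedAlgebra.proj 𝒜 d x = x := by
  classical
  refine ⟨(DirectSum.decompose 𝒜 x).support.sup id + 1, ?_, ?_⟩
  · intro d hd
    rw [GradedAlgebra.proj_apply]
    by_contra hne
    have : d ∈ (DirectSum.decompose 𝒜 x).support := by
      rw [DFinsupp.mem_support_iff]
      intro h0; apply hne; rw [h0]; rfl
    have := Finset.le_sup (f := id) this
    simp only [id] at this
    omega
  · conv_rhs => rw [← DirectSum.sum_support_decompose 𝒜 x]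
    symm
    apply Finset.sum_subset
    · intro d hd
      have := Finset.le_sup (f := id) hd
      simp only [id] at this
      exact Finset.mem_range.mpr (by omega)
    · intro d _ hd
      rw [DFinsupp.notMem_support_iff] at hd
      rw [hd]; rfl

/-- Lifts of the basis of `B₊/B₊²` to `B₊` whose `A`-span is a graded submodule. -/
theorem exists_graded_lifts {ι : Type*} [Fintype ι]
    (e : Module.Basis ι A (irr 𝒜).Cotangent) :
    ∃ b : ι → irr 𝒜, (∀ i, (irr 𝒜).toCotangent (b i) = e i) ∧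
      ∀ i d, projI 𝒜 d (b i) ∈ Submodule.span A (Set.range b) := by
  refine exists_lifts_span_stable e ((irr 𝒜).toCotangent.restrictScalars A)
    (irr 𝒜).toCotangent_surjective (projI 𝒜) ?_ ?_ ?_
  · intro d d' v
    apply Subtype.ext
    rw [coe_projI, coe_projI, proj_proj]
    split_ifs
    · rw [coe_projI]
    · rfl
  · intro v
    obtain ⟨D, hD1, hD2⟩ := exists_bound_proj 𝒜 (v : B)
    refine ⟨D, fun d hd => Subtype.ext (by rw [coe_projI]; exact hD1 d hd), Subtype.ext ?_⟩
    rw [AddSubmonoidClass.coe_finsetSum]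
    simp only [coe_projI]
    exact hD2
  · intro d v hv
    rw [LinearMap.restrictScalars_apply, Ideal.toCotangent_eq_zero] at hv ⊢
    exact proj_mem_irr_sq 𝒜 d hv

end Groth.Agent.H94.BBDec
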