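import Mathlib
import Groth.Agent.H94.BBDecC

/-!
# Helper lemmas for S18961 (part D): graded lifts generate
-/

namespace Groth.Agent.H94.BBDec

open DirectSum

variable {A B : Type*} [CommRing A] [CommRing B] [Algebra A B]
variable (𝒜 : ℕ → Submodule A B) [GradedAlgebra 𝒜]

theorem proj_mul_eq_sum (d : ℕ) (u v : B) :
    GradedAlgebra.proj 𝒜 d (u * v) =
      ∑ ij ∈ Finset.HasAntidiagonal.antidiagonal d, GradedAlgebra.proj 𝒜 ij.1 u * GradedAlgebra.proj 𝒜 ij.2 v := by
  simp only [GradedAlgebra.proj_apply]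
  rw [DirectSum.decompose_mul, DirectSum.coe_mul_apply_eq_sum_antidiagonal]

theorem proj_zero_eq_zero_of_mem_irr {u : B} (hu : u ∈ irr 𝒜) : GradedAlgebra.proj 𝒜 0 u = 0 := by
  have := (HomogeneousIdeal.mem_irrelevant_iff 𝒜 u).mp hu
  simpa [GradedRing.proj_apply] using this

theorem proj_mem (d : ℕ) (x : B) : GradedAlgebra.proj 𝒜 d x ∈ 𝒜 d := by
  rw [GradedAlgebra.proj_apply]; exact SetLike.coe_mem _

theorem proj_of_mem {d : ℕ} {x : B} (hx : x ∈ 𝒜 d) : GradedAlgebra.proj 𝒜 d x = x := by
  rw [GradedAlgebra.proj_apply, DirectSum.decompose_of_mem_same _ hx]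

/-- Graded lifts of a generating family of `B₊/B₊²` generate `B` as an algebra. -/
theorem adjoin_eq_top (h0 : ∀ x ∈ 𝒜 0, x ∈ Set.range (algebraMap A B)) {ι : Type*} [Fintype ι]
    (e : Module.Basis ι A (irr 𝒜).Cotangent) (b : ι → irr 𝒜)
    (hb : ∀ i, (irr 𝒜).toCotangent (b i) = e i)
    (hst : ∀ i d, projI 𝒜 d (b i) ∈ Submodule.span A (Set.range b)) :
    Algebra.adjoin A (Set.range (fun i => (b i : B))) = ⊤ := by
  classical
  set S := Algebra.adjoin A (Set.range (fun i => (b i : B))) with hS
  -- Step 1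
  have h1 : ∀ y ∈ Submodule.span A (Set.range b), ((y : irr 𝒜) : B) ∈ S := by
    intro y hy
    induction hy using Submodule.span_induction with
    | mem y hy =>
      obtain ⟨i, rfl⟩ := hy
      exact Algebra.subset_adjoin ⟨i, rfl⟩
    | zero => simp
    | add y z _ _ hy hz =>
      rw [Submodule.coe_add]; exact add_mem hy hz
    | smul a y _ hy =>
      rw [Submodule.coe_smul_of_tower]; exact Subalgebra.smul_mem _ hy a
  -- Step 2
  have h2 : ∀ d, ∀ x ∈ 𝒜 d, x ∈ S := by
    intro d
    induction d using Nat.strong_induction_on with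
    | _ d ih =>
      intro x hx
      rcases Nat.eq_zero_or_pos d with rfl | hd
      · obtain ⟨a, rfl⟩ := h0 x hx
        exact Subalgebra.algebraMap_mem _ a
      · have hxI : x ∈ irr 𝒜 := HomogeneousIdeal.mem_irrelevant_of_mem 𝒜 hd hx
        -- lemma: proj_d of elements of irr² lie in S
        have hsq : ∀ y ∈ irr 𝒜 ^ 2, GradedAlgebra.proj 𝒜 d y ∈ S := by
          intro y hy
          rw [pow_two] at hy
          refine Submodule.mul_induction_on hy ?_ ?_
          · intro u hu v hv
            rw [proj_mul_eq_sum]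
            refine Subalgebra.sum_mem _ (fun ij hij => ?_)
            rw [Finset.HasAntidiagonal.mem_antidiagonal] at hij
            rcases Nat.eq_zero_or_pos ij.1 with h1' | h1'
            · rw [h1', proj_zero_eq_zero_of_mem_irr 𝒜 hu, zero_mul]; exact zero_mem _
            rcases Nat.eq_zero_or_pos ij.2 with h2' | h2'
            · rw [h2', proj_zero_eq_zero_of_mem_irr 𝒜 hv, mul_zero]; exact zero_mem _
            exact mul_mem (ih ij.1 (by omega) _ (proj_mem 𝒜 _ _))
              (ih ij.2 (by omega) _ (proj_mem 𝒜 _ _))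
          · intro y z hy hz
            rw [map_add]; exact add_mem hy hz
        set X : irr 𝒜 := ⟨x, hxI⟩ with hX
        set α := e.repr ((irr 𝒜).toCotangent X) with hα
        set Z : irr 𝒜 := ∑ i, α i • b i with hZ
        have hZπ : (irr 𝒜).toCotangent Z = (irr 𝒜).toCotangent X := by
          have : ((irr 𝒜).toCotangent.restrictScalars A) Z = ∑ i, α i • e i := by
            rw [hZ, map_sum]
            refine Finset.sum_congr rfl (fun i _ => ?_)
            rw [map_smul, LinearMap.restrictScalars_apply, hb]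
          rw [LinearMap.restrictScalars_apply] at this
          rw [this, hα, e.sum_repr]
        have hY : ((X - Z : irr 𝒜) : B) ∈ irr 𝒜 ^ 2 := by
          rw [← Ideal.toCotangent_eq_zero, map_sub, hZπ, sub_self]
        have hZS : ((projI 𝒜 d Z : irr 𝒜) : B) ∈ S := by
          apply h1
          rw [hZ, map_sum]
          refine Submodule.sum_mem _ (fun i _ => ?_)
          rw [map_smul]
          exact Submodule.smul_mem _ _ (hst i d)
        have hx' : x = ((projI 𝒜 d Z : irr 𝒜) : B) + GradedAlgebra.proj 𝒜 d ((X - Z : irr 𝒜) : B) := by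
          rw [coe_projI, ← map_add, Submodule.coe_sub, add_sub_cancel, hX]
          exact (proj_of_mem 𝒜 hx).symm
        rw [hx']
        exact add_mem hZS (hsq _ hY)
  -- Step 3
  rw [eq_top_iff]
  intro x _
  rw [← DirectSum.sum_support_decompose 𝒜 x]
  exact Subalgebra.sum_mem _ (fun d _ => h2 d _ (SetLike.coe_mem _))

end Groth.Agent.H94.BBDec
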