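import Mathlib
import Groth.Agent.H94.BBDecD

/-!
# Helper lemmas for S18961 (part E): the kernel of the presentation lies in `𝔪²`
-/

namespace Groth.Agent.H94.BBDec

open DirectSum MvPolynomial

variable {A B : Type*} [CommRing A] [CommRing B] [Algebra A B]
variable (𝒜 : ℕ → Submodule A B) [GradedAlgebra 𝒜]

theorem sub_C_constantCoeff_mem {ι : Type*} (f : MvPolynomial ι A) :
    f - C (constantCoeff f) ∈ idealOfVars ι A := by
  have : f - C (constantCoeff f) ∈ idealOfVars ι A ^ 1 := by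
    rw [mem_pow_idealOfVars_iff']
    intro x hx
    have hx0 : x = 0 := by
      rw [← Finsupp.degree_eq_zero_iff]; omega
    subst hx0
    simp [constantCoeff_eq]
  simpa using this

theorem aeval_mem_irr {ι : Type*} (b : ι → irr 𝒜) {g : MvPolynomial ι A}
    (hg : g ∈ idealOfVars ι A) : aeval (fun i => (b i : B)) g ∈ irr 𝒜 := by
  have : idealOfVars ι A ≤ (irr 𝒜).comap (aeval (fun i => (b i : B)) : MvPolynomial ι A →ₐ[A] B) := by
    rw [idealOfVars, Ideal.span_le]
    rintro _ ⟨i, rfl⟩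
    simp only [SetLike.mem_coe, Ideal.mem_comap, aeval_X]
    exact (b i).2
  exact this hg

theorem aeval_mem_irr_sq {ι : Type*} (b : ι → irr 𝒜) {g : MvPolynomial ι A}
    (hg : g ∈ idealOfVars ι A ^ 2) : aeval (fun i => (b i : B)) g ∈ irr 𝒜 ^ 2 := by
  have : idealOfVars ι A ^ 2 ≤
      (irr 𝒜 ^ 2).comap (aeval (fun i => (b i : B)) : MvPolynomial ι A →ₐ[A] B) := by
    rw [← Ideal.map_le_iff_le_comap, Ideal.map_pow]
    refine Ideal.pow_right_mono ?_ 2
    rw [Ideal.map_le_iff_le_comap]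
    intro g hg
    exact aeval_mem_irr 𝒜 b hg
  exact this hg

theorem constantCoeff_eq_zero_of_aeval_mem_irr (hinj : Function.Injective (algebraMap A B))
    {ι : Type*} (b : ι → irr 𝒜) (f : MvPolynomial ι A)
    (hf : aeval (fun i => (b i : B)) f ∈ irr 𝒜) : constantCoeff f = 0 := by
  apply hinj
  rw [map_zero]
  have h1 : aeval (fun i => (b i : B)) (f - C (constantCoeff f)) ∈ irr 𝒜 :=
    aeval_mem_irr 𝒜 b (sub_C_constantCoeff_mem f)
  rw [map_sub, aeval_C] at h1
  have h2 : algebraMap A B (constantCoeff f) ∈ irr 𝒜 := by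
    have := sub_mem hf h1
    simpa using this
  have h3 := proj_zero_eq_zero_of_mem_irr 𝒜 h2
  rwa [proj_of_mem 𝒜 (SetLike.algebraMap_mem_graded 𝒜 _)] at h3

theorem exists_linear_part {ι : Type*} [Fintype ι] (f : MvPolynomial ι A)
    (hf : f ∈ idealOfVars ι A) :
    ∃ a : ι → A, f - ∑ i, C (a i) * X i ∈ idealOfVars ι A ^ 2 := by
  rw [idealOfVars, Ideal.mem_span_range_iff_exists_fun] at hf
  obtain ⟨c, rfl⟩ := hf
  refine ⟨fun i => constantCoeff (c i), ?_⟩
  rw [← Finset.sum_sub_distrib, pow_two]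
  refine Ideal.sum_mem _ (fun i _ => ?_)
  rw [← sub_mul]
  exact Ideal.mul_mem_mul (sub_C_constantCoeff_mem _) (Ideal.subset_span ⟨i, rfl⟩)

/-- The kernel of the presentation `A[x] → B`, `x i ↦ b i`, lies in `𝔪²` if the `b i` lift a basis
of `B₊/B₊²`. -/
theorem ker_aeval_le_sq (hinj : Function.Injective (algebraMap A B)) {ι : Type*} [Fintype ι]
    (e : Module.Basis ι A (irr 𝒜).Cotangent) (b : ι → irr 𝒜)
    (hb : ∀ i, (irr 𝒜).toCotangent (b i) = e i) :
    RingHom.ker (aeval (fun i => (b i : B)) : MvPolynomial ι A →ₐ[A] B) ≤ idealOfVars ι A ^ 2 := by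
  intro f hf
  rw [RingHom.mem_ker] at hf
  have hc : constantCoeff f = 0 :=
    constantCoeff_eq_zero_of_aeval_mem_irr 𝒜 hinj b f (by rw [hf]; exact zero_mem _)
  have hfm : f ∈ idealOfVars ι A := by
    have := sub_C_constantCoeff_mem f
    rwa [hc, map_zero, sub_zero] at this
  obtain ⟨a, ha⟩ := exists_linear_part f hfm
  have h1 := aeval_mem_irr_sq 𝒜 b ha
  rw [map_sub, hf, zero_sub, neg_mem_iff, map_sum] at h1
  have h2 : ((∑ i, a i • b i : irr 𝒜) : B) ∈ irr 𝒜 ^ 2 := by
    convert h1 using 1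
    rw [AddSubmonoidClass.coe_finsetSum]
    refine Finset.sum_congr rfl (fun i _ => ?_)
    rw [map_mul, aeval_C, aeval_X, Submodule.coe_smul_of_tower, Algebra.smul_def]
  rw [← Ideal.toCotangent_eq_zero] at h2
  have h3 : ∑ i, a i • e i = 0 := by
    have : ((irr 𝒜).toCotangent.restrictScalars A) (∑ i, a i • b i) = ∑ i, a i • e i := by
      rw [map_sum]
      refine Finset.sum_congr rfl (fun i _ => ?_)
      rw [map_smul, LinearMap.restrictScalars_apply, hb]
    rw [← this, LinearMap.restrictScalars_apply, h2]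
  have h4 : ∀ i, a i = 0 := by
    have := Fintype.linearIndependent_iff.mp e.linearIndependent a h3
    exact this
  simpa [h4] using ha

end Groth.Agent.H94.BBDec
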