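import Mathlib
import Groth.Agent.H94.BBDecA

/-!
# Helper lemmas for S18961 (part F): formally smooth lifting argument
-/

namespace Groth.Agent.H94.BBDec

open Ideal

/-- Let `φ : P → B` be a surjection of `A`-algebras with `ker φ ≤ 𝔪²`, and `f ∈ B` such that
`B_f` is formally smooth over `A` and `1 - f = φ h` with `h ∈ 𝔪`. Then `ker φ ≤ 𝔪ⁿ` for all `n`. -/
theorem ker_le_pow_of_formallySmooth_away {A P B : Type*} [CommRing A] [CommRing P] [CommRing B]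
    [Algebra A P] [Algebra A B] (𝔪 : Ideal P) (φ : P →ₐ[A] B) (hφ : Function.Surjective φ)
    (hK : RingHom.ker φ ≤ 𝔪 ^ 2) (f : B) [Algebra.FormallySmooth A (Localization.Away f)]
    (h : P) (hh : h ∈ 𝔪) (hf : φ h = 1 - f) (n : ℕ) :
    RingHom.ker φ ≤ 𝔪 ^ n := by
  rcases Nat.lt_or_ge n 2 with hn | hn
  · exact hK.trans (Ideal.pow_le_pow_right hn.le)
  -- θ : B → P/𝔪²
  let θ : B →ₐ[A] P ⧸ 𝔪 ^ 2 :=
    (Ideal.Quotient.factorₐ A hK).comp (Ideal.quotientKerAlgEquivOfSurjective hφ).symm.toAlgHom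
  have hθ : ∀ x, θ (φ x) = Ideal.Quotient.mk (𝔪 ^ 2) x := by
    intro x
    have : (Ideal.quotientKerAlgEquivOfSurjective hφ).symm (φ x) =
        Ideal.Quotient.mk (RingHom.ker φ) x := by
      rw [AlgEquiv.symm_apply_eq]
      rfl
    simp only [θ, AlgHom.comp_apply, AlgEquiv.coe_toAlgHom] at this ⊢
    rw [this]
    rfl
  -- θ f is a unit
  have hθf : IsUnit (θ f) := by
    have e1 : θ f = 1 - Ideal.Quotient.mk (𝔪 ^ 2) h := by
      have : f = φ (1 - h) := by rw [map_sub, map_one, hf]; ring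
      rw [this, hθ, map_sub, map_one]
    rw [e1]
    apply IsNilpotent.isUnit_one_sub
    refine ⟨2, ?_⟩
    rw [← map_pow, Ideal.Quotient.eq_zero_iff_mem]
    exact Ideal.pow_mem_pow hh 2
  have hθM : ∀ y : Submonoid.powers f, IsUnit (θ y) := by
    rintro ⟨_, k, rfl⟩
    simp only [map_pow]
    exact hθf.pow k
  let θ' : Localization.Away f →ₐ[A] P ⧸ 𝔪 ^ 2 := IsLocalization.liftAlgHom hθM
  have hθ' : ∀ x : B, θ' (algebraMap B (Localization.Away f) x) = θ x := by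
    intro x
    simp only [θ', IsLocalization.liftAlgHom_apply, IsLocalization.lift_eq]
    rfl
  -- the surjection g : P/𝔪ⁿ → P/𝔪²
  have hle : 𝔪 ^ n ≤ 𝔪 ^ 2 := Ideal.pow_le_pow_right hn
  let g : (P ⧸ 𝔪 ^ n) →ₐ[A] P ⧸ 𝔪 ^ 2 := Ideal.Quotient.factorₐ A hle
  have hg : Function.Surjective g := Ideal.Quotient.factor_surjective hle
  have hgker : RingHom.ker (g : (P ⧸ 𝔪 ^ n) →+* P ⧸ 𝔪 ^ 2) =
      (𝔪 ^ 2).map (Ideal.Quotient.mk (𝔪 ^ n)) := Ideal.Quotient.factor_ker hle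
  have hg' : IsNilpotent (RingHom.ker (g : (P ⧸ 𝔪 ^ n) →+* P ⧸ 𝔪 ^ 2)) := by
    refine ⟨n, ?_⟩
    rw [hgker, ← Ideal.map_pow, ← pow_mul, Ideal.zero_eq_bot, Ideal.map_eq_bot_iff_le_ker,
      Ideal.mk_ker]
    exact Ideal.pow_le_pow_right (by nlinarith)
  let L : Localization.Away f →ₐ[A] P ⧸ 𝔪 ^ n :=
    Algebra.FormallySmooth.liftOfSurjective θ' g hg hg'
  have hL : ∀ x, g (L x) = θ' x := Algebra.FormallySmooth.liftOfSurjective_apply θ' g hg hg'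
  let χ : P →ₐ[A] P ⧸ 𝔪 ^ n :=
    L.comp ((IsScalarTower.toAlgHom A B (Localization.Away f)).comp φ)
  have hχ : ∀ x, χ x - Ideal.Quotient.mk (𝔪 ^ n) x ∈ (𝔪 ^ 2).map (Ideal.Quotient.mk (𝔪 ^ n)) := by
    intro x
    rw [← hgker, RingHom.mem_ker, map_sub]
    have e1 : (g : (P ⧸ 𝔪 ^ n) →+* P ⧸ 𝔪 ^ 2) (χ x) = Ideal.Quotient.mk (𝔪 ^ 2) x := by
      show g (L (algebraMap B (Localization.Away f) (φ x))) = _
      rw [hL, hθ', hθ]
    have e2 : (g : (P ⧸ 𝔪 ^ n) →+* P ⧸ 𝔪 ^ 2) (Ideal.Quotient.mk (𝔪 ^ n) x) =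
        Ideal.Quotient.mk (𝔪 ^ 2) x := rfl
    rw [e1, e2, sub_self]
  have hker : RingHom.ker φ ≤ RingHom.ker (χ : P →+* P ⧸ 𝔪 ^ n) := by
    intro x hx
    rw [RingHom.mem_ker] at hx ⊢
    show L (algebraMap B (Localization.Away f) (φ x)) = 0
    rw [hx, map_zero, map_zero]
  exact hker.trans (ker_le_pow_of_sub_mem 𝔪 n (χ : P →+* P ⧸ 𝔪 ^ n) hχ)

end Groth.Agent.H94.BBDec
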