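import Mathlib.RingTheory.Flat.Basic
import Mathlib.LinearAlgebra.Quotient.Basic
import Mathlib.LinearAlgebra.TensorProduct.RightExactness
import Mathlib.LinearAlgebra.Basis.VectorSpace

set_option autoImplicit false
universe u v w w'

namespace Groth.Agent.H94

open TensorProduct

section

variable {k : Type u} [Field k] {C : Type v} [AddCommGroup C] [Module k C]
  {V : Type w} [AddCommGroup V] [Module k V] {V' : Type w'} [AddCommGroup V'] [Module k V']

/-- Over a field, the kernel of `f ⊗ id` is the image of `ker f ⊗ C`. -/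
theorem mem_range_rTensor_ker (f : V →ₗ[k] V') (x : V ⊗[k] C) (hx : f.rTensor C x = 0) :
    x ∈ LinearMap.range ((LinearMap.ker f).subtype.rTensor C) := by
  have hex : Function.Exact (LinearMap.ker f).subtype f := by
    intro v
    constructor
    · intro hv
      exact ⟨⟨v, hv⟩, rfl⟩
    · rintro ⟨⟨v', hv'⟩, rfl⟩
      exact hv'
  have := Module.Flat.rTensor_exact C hex
  exact (this x).mp hx

/-- The preimage of a subcomodule under a comodule map is a subcomodule. -/
theorem subcomod_comap (ρ : V →ₗ[k] V ⊗[k] C) (ρ' : V' →ₗ[k] V' ⊗[k] C) (f : V →ₗ[k] V')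
    (hf : ρ' ∘ₗ f = f.rTensor C ∘ₗ ρ) (T' : Submodule k V')
    (hT' : ∀ t ∈ T', ρ' t ∈ LinearMap.range (T'.subtype.rTensor C)) :
    ∀ v ∈ T'.comap f, ρ v ∈ LinearMap.range ((T'.comap f).subtype.rTensor C) := by
  intro v hv
  set g : V →ₗ[k] V' ⧸ T' := T'.mkQ ∘ₗ f with hg
  have hker : LinearMap.ker g = T'.comap f := by
    ext y
    simp [hg, LinearMap.mem_ker, Submodule.Quotient.mk_eq_zero]
  have h0 : g.rTensor C (ρ v) = 0 := by
    rw [hg, LinearMap.rTensor_comp, LinearMap.comp_apply]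
    have h1 : f.rTensor C (ρ v) = ρ' (f v) := (LinearMap.congr_fun hf v).symm
    rw [h1]
    obtain ⟨y, hy⟩ := hT' (f v) hv
    rw [← hy, ← LinearMap.comp_apply, ← LinearMap.rTensor_comp]
    have : T'.mkQ ∘ₗ T'.subtype = 0 := by
      ext t
      simp
    rw [this, LinearMap.rTensor_zero, LinearMap.zero_apply]
  have h2 := mem_range_rTensor_ker g (ρ v) h0
  rw [hker] at h2
  exact h2

/-- The image of a subcomodule under a comodule map is a subcomodule. -/
theorem subcomod_map (ρ : V →ₗ[k] V ⊗[k] C) (ρ' : V' →ₗ[k] V' ⊗[k] C) (f : V →ₗ[k] V')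
    (hf : ρ' ∘ₗ f = f.rTensor C ∘ₗ ρ) (U : Submodule k V)
    (hU : ∀ u ∈ U, ρ u ∈ LinearMap.range (U.subtype.rTensor C)) :
    ∀ v ∈ U.map f, ρ' v ∈ LinearMap.range ((U.map f).subtype.rTensor C) := by
  rintro _ ⟨u, hu, rfl⟩
  obtain ⟨y, hy⟩ := hU u hu
  have h1 : ρ' (f u) = f.rTensor C (ρ u) := LinearMap.congr_fun hf u
  let fU : U →ₗ[k] U.map f := f.restrict (fun x hx => Submodule.mem_map_of_mem hx)
  have hcomp : f ∘ₗ U.subtype = (U.map f).subtype ∘ₗ fU := by
    ext x
    rfl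
  refine ⟨fU.rTensor C y, ?_⟩
  rw [h1, ← hy, ← LinearMap.comp_apply, ← LinearMap.rTensor_comp, ← hcomp, LinearMap.rTensor_comp,
    LinearMap.comp_apply]

end

end Groth.Agent.H94
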