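import Mathlib.RingTheory.DividedPowers.Basic
import Mathlib.Tactic.Ring
import Mathlib.Tactic.Linarith

set_option autoImplicit false
universe u

namespace Groth.Agent.H94

open Finset

/-- For `δ` in an ideal with divided powers, `(b + δ)^N - b^N ∈ N · I`. -/
theorem add_pow_sub_pow_mem {B : Type u} [CommRing B] {I : Ideal B} (hI : DividedPowers I)
    (N : ℕ) (b δ : B) (hδ : δ ∈ I) :
    (b + δ) ^ N - b ^ N ∈ Ideal.span {(N : B)} * I := by
  rw [add_comm b δ, add_pow, Finset.sum_range_succ']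
  simp only [pow_zero, one_mul, Nat.sub_zero, Nat.choose_zero_right, Nat.cast_one, mul_one,
    add_sub_cancel_right]
  apply Submodule.sum_mem
  intro m hm
  rw [Finset.mem_range] at hm
  obtain ⟨N', rfl⟩ : ∃ N', N = N' + 1 := ⟨N - 1, by omega⟩
  have h1 : δ ^ (m + 1) = ((m + 1).factorial : B) * hI.dpow (m + 1) δ :=
    (hI.factorial_mul_dpow_eq_pow hδ).symm
  have h2 : (((N' + 1).choose (m + 1) : ℕ) : B) * ((m + 1).factorial : B) =
      ((N' + 1 : ℕ) : B) * ((N'.descFactorial m : ℕ) : B) := by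
    rw [← Nat.cast_mul, ← Nat.cast_mul, mul_comm, ← Nat.descFactorial_eq_factorial_mul_choose,
      Nat.succ_descFactorial_succ]
  have h3 : δ ^ (m + 1) * b ^ (N' + 1 - (m + 1)) * (((N' + 1).choose (m + 1) : ℕ) : B) =
      (((N' + 1 : ℕ) : B) * (((N'.descFactorial m : ℕ) : B) * b ^ (N' + 1 - (m + 1)))) *
        hI.dpow (m + 1) δ := by
    rw [h1]
    calc ((m + 1).factorial : B) * hI.dpow (m + 1) δ * b ^ (N' + 1 - (m + 1)) *
          (((N' + 1).choose (m + 1) : ℕ) : B)
        = ((((N' + 1).choose (m + 1) : ℕ) : B) * ((m + 1).factorial : B)) *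
          (b ^ (N' + 1 - (m + 1)) * hI.dpow (m + 1) δ) := by ring
      _ = _ := by rw [h2]; ring
  rw [h3]
  exact Ideal.mul_mem_mul (Ideal.mem_span_singleton'.mpr ⟨_, mul_comm _ _⟩)
    (hI.dpow_mem (Nat.succ_ne_zero m) hδ)

end Groth.Agent.H94
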