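import Mathlib
import Groth.Agent.H91.SymGrSurj
import Groth.Agent.H91.SymGrG2

/-!
# Differential smoothness in characteristic zero (abstract part)

Abstract versions of `H91.SymGr.exists_Lambda` / `phi_injective`, with the formally smooth lift
replaced by an arbitrary truncated lift `θ`.
-/

namespace Groth.Agent.H94.DiffSmoothQ

open TensorProduct Groth.Agent.H91 Groth.Agent.H91.SymGr MvPolynomial

universe u v w

section Abstract

variable {R S : Type u} [CommRing R] [CommRing S] [Algebra R S]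
  (I : Ideal S)
  {P : Type v} [AddCommGroup P] [Module R P]
  (q : ↥(I.restrictScalars R) →ₗ[R] P)

variable {ι : Type u} [Fintype ι]

theorem exists_Lambda_of_lift {T : Type w} [CommRing T] [Algebra R T] (𝔞 : Ideal T)
    (ιT : P →ₗ[R] T) (hιT : ∀ p, ιT p ∈ 𝔞)
    (l : T →ₗ[R] Sym[R] ι P) (hl1 : ∀ p : ι → P, l (∏ i, ιT (p i)) = SymmetricPower.tprod R p)
    (hl2 : ∀ y ∈ 𝔞 ^ (Fintype.card ι + 1), l y = 0)
    (θ : S →ₐ[R] T ⧸ 𝔞 ^ (Fintype.card ι + 2))
    (hθ : ∀ x : ↥(I.restrictScalars R),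
       Ideal.Quotient.mk (𝔞 ^ (Fintype.card ι + 2)) (ιT (q x)) - θ (x : S) ∈
        (𝔞.map (Ideal.Quotient.mk (𝔞 ^ (Fintype.card ι + 2)))) ^ 2) :
    ∃ Λ : S →ₗ[R] Sym[R] ι P,
      (∀ x : ι → ↥(I.restrictScalars R),
        Λ (∏ i, (x i : S)) = SymmetricPower.tprod R (fun i => q (x i))) ∧
      ∀ y ∈ I ^ (Fintype.card ι + 1), Λ y = 0 := by
  classical
  set mkN := Ideal.Quotient.mk (𝔞 ^ (Fintype.card ι + 2)) with hmkN
  set 𝔟 : Ideal (T ⧸ 𝔞 ^ (Fintype.card ι + 2)) := 𝔞.map mkN with h𝔟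
  have ha𝔟 : ∀ p : P, mkN (ιT p) ∈ 𝔟 := fun p => Ideal.mem_map_of_mem _ (hιT p)
  have hθ𝔟 : ∀ x ∈ I, θ x ∈ 𝔟 := by
    intro x hx
    have h1 := hθ ⟨x, hx⟩
    have h2 : 𝔟 ^ 2 ≤ 𝔟 := Ideal.pow_le_self (by norm_num)
    have : θ x = mkN (ιT (q ⟨x, hx⟩)) - (mkN (ιT (q ⟨x, hx⟩)) - θ x) := by ring
    rw [this]
    exact sub_mem (ha𝔟 _) (h2 h1)
  have hlker : (𝔞 ^ (Fintype.card ι + 2)).restrictScalars R ≤ LinearMap.ker l := by
    intro y hy
    rw [LinearMap.mem_ker]
    exact hl2 y (Ideal.pow_le_pow_right (by omega) hy)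
  let lbar : (T ⧸ 𝔞 ^ (Fintype.card ι + 2)) →ₗ[R] Sym[R] ι P :=
    (Submodule.liftQ _ l hlker) ∘ₗ
      (Submodule.Quotient.restrictScalarsEquiv R (𝔞 ^ (Fintype.card ι + 2))).symm.toLinearMap
  have hlbar : ∀ t : T, lbar (mkN t) = l t := fun t => rfl
  have hlbar0 : ∀ z ∈ 𝔟 ^ (Fintype.card ι + 1), lbar z = 0 := by
    intro z hz
    rw [h𝔟, ← Ideal.map_pow,
      Ideal.mem_map_iff_of_surjective _ Ideal.Quotient.mk_surjective] at hz
    obtain ⟨y, hy, rfl⟩ := hz
    rw [hlbar, hl2 y hy]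
  refine ⟨lbar ∘ₗ θ.toLinearMap, ?_, ?_⟩
  · intro x
    have h1 := prod_sub_prod_mem_pow 𝔟 Finset.univ
      (fun i => mkN (ιT (q (x i)))) (fun i => θ (x i : S))
      (fun i _ => ha𝔟 _) (fun i _ => hθ (x i))
    rw [Finset.card_univ] at h1
    have h2 := hlbar0 _ h1
    rw [map_sub, sub_eq_zero] at h2
    rw [LinearMap.comp_apply, AlgHom.toLinearMap_apply, map_prod, ← h2, ← map_prod, hlbar, hl1]
  · intro y hy
    have h3 : I ≤ (𝔟).comap θ := fun x hx => hθ𝔟 x hx
    have h4 : (I ^ (Fintype.card ι + 1)).map θ ≤ 𝔟 ^ (Fintype.card ι + 1) := by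
      rw [Ideal.map_pow]
      exact Ideal.pow_right_mono (Ideal.map_le_iff_le_comap.mpr h3) _
    rw [LinearMap.comp_apply, AlgHom.toLinearMap_apply]
    exact hlbar0 _ (h4 (Ideal.mem_map_of_mem θ hy))

theorem phi_injective_of_Lambda (hq : Function.Surjective q)
    (Λ : S →ₗ[R] Sym[R] ι P)
    (hΛ1 : ∀ x : ι → ↥(I.restrictScalars R),
        Λ (∏ i, (x i : S)) = SymmetricPower.tprod R (fun i => q (x i)))
    (hΛ2 : ∀ y ∈ I ^ (Fintype.card ι + 1), Λ y = 0)
    (φ : Sym[R] ι P →ₗ[R] gr R I (Fintype.card ι))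
    (hφ : ∀ x : ι → ↥(I.restrictScalars R),
        φ (SymmetricPower.tprod R (fun i => q (x i))) = prodI I x) :
    Function.Injective φ := by
  have hker : ((I ^ (Fintype.card ι + 1)).restrictScalars R).comap
      ((I ^ (Fintype.card ι)).restrictScalars R).subtype ≤
      LinearMap.ker (Λ ∘ₗ ((I ^ (Fintype.card ι)).restrictScalars R).subtype) := by
    intro y hy
    rw [LinearMap.mem_ker, LinearMap.comp_apply]
    exact hΛ2 _ hy
  let Ψ : gr R I (Fintype.card ι) →ₗ[R] Sym[R] ι P := Submodule.liftQ _ _ hker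
  have hΨφ : Ψ ∘ₗ φ = LinearMap.id := by
    apply SymPow.hom_ext
    intro m
    choose x hx using fun i => hq (m i)
    have h2 : m = fun i => q (x i) := by funext i; rw [hx]
    rw [h2, LinearMap.comp_apply, hφ, prodI_apply]
    show Λ (∏ i, (x i : S)) = _
    rw [hΛ1]
    rfl
  intro a b hab
  have := congrArg Ψ hab
  rwa [← LinearMap.comp_apply, ← LinearMap.comp_apply, hΨφ] at this

end Abstract

section Deriv

open MvPolynomial

variable {A B : Type u} [CommRing A] [CommRing B] [Algebra A B]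
  {J : Type w} (b : Module.Basis J B (Ω[B⁄A]))

/-- `Ω → B[X_J]`, `b_j ↦ X_j`. -/
noncomputable def iotaT : Ω[B⁄A] →ₗ[B] MvPolynomial J B :=
  b.constr B (fun j => (X j : MvPolynomial J B))

lemma iotaT_basis (j : J) : iotaT b (b j) = X j := by
  rw [iotaT, Module.Basis.constr_basis]

lemma iotaT_mem (ω : Ω[B⁄A]) : iotaT b ω ∈ idealOfVars J B := by
  rw [iotaT, Module.Basis.constr_apply]
  refine Ideal.sum_mem _ fun j _ => ?_
  exact Submodule.smul_of_tower_mem _ _ (Ideal.subset_span ⟨j, rfl⟩)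

/-- `x ↦ Σ_j D_j(x) X_j`. -/
noncomputable def dd : B →ₗ[A] MvPolynomial J B :=
  ((iotaT b).restrictScalars A) ∘ₗ (KaehlerDifferential.D A B).toLinearMap

lemma dd_apply (x : B) : dd b x = iotaT b (KaehlerDifferential.D A B x) := rfl

lemma dd_mem (x : B) : dd b x ∈ idealOfVars J B := iotaT_mem b _

lemma dd_mul (x y : B) : dd b (x * y) = C x * dd b y + C y * dd b x := by
  rw [dd_apply, Derivation.leibniz, map_add, map_smul, map_smul, MvPolynomial.smul_eq_C_mul,
    MvPolynomial.smul_eq_C_mul]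
  rfl

/-- The coefficientwise derivation. -/
noncomputable def delta' : MvPolynomial J B →ₗ[A] MvPolynomial J B :=
  (Finsupp.lsum ℕ (fun α : J →₀ ℕ => LinearMap.mulLeft A (monomial α (1:B)) ∘ₗ dd b)) ∘ₗ
    (AddMonoidAlgebra.coeffLinearEquiv A).toLinearMap

lemma delta'_monomial (α : J →₀ ℕ) (c : B) :
    delta' b (monomial α c) = monomial α 1 * dd b c := by
  simp [delta', monomial]


lemma delta'_C (c : B) : delta' b (C c) = dd b c := by
  have := delta'_monomial b 0 c
  simpa using this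

lemma delta'_mul_monomial (α β : J →₀ ℕ) (a c : B) :
    delta' b (monomial α a * monomial β c) =
      monomial α a * delta' b (monomial β c) + monomial β c * delta' b (monomial α a) := by
  rw [monomial_mul, delta'_monomial, delta'_monomial, delta'_monomial, dd_mul]
  have h1 : (monomial (α + β) (1 : B) : MvPolynomial J B) = monomial α 1 * monomial β 1 := by
    rw [monomial_mul, one_mul]
  have h2 : (monomial α a : MvPolynomial J B) = C a * monomial α 1 := by
    rw [C_mul_monomial, mul_one]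
  have h3 : (monomial β c : MvPolynomial J B) = C c * monomial β 1 := by
    rw [C_mul_monomial, mul_one]
  rw [h1, h2, h3]
  ring

lemma delta'_mul (p q : MvPolynomial J B) :
    delta' b (p * q) = p * delta' b q + q * delta' b p := by
  induction p using MvPolynomial.induction_on' with
  | monomial α a =>
    induction q using MvPolynomial.induction_on' with
    | monomial β c => exact delta'_mul_monomial b α β a c
    | add q₁ q₂ h₁ h₂ =>
      rw [mul_add, map_add, h₁, h₂, map_add]; ring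
  | add p₁ p₂ h₁ h₂ =>
    rw [add_mul, map_add, h₁, h₂, map_add]; ring

lemma monomial_one_mem_pow (α : J →₀ ℕ) (k : ℕ) (h : k ≤ α.degree) :
    (monomial α (1 : B) : MvPolynomial J B) ∈ idealOfVars J B ^ k := by
  classical
  rw [mem_pow_idealOfVars_iff]
  intro x hx
  rw [mem_support_iff, coeff_monomial] at hx
  split_ifs at hx with h'
  · rwa [← h']
  · exact absurd rfl hx

lemma delta'_mem_pow (k : ℕ) (p : MvPolynomial J B) (hp : p ∈ idealOfVars J B ^ k) :
    delta' b p ∈ idealOfVars J B ^ (k + 1) := by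
  rw [mem_pow_idealOfVars_iff] at hp
  rw [p.as_sum, map_sum]
  refine Ideal.sum_mem _ fun α hα => ?_
  rw [delta'_monomial, pow_succ]
  exact Ideal.mul_mem_mul (monomial_one_mem_pow α k (hp α hα)) (dd_mem b _)

lemma delta'_pow_mem (k : ℕ) (p : MvPolynomial J B) :
    (delta' b ^ k) p ∈ idealOfVars J B ^ k := by
  induction k with
  | zero => simp
  | succ k ih =>
    have : (delta' b ^ (k + 1)) p = delta' b ((delta' b ^ k) p) := by
      rw [pow_succ']; rfl
    rw [this]
    exact delta'_mem_pow b k _ ih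


variable (N : ℕ)

lemma delta'_le_comap :
    (idealOfVars J B ^ N).restrictScalars A ≤
      ((idealOfVars J B ^ N).restrictScalars A).comap (delta' b) := by
  intro p hp
  exact Ideal.pow_le_pow_right (Nat.le_succ N) (delta'_mem_pow b N p hp)

/-- The induced derivation on the truncated polynomial ring. -/
noncomputable def deltaBar :
    (MvPolynomial J B ⧸ idealOfVars J B ^ N) →ₗ[A] (MvPolynomial J B ⧸ idealOfVars J B ^ N) :=
  (Submodule.Quotient.restrictScalarsEquiv A (idealOfVars J B ^ N)).toLinearMap ∘ₗ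
    (Submodule.mapQ _ _ (delta' b) (delta'_le_comap b N)) ∘ₗ
      (Submodule.Quotient.restrictScalarsEquiv A (idealOfVars J B ^ N)).symm.toLinearMap

lemma deltaBar_mk (p : MvPolynomial J B) :
    deltaBar b N (Ideal.Quotient.mk _ p) = Ideal.Quotient.mk _ (delta' b p) := rfl

lemma deltaBar_mul (x y : MvPolynomial J B ⧸ idealOfVars J B ^ N) :
    deltaBar b N (x * y) = x * deltaBar b N y + deltaBar b N x * y := by
  obtain ⟨p, rfl⟩ := Ideal.Quotient.mk_surjective x
  obtain ⟨q, rfl⟩ := Ideal.Quotient.mk_surjective y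
  rw [← map_mul, deltaBar_mk, deltaBar_mk, deltaBar_mk, delta'_mul, map_add, map_mul, map_mul]
  ring

lemma deltaBar_pow_mk (k : ℕ) (p : MvPolynomial J B) :
    (deltaBar b N ^ k) (Ideal.Quotient.mk _ p) = Ideal.Quotient.mk _ ((delta' b ^ k) p) := by
  induction k with
  | zero => simp
  | succ k ih =>
    have h1 : (deltaBar b N ^ (k + 1)) (Ideal.Quotient.mk _ p) =
        deltaBar b N ((deltaBar b N ^ k) (Ideal.Quotient.mk _ p)) := by
      rw [pow_succ']; rfl
    have h2 : (delta' b ^ (k + 1)) p = delta' b ((delta' b ^ k) p) := by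
      rw [pow_succ']; rfl
    rw [h1, ih, deltaBar_mk, h2]

lemma deltaBar_pow_eq_zero : deltaBar b N ^ N = 0 := by
  refine LinearMap.ext fun x => ?_
  obtain ⟨p, rfl⟩ := Ideal.Quotient.mk_surjective x
  rw [deltaBar_pow_mk, LinearMap.zero_apply, Ideal.Quotient.eq_zero_iff_mem]
  exact delta'_pow_mem b N p

lemma deltaBar_isNilpotent : IsNilpotent (deltaBar b N) := ⟨N, deltaBar_pow_eq_zero b N⟩


section Exp

variable [Algebra ℚ B]

/-- A multiplicative bijection of a ring fixes `1`. -/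
lemma exp_one_eq_one :
    IsNilpotent.exp (deltaBar b N) (1 : MvPolynomial J B ⧸ idealOfVars J B ^ N) = 1 := by
  have hmul := Module.End.exp_mul_of_derivation A (MvPolynomial J B ⧸ idealOfVars J B ^ N)
    (deltaBar b N) (deltaBar_mul b N) (deltaBar_isNilpotent b N)
  have hunit := IsNilpotent.isUnit_exp (deltaBar_isNilpotent b N)
  obtain ⟨x, hx⟩ := ((Module.End.isUnit_iff _).mp hunit).2 1
  have := hmul 1 x
  rw [one_mul, hx, mul_one] at this
  exact this.symm

/-- The truncated exponential of the coefficientwise derivation, on constants. -/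
noncomputable def theta0 : B →ₐ[A] (MvPolynomial J B ⧸ idealOfVars J B ^ N) :=
  AlgHom.ofLinearMap
    ((IsNilpotent.exp (deltaBar b N)) ∘ₗ
      (IsScalarTower.toAlgHom A B (MvPolynomial J B ⧸ idealOfVars J B ^ N)).toLinearMap)
    (by
      rw [LinearMap.comp_apply, AlgHom.toLinearMap_apply, map_one]
      exact exp_one_eq_one b N)
    (by
      intro x y
      rw [LinearMap.comp_apply, LinearMap.comp_apply, LinearMap.comp_apply,
        AlgHom.toLinearMap_apply, AlgHom.toLinearMap_apply, AlgHom.toLinearMap_apply, map_mul]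
      exact Module.End.exp_mul_of_derivation A _ (deltaBar b N) (deltaBar_mul b N)
        (deltaBar_isNilpotent b N) _ _)

lemma theta0_apply (x : B) :
    theta0 b N x = IsNilpotent.exp (deltaBar b N) (Ideal.Quotient.mk _ (C x)) := rfl

lemma theta0_sub_mem (M : ℕ) (x : B) :
    theta0 b (M + 2) x - Ideal.Quotient.mk _ (C x) - Ideal.Quotient.mk _ (dd b x) ∈
      ((idealOfVars J B).map (Ideal.Quotient.mk (idealOfVars J B ^ (M + 2)))) ^ 2 := by
  rw [theta0_apply, IsNilpotent.exp_eq_sum (deltaBar_pow_eq_zero b (M + 2)), LinearMap.sum_apply,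
    Finset.sum_range_succ', Finset.sum_range_succ']
  have h0 : (((Nat.factorial 0 : ℕ) : ℚ)⁻¹ • (deltaBar b (M + 2)) ^ 0)
      (Ideal.Quotient.mk (idealOfVars J B ^ (M + 2)) (C x)) = Ideal.Quotient.mk _ (C x) := by
    simp
  have h1 : (((Nat.factorial (0 + 1) : ℕ) : ℚ)⁻¹ • (deltaBar b (M + 2)) ^ (0 + 1))
      (Ideal.Quotient.mk (idealOfVars J B ^ (M + 2)) (C x)) = Ideal.Quotient.mk _ (dd b x) := by
    simp [deltaBar_mk, delta'_C]
  rw [h0, h1, add_sub_cancel_right, add_sub_cancel_right]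
  refine Ideal.sum_mem _ fun i _ => ?_
  rw [LinearMap.smul_apply, deltaBar_pow_mk]
  refine Submodule.smul_of_tower_mem _ _ ?_
  rw [← Ideal.map_pow]
  refine Ideal.mem_map_of_mem _ ?_
  exact Ideal.pow_le_pow_right (by omega) (delta'_pow_mem b (i + 1 + 1) (C x))

end Exp

end Deriv

section Concrete

variable {A B : Type u} [CommRing A] [CommRing B] [Algebra A B]
  {J : Type w} (b : Module.Basis J B (Ω[B⁄A])) (N : ℕ)

variable (A B) in
/-- multiplication `B ⊗_A B → B` -/
noncomputable abbrev sigma : B ⊗[A] B →ₐ[B] B := Algebra.TensorProduct.lmul'' A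

variable (A B) in
lemma hI_sigma : ∀ x, x ∈ KaehlerDifferential.ideal A B ↔ sigma A B x = 0 := fun _ => Iff.rfl

variable (A B) in
/-- the quotient map `I → Ω` as a `B`-linear map -/
noncomputable abbrev qq : ↥((KaehlerDifferential.ideal A B).restrictScalars B) →ₗ[B] Ω[B⁄A] :=
  (KaehlerDifferential.fromIdeal A B).restrictScalars B

lemma delta_tmul (x y : B) :
    delta (sigma A B) (KaehlerDifferential.ideal A B) (hI_sigma A B) (x ⊗ₜ[A] y) =
      x • (⟨(1 : B) ⊗ₜ[A] y - y ⊗ₜ[A] (1 : B),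
        KaehlerDifferential.one_smul_sub_smul_one_mem_ideal A y⟩ :
          ↥((KaehlerDifferential.ideal A B).restrictScalars B)) := by
  apply Subtype.ext
  rw [delta_coe]
  show x ⊗ₜ[A] y - algebraMap B (B ⊗[A] B) (x * y) = x • ((1 : B) ⊗ₜ[A] y - y ⊗ₜ[A] (1 : B))
  rw [Algebra.TensorProduct.algebraMap_apply, smul_sub, TensorProduct.smul_tmul',
    TensorProduct.smul_tmul', smul_eq_mul, smul_eq_mul, mul_one]
  rfl

lemma qq_delta_tmul (x y : B) :
    qq A B (delta (sigma A B) (KaehlerDifferential.ideal A B) (hI_sigma A B) (x ⊗ₜ[A] y)) =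
      x • KaehlerDifferential.D A B y := by
  rw [delta_tmul, map_smul]
  rfl

lemma iotaT_eq (ω : Ω[B⁄A]) :
    iotaT b ω = SymmetricAlgebra.equivMvPolynomial b (SymmetricAlgebra.ι B _ ω) := by
  have : iotaT b = (SymmetricAlgebra.equivMvPolynomial b).toLinearMap ∘ₗ
      SymmetricAlgebra.ι B (Ω[B⁄A]) := by
    apply b.ext
    intro j
    rw [iotaT_basis, LinearMap.comp_apply, AlgEquiv.toLinearMap_apply,
      SymmetricAlgebra.equivMvPolynomial_ι_apply]
  rw [this]; rfl

variable [Algebra ℚ B]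

/-- The lift `B ⊗_A B → B[X_J]/(X)^N`. -/
noncomputable def theta : B ⊗[A] B →ₐ[B] (MvPolynomial J B ⧸ idealOfVars J B ^ N) :=
  Algebra.TensorProduct.lift (Algebra.ofId B _) (theta0 b N) (fun _ _ => Commute.all _ _)

lemma theta_tmul (x y : B) :
    theta b N (x ⊗ₜ[A] y) = Ideal.Quotient.mk _ (C x) * theta0 b N y := by
  rw [theta, Algebra.TensorProduct.lift_tmul]
  rfl

lemma theta_first_order (M : ℕ) (s : B ⊗[A] B) :
    Ideal.Quotient.mk (idealOfVars J B ^ (M + 2)) (iotaT b (qq A B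
        (delta (sigma A B) (KaehlerDifferential.ideal A B) (hI_sigma A B) s))) +
      Ideal.Quotient.mk (idealOfVars J B ^ (M + 2)) (C (sigma A B s)) - theta b (M + 2) s ∈
      ((idealOfVars J B).map (Ideal.Quotient.mk (idealOfVars J B ^ (M + 2)))) ^ 2 := by
  induction s using TensorProduct.induction_on with
  | zero => simp
  | tmul x y =>
    rw [qq_delta_tmul, map_smul, theta_tmul]
    have h1 : sigma A B (x ⊗ₜ[A] y) = x * y := rfl
    rw [h1, map_mul C, map_mul (Ideal.Quotient.mk _), MvPolynomial.smul_eq_C_mul,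
      map_mul (Ideal.Quotient.mk _)]
    have h2 := theta0_sub_mem b M y
    have h3 : Ideal.Quotient.mk (idealOfVars J B ^ (M + 2)) (C x) *
        Ideal.Quotient.mk _ (iotaT b (KaehlerDifferential.D A B y)) +
        Ideal.Quotient.mk _ (C x) * Ideal.Quotient.mk _ (C y) -
        Ideal.Quotient.mk _ (C x) * theta0 b (M + 2) y =
        - (Ideal.Quotient.mk _ (C x) * (theta0 b (M + 2) y - Ideal.Quotient.mk _ (C y) -
          Ideal.Quotient.mk _ (dd b y))) := by
      rw [dd_apply]; ring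
    rw [h3]
    exact neg_mem (Ideal.mul_mem_left _ _ h2)
  | add s₁ s₂ h₁ h₂ =>
    have := add_mem h₁ h₂
    convert this using 1
    simp only [map_add]
    ring


variable {ι : Type u} [Fintype ι]

include b in
theorem exists_Lambda_of_free :
    ∃ Λ : B ⊗[A] B →ₗ[B] Sym[B] ι (Ω[B⁄A]),
      (∀ x : ι → ↥((KaehlerDifferential.ideal A B).restrictScalars B),
        Λ (∏ i, (x i : B ⊗[A] B)) = SymmetricPower.tprod B (fun i => qq A B (x i))) ∧
      ∀ y ∈ KaehlerDifferential.ideal A B ^ (Fintype.card ι + 1), Λ y = 0 := by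
  refine exists_Lambda_of_lift (KaehlerDifferential.ideal A B) (qq A B) (idealOfVars J B)
    (iotaT b) (iotaT_mem b) (SymPow.leftInvFree (ι := ι) b) ?_
    (fun y hy => SymPow.leftInvFree_of_mem_pow b y hy) (theta b (Fintype.card ι + 2)) ?_
  · intro p
    have : ∏ i, iotaT b (p i) = SymmetricAlgebra.equivMvPolynomial b
        (SymPow.toSymAlg (SymmetricPower.tprod B p)) := by
      rw [SymPow.toSymAlg_tprod, map_prod]
      exact Finset.prod_congr rfl fun i _ => iotaT_eq b (p i)
    rw [this, SymPow.leftInvFree_toSymAlg]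
  · intro x
    have h := theta_first_order b (Fintype.card ι) (x : B ⊗[A] B)
    rw [delta_of_mem _ _ (hI_sigma A B) (x : B ⊗[A] B) x.2,
      ((hI_sigma A B) (x : B ⊗[A] B)).mp x.2, map_zero, map_zero, add_zero] at h
    exact h

include b in
/-- For a `ℚ`-algebra `B` with `Ω_{B/A}` free, the canonical maps
`Sym^n Ω → I^n/I^(n+1)` are bijective. -/
theorem phi_bijective_of_free
    (φ : Sym[B] ι (Ω[B⁄A]) →ₗ[B] gr B (KaehlerDifferential.ideal A B) (Fintype.card ι))
    (hφ : ∀ x : ι → ↥((KaehlerDifferential.ideal A B).restrictScalars B),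
        φ (SymmetricPower.tprod B (fun i => qq A B (x i))) =
          prodI (KaehlerDifferential.ideal A B) x) :
    Function.Bijective φ := by
  obtain ⟨Λ, hΛ1, hΛ2⟩ := exists_Lambda_of_free (ι := ι) b
  exact ⟨phi_injective_of_Lambda (KaehlerDifferential.ideal A B) (qq A B)
      (KaehlerDifferential.fromIdeal_surjective A B) Λ hΛ1 hΛ2 φ hφ,
    phi_surjective (sigma A B) (KaehlerDifferential.ideal A B) (hI_sigma A B) (qq A B) φ hφ⟩

end Concrete

end Groth.Agent.H94.DiffSmoothQ
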