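import Mathlib
import Groth.Agent.H94.JacCore
import Groth.Agent.H94.NakField

/-!
# Cutting a smooth algebra down to an étale one

`exists_away_quotient_etale` : `C → B` smooth, `J` an ideal of `B` with `C → B/J` surjective, `x` a
prime of `B/J`. Then there are `f ∈ B` not vanishing at `x` and finitely many elements of `J`
such that `B_f / (these elements)` is étale over `C`.
-/

set_option autoImplicit false

namespace Groth.Agent.H94.EtaleQuot

open TensorProduct KaehlerDifferential

/-- a basis of a finite-dimensional vector space chosen inside a spanning set -/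
theorem exists_basis_subset {K V : Type*} [Field K] [AddCommGroup V] [Module K V]
    [FiniteDimensional K V] (S : Set V) (hS : Submodule.span K S = ⊤) :
    ∃ (n : ℕ) (e : Fin n → V), (∀ i, e i ∈ S) ∧ LinearIndependent K e ∧
      Submodule.span K (Set.range e) = ⊤ := by
  classical
  obtain ⟨b, hbS, hspan, hli⟩ := exists_linearIndependent K S
  rw [hS] at hspan
  let B : Module.Basis b K V := Module.Basis.mk hli (by
    rw [Subtype.range_coe_subtype]; exact hspan.ge)
  haveI : Fintype b := FiniteDimensional.fintypeBasisIndex B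
  let e : Fin (Fintype.card b) ≃ b := (Fintype.equivFin b).symm
  refine ⟨Fintype.card b, fun i => (e i : V), fun i => hbS (e i).2, ?_, ?_⟩
  · exact hli.comp e e.injective
  · have : (fun i => ((e i : b) : V)) = (Subtype.val : b → V) ∘ e := rfl
    rw [this, Set.range_comp, e.range_eq_univ, Set.image_univ, Subtype.range_coe_subtype]
    exact hspan

theorem exists_away_quotient_etale {C : Type*} {B : Type*} [CommRing C] [CommRing B]
    [Algebra C B] [Algebra.Smooth C B] (J : Ideal B)
    (hsurj : Function.Surjective ((Ideal.Quotient.mk J).comp (algebraMap C B)))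
    (x : PrimeSpectrum (B ⧸ J)) :
    ∃ (f : B) (J₀' : Ideal B), Ideal.Quotient.mk J f ∉ x.asIdeal ∧ J₀' ≤ J ∧
      Algebra.Etale C (Localization.Away f ⧸ J₀'.map (algebraMap B (Localization.Away f))) := by
  classical
  let K := x.asIdeal.ResidueField
  -- differentials of elements of `J` span
  have hD : ∀ b : B, ∃ j ∈ J, D C B b = D C B j := by
    intro b
    obtain ⟨c, hc⟩ := hsurj (Ideal.Quotient.mk J b)
    refine ⟨b - algebraMap C B c, ?_, ?_⟩
    · rw [← Ideal.Quotient.eq_zero_iff_mem, map_sub, ← hc, RingHom.comp_apply, sub_self]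
    · rw [map_sub, Derivation.map_algebraMap, sub_zero]
  let S : Set (K ⊗[B] Ω[B⁄C]) := Set.range fun j : J => (1 : K) ⊗ₜ[B] D C B (j : B)
  have h1mem : ∀ ω : Ω[B⁄C], (1 : K) ⊗ₜ[B] ω ∈ Submodule.span K S := by
    intro ω
    have hω : ω ∈ Submodule.span B (Set.range (D C B)) := by
      rw [KaehlerDifferential.span_range_derivation]; trivial
    induction hω using Submodule.span_induction with
    | mem y hy =>
      obtain ⟨b, rfl⟩ := hy
      obtain ⟨j, hj, hbj⟩ := hD b
      rw [hbj]
      exact Submodule.subset_span ⟨⟨j, hj⟩, rfl⟩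
    | zero => rw [TensorProduct.tmul_zero]; exact zero_mem _
    | add y z _ _ hy hz => rw [TensorProduct.tmul_add]; exact add_mem hy hz
    | smul b y _ hy =>
      rw [TensorProduct.tmul_smul, ← algebraMap_smul K b]
      exact Submodule.smul_mem _ _ hy
  have hS : Submodule.span K S = ⊤ := by
    rw [eq_top_iff]
    rintro z -
    induction z using TensorProduct.induction_on with
    | zero => exact zero_mem _
    | tmul y ω =>
      have : y ⊗ₜ[B] ω = y • ((1 : K) ⊗ₜ[B] ω) := by
        rw [TensorProduct.smul_tmul', smul_eq_mul, mul_one]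
      rw [this]
      exact Submodule.smul_mem _ _ (h1mem ω)
    | add z w hz hw => exact add_mem hz hw
  obtain ⟨n, e, heS, hli, hspan⟩ := exists_basis_subset S hS
  choose j hj using heS
  let g : Fin n → B := fun i => (j i : B)
  have hge : (fun i => (1 : K) ⊗ₜ[B] D C B (g i)) = e := funext hj
  have hli' : LinearIndependent K (fun i => (1 : K) ⊗ₜ[B] D C B (g i)) := by rw [hge]; exact hli
  let J₀' : Ideal B := Ideal.span (Set.range g)
  have hJ₀J : J₀' ≤ J := Ideal.span_le.mpr (by rintro _ ⟨i, rfl⟩; exact (j i).2)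
  -- the quotient `B₁ = B / J₀'` and its prime
  have hJ₀K : ∀ b ∈ J₀', algebraMap B K b = 0 := fun b hb => by
    rw [IsScalarTower.algebraMap_apply B (B ⧸ J) K, Ideal.Quotient.algebraMap_eq,
      Ideal.Quotient.eq_zero_iff_mem.mpr (hJ₀J hb), map_zero]
  letI algB₁K : Algebra (B ⧸ J₀') K := (Ideal.Quotient.lift J₀' (algebraMap B K) hJ₀K).toAlgebra
  haveI : IsScalarTower B (B ⧸ J₀') K := IsScalarTower.of_algebraMap_eq fun a => rfl
  let P₁ : Ideal (B ⧸ J₀') := RingHom.ker (algebraMap (B ⧸ J₀') K)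
  haveI : P₁.IsPrime := RingHom.ker_isPrime _
  haveI : Algebra.IsSmoothAt C (P₁.comap (algebraMap B (B ⧸ J₀'))) := by
    have h1 : (⟨P₁.comap (algebraMap B (B ⧸ J₀')), inferInstance⟩ : PrimeSpectrum B) ∈
        Algebra.smoothLocus C B := by
      rw [Algebra.smoothLocus_eq_univ]; trivial
    exact h1
  have hsm₁ : Algebra.IsSmoothAt C P₁ :=
    JacCore.isSmoothAt_of_linearIndependent C K g Ideal.Quotient.mk_surjective
      (by rw [Ideal.Quotient.algebraMap_eq, Ideal.mk_ker]) P₁ rfl hli'
  haveI : Algebra.FinitePresentation C (B ⧸ J₀') :=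
    Algebra.FinitePresentation.quotient (Submodule.fg_span (Set.finite_range g))
  -- the differentials of `B₁` vanish at `P₁`
  let l : Ω[B⁄C] →ₗ[B] K ⊗[B ⧸ J₀'] Ω[(B ⧸ J₀')⁄C] :=
    ((TensorProduct.mk (B ⧸ J₀') K Ω[(B ⧸ J₀')⁄C] 1).restrictScalars B) ∘ₗ
      (KaehlerDifferential.map C C B (B ⧸ J₀'))
  let ψ : K ⊗[B] Ω[B⁄C] →ₗ[K] K ⊗[B ⧸ J₀'] Ω[(B ⧸ J₀')⁄C] := LinearMap.liftBaseChange K l
  have hψ : ∀ b : B, ψ ((1 : K) ⊗ₜ[B] D C B b) =
      (1 : K) ⊗ₜ[B ⧸ J₀'] D C (B ⧸ J₀') (Ideal.Quotient.mk J₀' b) := by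
    intro b
    rw [LinearMap.liftBaseChange_tmul, one_smul]
    show (1 : K) ⊗ₜ[B ⧸ J₀'] (KaehlerDifferential.map C C B (B ⧸ J₀') (D C B b)) = _
    rw [KaehlerDifferential.map_D]
    rfl
  have hψ0 : ∀ z, ψ z = 0 := by
    intro z
    have hz : z ∈ Submodule.span K (Set.range e) := by rw [hspan]; trivial
    induction hz using Submodule.span_induction with
    | mem y hy =>
      obtain ⟨i, rfl⟩ := hy
      rw [← hj i, hψ]
      have : Ideal.Quotient.mk J₀' (j i : B) = 0 :=
        Ideal.Quotient.eq_zero_iff_mem.mpr (Ideal.subset_span ⟨i, rfl⟩)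
      rw [this, map_zero, TensorProduct.tmul_zero]
    | zero => exact map_zero _
    | add y z _ _ hy hz => rw [map_add, hy, hz, add_zero]
    | smul a y _ hy => rw [map_smul, hy, smul_zero]
  have hsub : Subsingleton (K ⊗[B ⧸ J₀'] Ω[(B ⧸ J₀')⁄C]) := by
    have h1 : ∀ ω : Ω[(B ⧸ J₀')⁄C], (1 : K) ⊗ₜ[B ⧸ J₀'] ω = 0 := by
      intro ω
      have hω : ω ∈ Submodule.span (B ⧸ J₀') (Set.range (D C (B ⧸ J₀'))) := by
        rw [KaehlerDifferential.span_range_derivation]; trivial
      induction hω using Submodule.span_induction with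
      | mem y hy =>
        obtain ⟨b₁, rfl⟩ := hy
        obtain ⟨b, rfl⟩ := Ideal.Quotient.mk_surjective b₁
        rw [← hψ, hψ0]
      | zero => exact TensorProduct.tmul_zero _ _
      | add y z _ _ hy hz => rw [TensorProduct.tmul_add, hy, hz, add_zero]
      | smul b y _ hy => rw [TensorProduct.tmul_smul, hy, smul_zero]
    constructor
    intro z w
    have h0 : ∀ z : K ⊗[B ⧸ J₀'] Ω[(B ⧸ J₀')⁄C], z = 0 := by
      intro z
      induction z using TensorProduct.induction_on with
      | zero => rfl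
      | tmul y ω =>
        have : y ⊗ₜ[B ⧸ J₀'] ω = y • ((1 : K) ⊗ₜ[B ⧸ J₀'] ω) := by
          rw [TensorProduct.smul_tmul', smul_eq_mul, mul_one]
        rw [this, h1, smul_zero]
      | add z w hz hw => rw [hz, hw, add_zero]
    rw [h0 z, h0 w]
  obtain ⟨s₁, hs₁K, hs₁⟩ :=
    NakField.exists_smul_eq_zero_of_subsingleton_tensor Ω[(B ⧸ J₀')⁄C] K hsub
  obtain ⟨h₁, hh₁, hsmh⟩ := Algebra.IsSmoothAt.exists_notMem_smooth C P₁
  -- `f₁ = h₁ s₁`
  let f₁ : B ⧸ J₀' := h₁ * s₁
  have hf₁K : algebraMap (B ⧸ J₀') K f₁ ≠ 0 := by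
    rw [map_mul]
    refine mul_ne_zero ?_ hs₁K
    intro h0
    exact hh₁ (RingHom.mem_ker.mpr h0)
  -- smoothness of `(B₁)_{f₁}`
  have hsmooth : Algebra.Smooth C (Localization.Away f₁) := by
    rw [← Algebra.basicOpen_subset_smoothLocus_iff_smooth]
    have h1 : (↑(PrimeSpectrum.basicOpen h₁) : Set (PrimeSpectrum (B ⧸ J₀'))) ⊆
        Algebra.smoothLocus C (B ⧸ J₀') :=
      Algebra.basicOpen_subset_smoothLocus_iff_smooth.mpr hsmh
    refine subset_trans ?_ h1
    exact PrimeSpectrum.basicOpen_mul_le_left h₁ s₁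
  -- unramifiedness of `(B₁)_{f₁}`
  have hunram : Algebra.FormallyUnramified C (Localization.Away f₁) := by
    refine ⟨?_⟩
    haveI : Algebra.FormallyEtale (B ⧸ J₀') (Localization.Away f₁) :=
      Algebra.FormallyEtale.of_isLocalization (Submonoid.powers f₁)
    have hsu : IsUnit (algebraMap (B ⧸ J₀') (Localization.Away f₁) s₁) := by
      have h2 : IsUnit (algebraMap (B ⧸ J₀') (Localization.Away f₁) f₁) :=
        IsLocalization.Away.algebraMap_isUnit f₁
      rw [map_mul] at h2
      exact isUnit_of_mul_isUnit_right h2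
    have h0 : ∀ z : Localization.Away f₁ ⊗[B ⧸ J₀'] Ω[(B ⧸ J₀')⁄C], z = 0 := by
      intro z
      induction z using TensorProduct.induction_on with
      | zero => rfl
      | tmul t ω =>
        obtain ⟨u, hu⟩ := hsu
        have ht : t = s₁ • (t * ((u⁻¹ : (Localization.Away f₁)ˣ) : Localization.Away f₁)) := by
          rw [Algebra.smul_def, ← hu, mul_comm t, ← mul_assoc, Units.mul_inv, one_mul]
        rw [ht, TensorProduct.smul_tmul, hs₁, TensorProduct.tmul_zero]
      | add z w hz hw => rw [hz, hw, add_zero]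
    have e := KaehlerDifferential.tensorKaehlerEquivOfFormallyEtale C (B ⧸ J₀')
      (Localization.Away f₁)
    constructor
    intro a b
    rw [← e.apply_symm_apply a, ← e.apply_symm_apply b, h0 (e.symm a), h0 (e.symm b)]
  have hetale : Algebra.Etale C (Localization.Away f₁) :=
    Algebra.Etale.iff_formallyUnramified_and_smooth.mpr ⟨hunram, hsmooth⟩
  -- transfer to `B_f / J₀' B_f`
  obtain ⟨f, hf⟩ := Ideal.Quotient.mk_surjective f₁
  refine ⟨f, J₀', ?_, hJ₀J, ?_⟩
  · intro hmem
    apply hf₁K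
    rw [← hf]
    show algebraMap B K f = 0
    rw [IsScalarTower.algebraMap_apply B (B ⧸ J) K, Ideal.Quotient.algebraMap_eq,
      ← RingHom.mem_ker, Ideal.ker_algebraMap_residueField]
    exact hmem
  · have hpow : Algebra.algebraMapSubmonoid (B ⧸ J₀') (Submonoid.powers f) =
        Submonoid.powers f₁ := by
      rw [Algebra.algebraMapSubmonoid, Submonoid.map_powers, ← hf]
      rfl
    haveI hloc : IsLocalization (Submonoid.powers f₁)
        (Localization.Away f ⧸ J₀'.map (algebraMap B (Localization.Away f))) := by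
      rw [← hpow]; infer_instance
    let e : Localization.Away f₁ ≃ₐ[B ⧸ J₀']
        (Localization.Away f ⧸ J₀'.map (algebraMap B (Localization.Away f))) :=
      IsLocalization.algEquiv (Submonoid.powers f₁) _ _
    haveI : IsScalarTower C (B ⧸ J₀')
        (Localization.Away f ⧸ J₀'.map (algebraMap B (Localization.Away f))) :=
      IsScalarTower.of_algebraMap_eq fun c => rfl
    exact Algebra.Etale.of_equiv (e.restrictScalars C)

end Groth.Agent.H94.EtaleQuot
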