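import Mathlib

/-!
# The annihilator of an exterior power and fibre dimension

`ann_extPower_le_iff` : for a finite module `M` over `R` and a prime `P`,
`Ann (⋀ⁿ M) ≤ P ↔ n ≤ dim_{κ(P)} κ(P) ⊗ M`.
-/

set_option autoImplicit false

namespace Groth.Agent.H94.ExtPowerAnn

open TensorProduct

section Restrict

variable (R : Type*) {A M N ι : Type*} [CommSemiring R] [Semiring A] [Algebra R A]
  [AddCommMonoid M] [AddCommMonoid N] [Module A M] [Module A N] [Module R M] [Module R N]
  [IsScalarTower R A M] [IsScalarTower R A N]

/-- restriction of scalars for alternating maps -/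
def altRestrict (f : M [⋀^ι]→ₗ[A] N) : M [⋀^ι]→ₗ[R] N :=
  { f.toMultilinearMap.restrictScalars R with
    map_eq_zero_of_eq' := f.map_eq_zero_of_eq' }

@[simp] theorem altRestrict_apply (f : M [⋀^ι]→ₗ[A] N) (m : ι → M) :
    altRestrict R f m = f m := rfl

end Restrict

variable {R : Type*} [CommRing R] {M : Type*} [AddCommGroup M] [Module R M]

/-- If `1 ⊗ m₁, …, 1 ⊗ mₙ` are linearly independent in `K ⊗ M`, the annihilator of `⋀ⁿ M` is
contained in the kernel of `R → K`. -/
theorem ann_le_ker_of_linearIndependent (K : Type*) [Field K] [Algebra R K] {n : ℕ}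
    (m : Fin n → M) (hm : LinearIndependent K (fun i => (1 : K) ⊗ₜ[R] m i)) :
    Module.annihilator R (⋀[R]^n M) ≤ RingHom.ker (algebraMap R K) := by
  classical
  intro a ha
  -- a left inverse
  have hker : LinearMap.ker (Fintype.linearCombination K (fun i => (1 : K) ⊗ₜ[R] m i)) = ⊥ := by
    rw [LinearMap.ker_eq_bot]
    exact linearIndependent_iff_injective_fintypeLinearCombination.mp hm
  obtain ⟨L, hL⟩ := LinearMap.exists_leftInverse_of_injective _ hker
  have hLv : ∀ i, L ((1 : K) ⊗ₜ[R] m i) = Pi.single i 1 := by
    intro i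
    have := LinearMap.congr_fun hL (Pi.single i 1)
    simpa [Fintype.linearCombination_apply_single] using this
  let ψ : M →ₗ[R] (Fin n → K) := (L.restrictScalars R) ∘ₗ (TensorProduct.mk R K M 1)
  let f : M [⋀^Fin n]→ₗ[R] K :=
    (altRestrict R (Matrix.detRowAlternating (R := K) (n := Fin n))).compLinearMap ψ
  let F : ⋀[R]^n M →ₗ[R] K := exteriorPower.alternatingMapLinearEquiv f
  have hF : F (exteriorPower.ιMulti R n m) = 1 := by
    rw [exteriorPower.alternatingMapLinearEquiv_apply_ιMulti]
    show Matrix.det (Matrix.of fun i => L ((1 : K) ⊗ₜ[R] m i)) = 1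
    have : (Matrix.of fun i => L ((1 : K) ⊗ₜ[R] m i)) = (1 : Matrix (Fin n) (Fin n) K) := by
      ext i j
      rw [Matrix.of_apply, hLv, Matrix.one_apply, Pi.single_apply]
      simp [eq_comm]
    rw [this, Matrix.det_one]
  have h0 : a • exteriorPower.ιMulti R n m = 0 := Module.mem_annihilator.mp ha _
  have h1 := congrArg F h0
  rw [map_smul, hF, map_zero, Algebra.smul_def, mul_one] at h1
  exact h1

/-- `⋀ⁿ` of `n` vectors in a submodule spanned by `d < n` vectors vanishes. -/
theorem ιMulti_eq_zero_of_mem_span {d n : ℕ} (hdn : d < n) (v : Fin d → M)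
    (m : Fin n → M) (hm : ∀ i, m i ∈ Submodule.span R (Set.range v)) :
    exteriorPower.ιMulti R n m = 0 := by
  let N := Submodule.span R (Set.range v)
  let m' : Fin n → N := fun i => ⟨m i, hm i⟩
  have h1 : exteriorPower.ιMulti R n m = exteriorPower.map n N.subtype (exteriorPower.ιMulti R n m') := by
    rw [exteriorPower.map_apply_ιMulti]
    rfl
  have h2 : exteriorPower.ιMulti R n m ∈ LinearMap.range (exteriorPower.map n N.subtype) := by
    rw [h1]; exact LinearMap.mem_range_self _ _
  rw [exteriorPower.ιMulti_family_span] at h2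
  haveI : IsEmpty (Set.powersetCard (Fin d) n) := by
    constructor
    rintro ⟨s, hs⟩
    have h3 : s.card = n := hs
    have h4 := Finset.card_le_univ s
    rw [Fintype.card_fin] at h4
    omega
  rw [Set.range_eq_empty, Submodule.span_empty, Submodule.mem_bot] at h2
  exact h2

/-- If `s • M` is contained in a submodule spanned by `d < n` elements, `s ^ n` kills `⋀ⁿ M`. -/
theorem pow_mem_annihilator {d n : ℕ} (hdn : d < n) (v : Fin d → M) (s : R)
    (hs : ∀ x : M, s • x ∈ Submodule.span R (Set.range v)) :
    s ^ n ∈ Module.annihilator R (⋀[R]^n M) := by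
  rw [Module.mem_annihilator]
  intro x
  have hx : x ∈ Submodule.span R (Set.range (exteriorPower.ιMulti R n (M := M))) := by
    rw [exteriorPower.ιMulti_span]; trivial
  induction hx using Submodule.span_induction with
  | mem y hy =>
    obtain ⟨m, rfl⟩ := hy
    have h1 : s ^ n • exteriorPower.ιMulti R n m = exteriorPower.ιMulti R n (fun i => s • m i) := by
      rw [AlternatingMap.map_smul_univ]
      simp
    rw [h1]
    exact ιMulti_eq_zero_of_mem_span hdn v _ (fun i => hs (m i))
  | zero => exact smul_zero _
  | add y z _ _ hy hz => rw [smul_add, hy, hz, add_zero]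
  | smul a y _ hy => rw [smul_comm, hy, smul_zero]

/-- A basis of `K ⊗ M` consisting of pure tensors `1 ⊗ m`. -/
theorem exists_basis_one_tmul (K : Type*) [Field K] [Algebra R K]
    [FiniteDimensional K (K ⊗[R] M)] :
    ∃ m : Fin (Module.finrank K (K ⊗[R] M)) → M,
      LinearIndependent K (fun i => (1 : K) ⊗ₜ[R] m i) ∧
      Submodule.span K (Set.range fun i => (1 : K) ⊗ₜ[R] m i) = ⊤ := by
  classical
  let S : Set (K ⊗[R] M) := Set.range fun m : M => (1 : K) ⊗ₜ[R] m
  have hS : Submodule.span K S = ⊤ := by
    rw [eq_top_iff]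
    rintro z -
    induction z using TensorProduct.induction_on with
    | zero => exact zero_mem _
    | tmul x m =>
      have : x ⊗ₜ[R] m = x • ((1 : K) ⊗ₜ[R] m) := by
        rw [TensorProduct.smul_tmul', smul_eq_mul, mul_one]
      rw [this]
      exact Submodule.smul_mem _ _ (Submodule.subset_span ⟨m, rfl⟩)
    | add z w hz hw => exact add_mem hz hw
  obtain ⟨b, hbS, hspan, hli⟩ := exists_linearIndependent K S
  rw [hS] at hspan
  let B : Module.Basis b K (K ⊗[R] M) := Module.Basis.mk hli (by
    rw [Subtype.range_coe_subtype]; exact hspan.ge)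
  haveI : Fintype b := FiniteDimensional.fintypeBasisIndex B
  have hcard : Fintype.card b = Module.finrank K (K ⊗[R] M) :=
    (Module.finrank_eq_card_basis B).symm
  let e : Fin (Module.finrank K (K ⊗[R] M)) ≃ b := (Fintype.equivFinOfCardEq hcard).symm
  have hex : ∀ i, ∃ m : M, (1 : K) ⊗ₜ[R] m = (e i : K ⊗[R] M) := fun i => hbS (e i).2
  choose m hm using hex
  have hfun : (fun i => (1 : K) ⊗ₜ[R] m i) = (Subtype.val : b → K ⊗[R] M) ∘ e := by
    funext i; exact hm i
  refine ⟨m, ?_, ?_⟩
  · rw [hfun]
    exact hli.comp e e.injective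
  · rw [hfun, Set.range_comp, e.range_eq_univ, Set.image_univ, Subtype.range_coe_subtype]
    exact hspan

/-- **Annihilator of an exterior power and fibre dimension.** -/
theorem ann_extPower_le_iff (P : PrimeSpectrum R) [Module.Finite R M] (n : ℕ) :
    Module.annihilator R (⋀[R]^n M) ≤ P.asIdeal ↔
      n ≤ Module.finrank P.asIdeal.ResidueField (P.asIdeal.ResidueField ⊗[R] M) := by
  classical
  let K := P.asIdeal.ResidueField
  obtain ⟨m, hli, hspan⟩ := exists_basis_one_tmul (R := R) (M := M) K
  constructor
  · intro hann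
    by_contra hlt
    rw [not_le] at hlt
    let N := Submodule.span R (Set.range m)
    -- `K ⊗ (M ⧸ N) = 0`
    have hsub : Subsingleton (K ⊗[R] (M ⧸ N)) := by
      have hsurj : Function.Surjective (N.mkQ.baseChange K) :=
        LinearMap.lTensor_surjective K (Submodule.mkQ_surjective N)
      have hzero : ∀ z : K ⊗[R] M, N.mkQ.baseChange K z = 0 := by
        intro z
        have hz : z ∈ Submodule.span K (Set.range fun i => (1 : K) ⊗ₜ[R] m i) := by
          rw [hspan]; trivial
        induction hz using Submodule.span_induction with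
        | mem y hy =>
          obtain ⟨i, rfl⟩ := hy
          rw [LinearMap.baseChange_tmul]
          have : N.mkQ (m i) = 0 := by
            rw [Submodule.mkQ_apply, Submodule.Quotient.mk_eq_zero]
            exact Submodule.subset_span ⟨i, rfl⟩
          rw [this, TensorProduct.tmul_zero]
        | zero => exact map_zero _
        | add y z _ _ hy hz => rw [map_add, hy, hz, add_zero]
        | smul a y _ hy => rw [map_smul, hy, smul_zero]
      constructor
      intro a b
      obtain ⟨a', rfl⟩ := hsurj a
      obtain ⟨b', rfl⟩ := hsurj b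
      rw [hzero, hzero]
    have hsupp : P ∉ Module.support R (M ⧸ N) := by
      rw [Module.mem_support_iff_nontrivial_residueField_tensorProduct]
      exact not_nontrivial _
    rw [Module.mem_support_iff_of_finite] at hsupp
    obtain ⟨s, hs, hsP⟩ := SetLike.not_le_iff_exists.mp hsupp
    have hsM : ∀ x : M, s • x ∈ Submodule.span R (Set.range m) := by
      intro x
      have := Module.mem_annihilator.mp hs (N.mkQ x)
      rw [← map_smul, Submodule.mkQ_apply, Submodule.Quotient.mk_eq_zero] at this
      exact this
    have h1 := hann (pow_mem_annihilator hlt m s hsM)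
    exact hsP (P.2.mem_of_pow_mem _ h1)
  · intro hn
    have h1 := ann_le_ker_of_linearIndependent (R := R) (M := M) K
      (fun i : Fin n => m (Fin.castLE hn i))
      (hli.comp (Fin.castLE hn) (Fin.castLE_injective hn))
    rwa [Ideal.ker_algebraMap_residueField] at h1

/-- If `M = M' / R w`, then `dim K ⊗ M' ≤ dim K ⊗ M` iff `1 ⊗ w = 0` in `K ⊗ M'`. -/
theorem finrank_le_finrank_iff (K : Type*) [Field K] [Algebra R K]
    {M' : Type*} [AddCommGroup M'] [Module R M'] (f : M' →ₗ[R] M)
    (hf : Function.Surjective f) (w : M') (hker : LinearMap.ker f = Submodule.span R {w})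
    [FiniteDimensional K (K ⊗[R] M')] :
    Module.finrank K (K ⊗[R] M') ≤ Module.finrank K (K ⊗[R] M) ↔ (1 : K) ⊗ₜ[R] w = 0 := by
  let φ : K ⊗[R] M' →ₗ[K] K ⊗[R] M := f.baseChange K
  have hφsurj : Function.Surjective φ := LinearMap.lTensor_surjective K hf
  have hexact : Function.Exact (LinearMap.toSpanSingleton R M' w) f := by
    rw [LinearMap.exact_iff, hker, LinearMap.span_singleton_eq_range]
  have hexact' := lTensor_exact K hexact hf
  have hkerφ : LinearMap.ker φ = Submodule.span K {(1 : K) ⊗ₜ[R] w} := by
    apply le_antisymm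
    · intro z hz
      have hz' : (LinearMap.lTensor K f) z = 0 := hz
      obtain ⟨y, rfl⟩ := (hexact' z).mp hz'
      clear hz hz'
      induction y using TensorProduct.induction_on with
      | zero => rw [map_zero]; exact zero_mem _
      | tmul x r =>
        rw [LinearMap.lTensor_tmul, LinearMap.toSpanSingleton_apply]
        have : x ⊗ₜ[R] (r • w) = (r • x) • ((1 : K) ⊗ₜ[R] w) := by
          rw [TensorProduct.smul_tmul', smul_eq_mul, mul_one, TensorProduct.smul_tmul]
        rw [this]
        exact Submodule.smul_mem _ _ (Submodule.mem_span_singleton_self _)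
      | add y z hy hz => rw [map_add]; exact add_mem hy hz
    · rw [Submodule.span_le, Set.singleton_subset_iff, SetLike.mem_coe, LinearMap.mem_ker]
      show f.baseChange K ((1 : K) ⊗ₜ[R] w) = 0
      rw [LinearMap.baseChange_tmul]
      have : f w = 0 := by
        rw [← LinearMap.mem_ker, hker]; exact Submodule.mem_span_singleton_self w
      rw [this, TensorProduct.tmul_zero]
  have hrn := LinearMap.finrank_range_add_finrank_ker φ
  rw [LinearMap.range_eq_top.mpr hφsurj, finrank_top, hkerφ] at hrn
  constructor
  · intro hle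
    by_contra hne
    rw [finrank_span_singleton hne] at hrn
    omega
  · intro h0
    rw [h0, Submodule.span_zero_singleton, finrank_bot] at hrn
    omega

end Groth.Agent.H94.ExtPowerAnn
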