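import Mathlib
import Groth.Agent.H94.GlobalJac

/-!
# Universe-polymorphic version of `GlobalJac.isSmoothAt_iff`
-/

set_option autoImplicit false

namespace Groth.Agent.H94.GlobalJacU

open TensorProduct KaehlerDifferential IsLocalRing Groth.Agent.H94.GlobalJac

section Main

variable (R : Type*) {A : Type*} [CommRing R] [CommRing A] [Algebra R A] (J : Ideal A)
  (P : Ideal (A ⧸ J)) [P.IsPrime]

/-- **Global form of the local Jacobian criterion.** -/
theorem isSmoothAt_iff (hJ : J.FG) [Module.Finite A Ω[A⁄R]]
    [Algebra.IsSmoothAt R (P.comap (Ideal.Quotient.mk J))]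
    (K : Type*) [Field K] [Algebra (A ⧸ J) K] [Algebra A K] [IsScalarTower A (A ⧸ J) K]
    (hK : RingHom.ker (algebraMap (A ⧸ J) K) = P) :
    Algebra.IsSmoothAt R P ↔
      Function.Injective (cotangentComplexBaseChange R (A ⧸ J) A K) := by
  let Aq := Localization.AtPrime (P.comap (Ideal.Quotient.mk J))
  let S := Localization.AtPrime P
  letI alg1 : Algebra Aq S :=
    (Localization.localRingHom (P.comap (Ideal.Quotient.mk J)) P (Ideal.Quotient.mk J) rfl).toAlgebra
  haveI tw1 : IsScalarTower A Aq S := IsScalarTower.of_algebraMap_eq fun a => by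
    show _ = Localization.localRingHom (P.comap (Ideal.Quotient.mk J)) P (Ideal.Quotient.mk J) rfl
      (algebraMap A Aq a)
    rw [Localization.localRingHom_to_map]
    rfl
  haveI tw2 : IsScalarTower R Aq S := IsScalarTower.of_algebraMap_eq fun r => by
    rw [IsScalarTower.algebraMap_apply R A S, IsScalarTower.algebraMap_apply R A Aq,
      ← IsScalarTower.algebraMap_apply A Aq S]
  have hunit : ∀ y : P.primeCompl, IsUnit (algebraMap (A ⧸ J) K y) := fun y => by
    rw [isUnit_iff_ne_zero, ne_eq, ← RingHom.mem_ker, hK]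
    exact y.2
  letI alg2 : Algebra S K := (IsLocalization.lift (M := P.primeCompl) hunit).toAlgebra
  haveI tw3 : IsScalarTower (A ⧸ J) S K := IsScalarTower.of_algebraMap_eq fun x => by
    show _ = IsLocalization.lift hunit (algebraMap (A ⧸ J) S x)
    rw [IsLocalization.lift_eq]
  letI alg3 : Algebra Aq K := ((algebraMap S K).comp (algebraMap Aq S)).toAlgebra
  haveI tw4 : IsScalarTower Aq S K := IsScalarTower.of_algebraMap_eq' rfl
  haveI tw5 : IsScalarTower A Aq K := IsScalarTower.of_algebraMap_eq fun a => by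
    show _ = algebraMap S K (algebraMap Aq S (algebraMap A Aq a))
    rw [← IsScalarTower.algebraMap_apply A Aq S, IsScalarTower.algebraMap_apply A (A ⧸ J) S,
      ← IsScalarTower.algebraMap_apply (A ⧸ J) S K, ← IsScalarTower.algebraMap_apply A (A ⧸ J) K]
  have h₁ : Function.Surjective (algebraMap Aq S) :=
    RingHom.surjective_localRingHom_of_surjective _ Ideal.Quotient.mk_surjective P
  have hT : Submonoid.map (Ideal.Quotient.mk J) (P.comap (Ideal.Quotient.mk J)).primeCompl =
      P.primeCompl := Submonoid.map_comap_eq_of_surjective Ideal.Quotient.mk_surjective P.primeCompl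
  have hker : RingHom.ker (algebraMap Aq S) =
      (RingHom.ker (algebraMap A (A ⧸ J))).map (algebraMap A Aq) :=
    IsLocalization.ker_map (S := Aq) S (Ideal.Quotient.mk J) hT
  have h₂ : (RingHom.ker (algebraMap Aq S)).FG := by
    rw [hker]
    refine Ideal.FG.map ?_ _
    rwa [Ideal.Quotient.algebraMap_eq, Ideal.mk_ker]
  have h₃ : maximalIdeal S ≤ RingHom.ker (algebraMap S K) := by
    intro x hx
    obtain ⟨a, s, rfl⟩ := IsLocalization.exists_mk'_eq P.primeCompl x
    rw [IsLocalization.AtPrime.mk'_mem_maximal_iff S P] at hx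
    rw [RingHom.mem_ker]
    show IsLocalization.lift hunit (IsLocalization.mk' S a s) = 0
    rw [IsLocalization.lift_mk']
    have : algebraMap (A ⧸ J) K a = 0 := by
      rw [← RingHom.mem_ker, hK]
      exact hx
    simp [this]
  haveI : Algebra.FormallySmooth R Aq := ‹Algebra.IsSmoothAt R _›
  haveI : Algebra.FormallyEtale A Aq :=
    Algebra.FormallyEtale.of_isLocalization (P.comap (Ideal.Quotient.mk J)).primeCompl
  haveI : Module.Finite Aq Ω[Aq⁄R] :=
    Module.Finite.equiv (tensorKaehlerEquivOfFormallyEtale R A Aq)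
  haveI : Module.Free Aq Ω[Aq⁄R] := Module.free_of_flat_of_isLocalRing
  show Algebra.FormallySmooth R S ↔ _
  rw [Algebra.FormallySmooth.iff_injective_cotangentComplexBaseChange Aq K h₁ h₂ h₃]
  exact injective_iff R (P.comap (Ideal.Quotient.mk J)).primeCompl Aq (A ⧸ J) S hker K

end Main

end Groth.Agent.H94.GlobalJacU
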