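import Mathlib
import Groth.Agent.H94.GlobalJac

/-!
# Jacobian criterion for a hypersurface, general residue field and abstract quotient

* `isSmoothAt_iff_field` : as `Hypersurface.isSmoothAt_iff`, with any field `K` over `A` whose
  kernel is the prime `q`.
* `isSmoothAt_iff_of_algEquiv` : smoothness at a prime is invariant under algebra isomorphisms.
* `isSmoothAt_iff_of_surjective` : the criterion for `B → R` surjective with kernel `(g)`.
-/

set_option autoImplicit false

universe u

namespace Groth.Agent.H94.Hypersurface2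

open TensorProduct KaehlerDifferential

section Field

variable (R : Type u) {A : Type u} [CommRing R] [CommRing A] [Algebra R A]

/-- if `F ≠ 0` in `A_q` then `1 ⊗ F ≠ 0` in `K ⊗_A (F)` for a field `K` with `ker (A → K) = q` -/
theorem one_tmul_ne_zero (F : A) (q : Ideal A) [q.IsPrime] (K : Type*) [Field K] [Algebra A K]
    (hKq : RingHom.ker (algebraMap A K) = q) (J' : Ideal A)
    (hJ' : J' = Ideal.span {F}) (hF : algebraMap A (Localization.AtPrime q) F ≠ 0) :
    (1 : K) ⊗ₜ[A] (⟨F, hJ' ▸ Ideal.mem_span_singleton_self F⟩ : J') ≠ 0 := by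
  subst hJ'
  let g : A →ₗ[A] A := LinearMap.toSpanSingleton A A F
  have hann : ∀ a : A, a * F = 0 → a ∈ q := by
    intro a ha
    by_contra hq
    apply hF
    have h1 : algebraMap A (Localization.AtPrime q) a * algebraMap A (Localization.AtPrime q) F = 0 := by
      rw [← map_mul, ha, map_zero]
    have h2 : IsUnit (algebraMap A (Localization.AtPrime q) a) :=
      IsLocalization.map_units (Localization.AtPrime q) (⟨a, hq⟩ : q.primeCompl)
    exact (h2.mul_right_eq_zero).mp h1
  have hrange : LinearMap.range g = Ideal.span {F} := by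
    ext x
    rw [LinearMap.mem_range, Ideal.mem_span_singleton']
    rfl
  let e : (A ⧸ LinearMap.ker g) ≃ₗ[A] Ideal.span {F} :=
    g.quotKerEquivRange ≪≫ₗ LinearEquiv.ofEq _ _ hrange
  let μ : (A ⧸ LinearMap.ker g) →ₗ[A] K :=
    Submodule.liftQ _ (Algebra.linearMap A K) (by
      intro a ha
      rw [LinearMap.mem_ker] at ha ⊢
      have : a * F = 0 := ha
      rw [Algebra.linearMap_apply, ← RingHom.mem_ker, hKq]
      exact hann a this)
  let lam : Ideal.span {F} →ₗ[A] K := μ ∘ₗ e.symm.toLinearMap
  have he : e (Submodule.Quotient.mk 1) = ⟨F, Ideal.mem_span_singleton_self F⟩ := by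
    apply Subtype.ext
    show g 1 = F
    simp [g]
  have hlam : lam ⟨F, Ideal.mem_span_singleton_self F⟩ = 1 := by
    show μ (e.symm _) = 1
    rw [← he, LinearEquiv.symm_apply_apply]
    show algebraMap A K 1 = 1
    exact map_one _
  let Lam : K ⊗[A] Ideal.span {F} →ₗ[K] K := lam.liftBaseChange K
  intro h0
  have h1 : Lam ((1 : K) ⊗ₜ[A] ⟨F, Ideal.mem_span_singleton_self F⟩) = 1 := by
    rw [LinearMap.liftBaseChange_tmul, hlam, one_smul]
  rw [h0, map_zero] at h1
  exact zero_ne_one h1

theorem isSmoothAt_iff_field (F : A) (J : Ideal A) (hJdef : J = Ideal.span {F})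
    (P : Ideal (A ⧸ J)) [P.IsPrime] [Module.Finite A Ω[A⁄R]]
    (q : Ideal A) [q.IsPrime] (hq : q = P.comap (Ideal.Quotient.mk J))
    [Algebra.IsSmoothAt R q] (K : Type*) [Field K] [Algebra A K]
    (hKq : RingHom.ker (algebraMap A K) = q) :
    Algebra.IsSmoothAt R P ↔
      algebraMap A (Localization.AtPrime q) F = 0 ∨
      (1 : K) ⊗ₜ[A] KaehlerDifferential.D R A F ≠ 0 := by
  haveI hsm' : Algebra.IsSmoothAt R (P.comap (Ideal.Quotient.mk J)) := by
    subst hq; infer_instance
  have hJK : ∀ a ∈ J, algebraMap A K a = 0 := fun a ha => by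
    rw [← RingHom.mem_ker, hKq, hq]
    show Ideal.Quotient.mk J a ∈ P
    rw [Ideal.Quotient.eq_zero_iff_mem.mpr ha]
    exact P.zero_mem
  letI algK : Algebra (A ⧸ J) K := (Ideal.Quotient.lift J (algebraMap A K) hJK).toAlgebra
  haveI : IsScalarTower A (A ⧸ J) K := IsScalarTower.of_algebraMap_eq fun a => rfl
  have hK : RingHom.ker (algebraMap (A ⧸ J) K) = P := by
    ext x
    obtain ⟨a, rfl⟩ := Ideal.Quotient.mk_surjective x
    rw [RingHom.mem_ker]
    show algebraMap A K a = 0 ↔ _
    rw [← RingHom.mem_ker, hKq, hq]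
    rfl
  rw [GlobalJac.isSmoothAt_iff R J P ⟨{F}, by simp [hJdef]⟩ K hK]
  have hJ' : RingHom.ker (algebraMap A (A ⧸ J)) = Ideal.span {F} := by
    rw [← hJdef]; exact Ideal.mk_ker
  let FJ : RingHom.ker (algebraMap A (A ⧸ J)) := ⟨F, hJ' ▸ Ideal.mem_span_singleton_self F⟩
  have hspan : ∀ z : K ⊗[A] RingHom.ker (algebraMap A (A ⧸ J)), ∃ x : K, z = x ⊗ₜ FJ := by
    intro z
    induction z using TensorProduct.induction_on with
    | zero => exact ⟨0, (TensorProduct.zero_tmul _ _).symm⟩
    | tmul x j =>
      have hj : (j : A) ∈ Ideal.span {F} := hJ' ▸ j.2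
      obtain ⟨a, ha⟩ := Ideal.mem_span_singleton'.mp hj
      refine ⟨a • x, ?_⟩
      rw [TensorProduct.smul_tmul]
      congr 1
      apply Subtype.ext
      show (j : A) = a • F
      rw [smul_eq_mul, ha]
    | add z w hz hw =>
      obtain ⟨x, rfl⟩ := hz
      obtain ⟨y, rfl⟩ := hw
      exact ⟨x + y, (TensorProduct.add_tmul _ _ _).symm⟩
  have hΦ : ∀ x : K, cotangentComplexBaseChange R (A ⧸ J) A K (x ⊗ₜ FJ) =
      x • ((1 : K) ⊗ₜ[A] D R A F) := by
    intro x
    rw [cotangentComplexBaseChange_tmul, kerToTensor_apply]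
  constructor
  · intro hinj
    by_cases hd : (1 : K) ⊗ₜ[A] D R A F = 0
    · left
      by_contra hF
      have h1 := one_tmul_ne_zero F q K hKq _ hJ' hF
      apply h1
      apply hinj
      rw [map_zero]
      have := hΦ 1
      rw [one_smul, hd] at this
      exact this
    · right
      exact hd
  · rintro (hF | hd)
    · have hzero : ∀ z : K ⊗[A] RingHom.ker (algebraMap A (A ⧸ J)), z = 0 := by
        intro z
        obtain ⟨x, rfl⟩ := hspan z
        obtain ⟨s, hs⟩ := (IsLocalization.map_eq_zero_iff q.primeCompl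
          (Localization.AtPrime q) F).mp hF
        have hsu : algebraMap A K s ≠ 0 := by
          rw [ne_eq, ← RingHom.mem_ker, hKq]
          exact s.2
        have hx : x = (s : A) • ((algebraMap A K s)⁻¹ * x) := by
          rw [Algebra.smul_def, ← mul_assoc, mul_inv_cancel₀ hsu, one_mul]
        rw [hx, TensorProduct.smul_tmul]
        have : (s : A) • FJ = 0 := by
          apply Subtype.ext
          show (s : A) • F = 0
          rw [smul_eq_mul]
          exact hs
        rw [this, TensorProduct.tmul_zero]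
      intro a b _
      rw [hzero a, hzero b]
    · intro a b hab
      obtain ⟨x, rfl⟩ := hspan a
      obtain ⟨y, rfl⟩ := hspan b
      rw [hΦ, hΦ] at hab
      have h2 : (x - y) • ((1 : K) ⊗ₜ[A] D R A F) = 0 := by
        have h4 := sub_smul x y ((1 : K) ⊗ₜ[A] D R A F)
        rw [hab, sub_self] at h4
        exact h4
      rcases smul_eq_zero.mp h2 with h3 | h3
      · rw [sub_eq_zero.mp h3]
      · exact absurd h3 hd

end Field

section Transport

variable {A : Type*} [CommRing A] {R R' : Type*} [CommRing R] [CommRing R'] [Algebra A R]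
  [Algebra A R']

/-- smoothness at a prime is invariant under algebra isomorphisms -/
theorem isSmoothAt_of_algEquiv (e : R' ≃ₐ[A] R) (P : Ideal R) [P.IsPrime]
    (P' : Ideal R') [P'.IsPrime] (h : P' = P.comap (e : R' →+* R))
    (hs : Algebra.IsSmoothAt A P') : Algebra.IsSmoothAt A P := by
  have H : Submonoid.map e P'.primeCompl = P.primeCompl := by
    ext x
    constructor
    · rintro ⟨y, hy, rfl⟩
      intro hx
      apply hy
      rw [h]
      exact hx
    · intro hx
      refine ⟨e.symm x, ?_, by simp⟩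
      intro hy
      apply hx
      rw [h] at hy
      have : e (e.symm x) ∈ P := hy
      simpa using this
  let E : Localization.AtPrime P' ≃ₐ[A] Localization.AtPrime P :=
    IsLocalization.algEquivOfAlgEquiv (Localization.AtPrime P') (Localization.AtPrime P) e H
  haveI : Algebra.FormallySmooth A (Localization.AtPrime P') := hs
  exact Algebra.FormallySmooth.of_equiv E

theorem isSmoothAt_iff_of_algEquiv (e : R' ≃ₐ[A] R) (P : Ideal R) [P.IsPrime]
    (P' : Ideal R') [P'.IsPrime] (h : P' = P.comap (e : R' →+* R)) :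
    Algebra.IsSmoothAt A P' ↔ Algebra.IsSmoothAt A P := by
  refine ⟨isSmoothAt_of_algEquiv e P P' h, isSmoothAt_of_algEquiv e.symm P' P ?_⟩
  rw [h]
  ext x
  simp [Ideal.mem_comap]

end Transport

section Abstract

variable (A : Type u) {B R : Type u} [CommRing A] [CommRing B] [CommRing R]
  [Algebra A B] [Algebra B R] [Algebra A R] [IsScalarTower A B R]

/-- **Jacobian criterion for a hypersurface `R = B/(g)`**, given as a surjection `B → R` with
kernel `(g)`. -/
theorem isSmoothAt_iff_of_surjective (g : B) (hsurj : Function.Surjective (algebraMap B R))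
    (hker : RingHom.ker (algebraMap B R) = Ideal.span {g}) (P : Ideal R) [P.IsPrime]
    [Module.Finite B Ω[B⁄A]] (q : Ideal B) [q.IsPrime] (hq : q = P.comap (algebraMap B R))
    [Algebra.IsSmoothAt A q] (K : Type*) [Field K] [Algebra B K]
    (hKq : RingHom.ker (algebraMap B K) = q) :
    Algebra.IsSmoothAt A P ↔
      algebraMap B (Localization.AtPrime q) g = 0 ∨
      (1 : K) ⊗ₜ[B] KaehlerDifferential.D A B g ≠ 0 := by
  let f : B →ₐ[A] R := IsScalarTower.toAlgHom A B R
  have hf : Function.Surjective f := hsurj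
  have hkerf : RingHom.ker f = Ideal.span {g} := hker
  let e : (B ⧸ Ideal.span {g}) ≃ₐ[A] R :=
    (Ideal.quotientEquivAlgOfEq A hkerf.symm).trans (Ideal.quotientKerAlgEquivOfSurjective hf)
  have he : ∀ b : B, e (Ideal.Quotient.mk _ b) = algebraMap B R b := fun b => rfl
  let P' : Ideal (B ⧸ Ideal.span {g}) := P.comap (e : (B ⧸ Ideal.span {g}) →+* R)
  haveI : P'.IsPrime := Ideal.comap_isPrime _ _
  have hq' : q = P'.comap (Ideal.Quotient.mk (Ideal.span {g})) := by
    rw [hq]
    ext b
    rfl
  exact (isSmoothAt_iff_of_algEquiv e P P' rfl).symm.trans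
    (isSmoothAt_iff_field A g _ rfl P' q hq' K hKq)

end Abstract

end Groth.Agent.H94.Hypersurface2
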