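import Mathlib
import Groth.Agent.H94.KoszulBC
import Groth.Agent.H94.KoszulFC

/-!
# From Koszul-regularity after base change to regularity in the fibre (helper94)

`R → P` flat of finite type, `I ⊆ P` with `P ⧸ I` flat, `R → R'` arbitrary, `Q'` a prime of
`R' ⊗[R] P` over `p' ⊆ R'` over `p ⊆ R`.  If `I (R' ⊗ P)` is Koszul-regular at `Q'`, then there is a
prime `Q̄` of the fibre `κ(p) ⊗[R] P` with the same trace on `P` as `Q'` such that the image of `I`
in the local ring of the fibre at `Q̄` is generated by a regular sequence.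
-/

set_option autoImplicit false
set_option linter.unusedSectionVars false
set_option linter.style.haveILetI false
universe u

namespace Groth.Agent.H94.KoszulFibre

open RingTheory.Sequence IsLocalRing TensorProduct Groth.Agent.H94.KAt Groth.Agent.H94.RegDescent
  Groth.Agent.H94.FibLoc Groth.Agent.H94.KoszulFC Groth.Agent.H94.KoszulBC

/-- a prime of `S` over `p` comes from a prime of the fibre ring. -/
theorem exists_prime_fiber {R S : Type u} [CommRing R] [CommRing S] [Algebra R S]
    (p : Ideal R) [p.IsPrime] (q : Ideal S) [q.IsPrime] [q.LiesOver p] :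
    ∃ (Q₁ : Ideal (p.Fiber S)) (_ : Q₁.IsPrime), Q₁.comap (inc (S := S) p) = q := by
  let x : p.primesOver S := ⟨q, ⟨inferInstance, inferInstance⟩⟩
  let y := PrimeSpectrum.primesOverOrderIsoFiber R S p x
  refine ⟨y.asIdeal, y.2, ?_⟩
  have h1 : (PrimeSpectrum.primesOverOrderIsoFiber R S p).symm y = x :=
    OrderIso.symm_apply_apply _ x
  have h2 := PrimeSpectrum.coe_primesOverOrderIsoFiber_symm_apply p y
  rw [h1] at h2
  exact h2.symm

variable {R R' P : Type u} [CommRing R] [CommRing R'] [CommRing P] [Algebra R R'] [Algebra R P]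

/-- the ring map `P → R' ⊗[R] P`. -/
noncomputable abbrev incR : P →+* R' ⊗[R] P :=
  (Algebra.TensorProduct.includeRight : P →ₐ[R] R' ⊗[R] P).toRingHom

instance flat_quotient_map (I : Ideal P) [Module.Flat R (P ⧸ I)] :
    Module.Flat R' ((R' ⊗[R] P) ⧸ I.map (incR (R := R) (R' := R') (P := P))) := by
  have e := Algebra.TensorProduct.tensorQuotientEquiv (R := R) R' P R' I
  have h : I.map (Algebra.TensorProduct.includeRight (R := R) (A := R') (B := P)) =
      I.map (incR (R := R) (R' := R') (P := P)) := rfl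
  rw [← h]
  exact Module.Flat.of_linearEquiv e.symm.toLinearEquiv

theorem fibre_regular_of_kAt [Module.Flat R P] [Algebra.FiniteType R P] (I : Ideal P)
    [Module.Flat R (P ⧸ I)]
    (Q' : Ideal (R' ⊗[R] P)) [Q'.IsPrime] (p' : Ideal R') [p'.IsPrime] [Q'.LiesOver p']
    (p : Ideal R) [p.IsPrime] [p'.LiesOver p]
    (hIQ : I ≤ Q'.comap (incR (R := R) (R' := R') (P := P)))
    (h : KAt (I.map (incR (R := R) (R' := R') (P := P))) Q') :
    ∃ (Q : Ideal (p.Fiber P)) (_ : Q.IsPrime),
      Q.comap (inc (S := P) p) = Q'.comap (incR (R := R) (R' := R') (P := P)) ∧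
      ∃ rs : List (Localization.AtPrime Q), IsRegular (Localization.AtPrime Q) rs ∧
        I.map ((algebraMap (p.Fiber P) (Localization.AtPrime Q)).comp (inc (S := P) p)) =
          Ideal.ofList rs := by
  classical
  -- Step a: base change to the residue field of `p'`
  obtain ⟨Q₁, hQ₁prime, hQ₁⟩ := exists_prime_fiber p' Q'
  haveI := hQ₁prime
  have h1 : KAt ((I.map (incR (R := R) (R' := R') (P := P))).map (inc (S := R' ⊗[R] P) p')) Q₁ :=
    kAt_baseChange (R := R') (R' := p'.ResidueField) (P := R' ⊗[R] P)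
      (I.map (incR (R := R) (R' := R') (P := P))) Q₁ (by
        have : Q₁.comap (Algebra.TensorProduct.includeRight :
            R' ⊗[R] P →ₐ[R'] p'.ResidueField ⊗[R'] (R' ⊗[R] P)).toRingHom = Q' := hQ₁
        rw [this]
        exact h)
  -- Step b: cancel the base change
  let e₁ : p'.ResidueField ⊗[R'] (R' ⊗[R] P) ≃ₐ[R'] p'.ResidueField ⊗[R] P :=
    Algebra.TensorProduct.cancelBaseChange R R' R' p'.ResidueField P
  let incT : P →+* p'.ResidueField ⊗[R] P :=
    (Algebra.TensorProduct.includeRight : P →ₐ[R] p'.ResidueField ⊗[R] P).toRingHom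
  have he₁ : (e₁.symm.toRingEquiv.toRingHom).comp incT =
      (inc (S := R' ⊗[R] P) p').comp (incR (R := R) (R' := R') (P := P)) := by
    ext x
    show e₁.symm ((1 : p'.ResidueField) ⊗ₜ[R] x) = _
    rw [Algebra.TensorProduct.cancelBaseChange_symm_tmul]
    rfl
  let Q₂ : Ideal (p'.ResidueField ⊗[R] P) := Q₁.comap e₁.symm.toRingEquiv.toRingHom
  haveI : Q₂.IsPrime := Ideal.IsPrime.comap _
  have h2 : KAt (I.map incT) Q₂ := by
    rw [← kAt_ringEquiv_iff e₁.symm.toRingEquiv (I.map incT) Q₁, Ideal.map_map, he₁,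
      ← Ideal.map_map]
    exact h1
  -- Step c: the flat map from the fibre over `p`
  have hpp' : p = p'.comap (Algebra.ofId R R').toRingHom := Ideal.over_def p' p
  let κ : p.ResidueField →ₐ[R] p'.ResidueField :=
    Ideal.ResidueField.mapₐ p p' (Algebra.ofId R R') hpp'
  let φA : p.Fiber P →ₐ[R] p'.ResidueField ⊗[R] P :=
    Algebra.TensorProduct.map κ (AlgHom.id R P)
  let φ : p.Fiber P →+* p'.ResidueField ⊗[R] P := φA.toRingHom
  have hφ : φ.Flat := by
    have hκ : κ.toRingHom.Flat :=
      RingHom.Flat.of_isField (Field.toIsField p.ResidueField) κ.toRingHom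
    exact RingHom.Flat.tensorProductMap (R := R) (S := R) hκ (RingHom.Flat.id P)
  have hφinc : φ.comp (inc (S := P) p) = incT := by
    ext x
    show φA ((1 : p.ResidueField) ⊗ₜ[R] x) = (1 : p'.ResidueField) ⊗ₜ[R] x
    rw [Algebra.TensorProduct.map_tmul, map_one]
    rfl
  let Q : Ideal (p.Fiber P) := Q₂.comap φ
  haveI : Q.IsPrime := Ideal.IsPrime.comap _
  have hQ : Q.comap (inc (S := P) p) = Q'.comap (incR (R := R) (R' := R') (P := P)) := by
    show (Q₂.comap φ).comap (inc (S := P) p) = _
    rw [Ideal.comap_comap, hφinc]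
    show (Q₁.comap e₁.symm.toRingEquiv.toRingHom).comap incT = _
    rw [Ideal.comap_comap, he₁, ← Ideal.comap_comap, hQ₁]
  refine ⟨Q, inferInstance, hQ, ?_⟩
  -- Step d: descent along the local homomorphism of the fibre local rings
  obtain ⟨ρ, hρflat, hρsurj, hρ, hρinj⟩ := exists_localHom φ hφ Q₂ Q rfl
  obtain ⟨g, hg, l, hl, hIl⟩ := h2
  obtain ⟨θ, hθflat, hθ⟩ := exists_away_to_atPrime g Q₂ hg
  let ψ : P →+* Localization.AtPrime Q₂ :=
    (algebraMap (p'.ResidueField ⊗[R] P) (Localization.AtPrime Q₂)).comp incT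
  let ψ' : P →+* Localization.AtPrime Q :=
    (algebraMap (p.Fiber P) (Localization.AtPrime Q)).comp (inc (S := P) p)
  have hψψ' : ρ.comp ψ' = ψ := by
    show ρ.comp ((algebraMap (p.Fiber P) (Localization.AtPrime Q)).comp (inc (S := P) p)) = _
    rw [← RingHom.comp_assoc, hρ, RingHom.comp_assoc, hφinc]
  have hl₂ : LCI.IsKoszulRegularSeq (Localization.AtPrime Q₂) (l.map θ) :=
    descOK_koszul.flat θ hθflat l hl
  have hIψ : I.map ψ = Ideal.ofList (l.map θ) := by
    rw [← Ideal.map_ofList, ← hIl, Ideal.map_map, hθ, Ideal.map_map]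
  have hIQ₂ : I ≤ Q₂.comap incT := by
    have : Q₂.comap incT = Q'.comap (incR (R := R) (R' := R') (P := P)) := by
      rw [← hQ]
      show Q₂.comap incT = (Q₂.comap φ).comap (inc (S := P) p)
      rw [Ideal.comap_comap (inc (S := P) p) φ, hφinc]
    rw [this]
    exact hIQ
  have hne : I.map ψ ≠ ⊤ := by
    intro htop
    have h1 : I.map ψ ≤ maximalIdeal (Localization.AtPrime Q₂) := by
      rw [Ideal.map_le_iff_le_comap]
      intro x hx
      rw [Ideal.mem_comap]
      exact (IsLocalization.AtPrime.to_map_mem_maximal_iff _ Q₂ _).mpr (hIQ₂ hx)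
    rw [htop] at h1
    exact (IsLocalRing.maximalIdeal.isMaximal _).ne_top (top_le_iff.mp h1)
  obtain ⟨f, hfI, hflen, hfgen⟩ := exists_list_of_map ψ I (l.map θ) hIψ
  have hab : Ideal.ofList (l.map θ) = Ideal.ofList (f.map ψ) := by rw [hfgen, hIψ]
  have hlen : (l.map θ).length = (f.map ψ).length := by
    apply le_antisymm (descOK_koszul.len _ _ hl₂ hab (by rw [← hIψ]; exact hne))
    rw [List.length_map]
    exact hflen
  have hfψ : LCI.IsKoszulRegularSeq (Localization.AtPrime Q₂) (f.map ψ) :=
    descOK_koszul.swap _ _ hl₂ hab hlen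
  have hfψ' : LCI.IsKoszulRegularSeq (Localization.AtPrime Q) (f.map ψ') := by
    apply descOK_koszul.desc ρ hρflat hρsurj
    rw [List.map_map]
    have : (ρ : Localization.AtPrime Q → Localization.AtPrime Q₂) ∘ ψ' = ψ := by
      funext x
      exact congrArg (fun χ : P →+* Localization.AtPrime Q₂ => χ x) hψψ'
    rw [this]
    exact hfψ
  have hgen' : Ideal.ofList (f.map ψ') = I.map ψ' := by
    apply hρinj
    rw [Ideal.map_ofList, List.map_map, Ideal.map_map, hψψ']
    have : (ρ : Localization.AtPrime Q → Localization.AtPrime Q₂) ∘ ψ' = ψ := by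
      funext x
      exact congrArg (fun χ : P →+* Localization.AtPrime Q₂ => χ x) hψψ'
    rw [this]
    exact hfgen
  haveI : Algebra.FiniteType p.ResidueField (p.Fiber P) := inferInstance
  haveI : IsNoetherianRing (p.Fiber P) :=
    Algebra.FiniteType.isNoetherianRing p.ResidueField (p.Fiber P)
  haveI : IsNoetherianRing (Localization.AtPrime Q) :=
    IsLocalization.isNoetherianRing Q.primeCompl _ inferInstance
  have hne' : Ideal.ofList (f.map ψ') ≠ ⊤ := by
    rw [hgen']
    intro htop
    apply hne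
    rw [← hψψ', ← Ideal.map_map, htop, Ideal.map_top]
  exact ⟨f.map ψ', isRegular_of_koszul _ hfψ' hne', hgen'.symm⟩

end Groth.Agent.H94.KoszulFibre
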