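import Mathlib
import Groth.Agent.H94.KoszulFibre

/-!
# Koszul-regularity at a prime commutes with arbitrary base change (helper94)

`R → P` flat of finite presentation, `I ⊆ P` finitely generated with `P ⧸ I` flat over `R`,
`R → R'` arbitrary.  For a prime `Q'` of `R' ⊗[R] P` over `Q ⊆ P`: `I (R' ⊗ P)` is Koszul-regular
at `Q'` iff `I` is Koszul-regular at `Q`.
-/

set_option autoImplicit false
set_option linter.unusedSectionVars false
set_option linter.style.haveILetI false
universe u

namespace Groth.Agent.H94.KoszulIff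

open TensorProduct Groth.Agent.H94.KAt Groth.Agent.H94.KoszulFibre Groth.Agent.H94.KoszulFC
  Groth.Agent.H94.KoszulBC Groth.Agent.H49.FlatApprox

variable {R R' P : Type u} [CommRing R] [CommRing R'] [CommRing P] [Algebra R R'] [Algebra R P]

theorem kAt_baseChange_iff (H : Hyp4848.{u}) [Algebra.FinitePresentation R P] [Module.Flat R P]
    (I : Ideal P) (hIfg : I.FG) [Module.Flat R (P ⧸ I)]
    (Q' : Ideal (R' ⊗[R] P)) [Q'.IsPrime] :
    KAt (I.map (incR (R := R) (R' := R') (P := P))) Q' ↔
      KAt I (Q'.comap (incR (R := R) (R' := R') (P := P))) := by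
  constructor
  · intro h
    by_cases hIQ : I ≤ Q'.comap (incR (R := R) (R' := R') (P := P))
    · obtain ⟨Q, hQprime, hQ, hrs⟩ :=
        fibre_regular_of_kAt I Q' (Q'.under R') ((Q'.under R').under R) hIQ h
      haveI := hQprime
      have h1 := kAt_of_fibre_regular H R P ((Q'.under R').under R) Q I (by rw [hQ]; exact hIQ)
        hIfg hrs
      rwa [hQ] at h1
    · exact kAt_of_not_le I _ hIQ
  · intro h
    exact kAt_baseChange I Q' h

end Groth.Agent.H94.KoszulIff
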