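import Mathlib
import Groth.Agent.H94.KoszulIff

/-!
# The lci locus of a map of flat finitely presented algebras commutes with base change (helper94)

`A → B` a map of flat, finitely presented `R`-algebras; `R → R'` arbitrary.  For a prime `q'` of
`R' ⊗[R] B` over `q ⊆ B`: some `(R' ⊗ B)_{b'}`, `b' ∉ q'`, is lci over `R' ⊗ A` iff some `B_b`,
`b ∉ q`, is lci over `A`.
-/

set_option autoImplicit false
set_option linter.unusedSectionVars false
set_option linter.style.haveILetI false
universe u

namespace Groth.Agent.H94.LciBC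

open TensorProduct Groth.Agent.H94.KAt Groth.Agent.H94.KoszulFibre Groth.Agent.H94.KoszulIff
  Groth.Agent.H49.FlatApprox Groth.Agent.H39.LCIMor

/-- `φ : A → B` is lci on a principal open neighbourhood of the prime `q` of `B`. -/
def LciAt {A B : Type u} [CommRing A] [CommRing B] (φ : A →+* B) (q : Ideal B) : Prop :=
  ∃ b : B, b ∉ q ∧ IsLCIHom ((algebraMap B (Localization.Away b)).comp φ)

/-- the lci dictionary for ring homomorphisms. -/
theorem kAt_ker_iff_lciAt {A B : Type u} [CommRing A] [CommRing B] (φ : A →+* B) (n : ℕ)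
    (π : MvPolynomial (Fin n) A →+* B) (hπ : Function.Surjective π)
    (hπC : π.comp MvPolynomial.C = φ) (q : Ideal B) [q.IsPrime] :
    KAt (RingHom.ker π) (q.comap π) ↔ LciAt φ q := by
  letI := φ.toAlgebra
  let πA : MvPolynomial (Fin n) A →ₐ[A] B :=
    { π with commutes' := fun a => congrArg (fun χ : A →+* B => χ a) hπC }
  have h := kAt_ker_iff_exists_isLCI n πA hπ q
  have h1 : RingHom.ker πA.toRingHom = RingHom.ker π := rfl
  have h2 : q.comap πA.toRingHom = q.comap π := rfl
  rw [h1, h2] at h
  rw [h]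
  unfold LciAt
  refine exists_congr fun b => and_congr Iff.rfl ?_
  exact isLCIHom_iff_of_algebraMap_eq _ (IsScalarTower.algebraMap_eq A B (Localization.Away b))

section tensor

variable {R R' A B : Type u} [CommRing R] [CommRing R'] [CommRing A] [CommRing B]
  [Algebra R R'] [Algebra R A] [Algebra R B] [Algebra A B] [IsScalarTower R A B]

/-- the base change `R' ⊗ A → R' ⊗ B` of `A → B`. -/
noncomputable def phi' : R' ⊗[R] A →+* R' ⊗[R] B :=
  (Algebra.TensorProduct.map (AlgHom.id R R') (IsScalarTower.toAlgHom R A B)).toRingHom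

theorem rTensorAlgEquiv_tmul_C (n : ℕ) (r : R') (a : A) :
    (MvPolynomial.rTensorAlgEquiv (R := R) (N := A) (S := R') (σ := Fin n))
      (r ⊗ₜ[R] MvPolynomial.C a) = MvPolynomial.C (r ⊗ₜ[R] a) := by
  classical
  ext d
  rw [MvPolynomial.coeff_rTensorAlgEquiv_tmul, MvPolynomial.coeff_C, MvPolynomial.coeff_C]
  split_ifs
  · rfl
  · rw [TensorProduct.tmul_zero]

theorem rTensorAlgEquiv_tmul_X (n : ℕ) (i : Fin n) :
    (MvPolynomial.rTensorAlgEquiv (R := R) (N := A) (S := R') (σ := Fin n))
      ((1 : R') ⊗ₜ[R] MvPolynomial.X i) = MvPolynomial.X i := by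
  classical
  ext d
  rw [MvPolynomial.coeff_rTensorAlgEquiv_tmul, MvPolynomial.coeff_X', MvPolynomial.coeff_X']
  split_ifs
  · rfl
  · rw [TensorProduct.tmul_zero]

/-- **The lci locus commutes with base change** (tensor product form). -/
theorem lciAt_baseChange_iff (H : Hyp4848.{u}) [Module.Flat R A] [Algebra.FinitePresentation R A]
    [Module.Flat R B] [Algebra.FinitePresentation R B]
    (q' : Ideal (R' ⊗[R] B)) [q'.IsPrime] :
    LciAt (phi' (R := R) (R' := R') (A := A) (B := B)) q' ↔
      LciAt (algebraMap A B) (q'.comap (incR (R := R) (R' := R') (P := B))) := by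
  classical
  haveI : Algebra.FinitePresentation A B :=
    Algebra.FinitePresentation.of_restrict_scalars_finitePresentation R A B
  obtain ⟨n, π, hπ⟩ := Algebra.FiniteType.iff_quotient_mvPolynomial''.mp
    (inferInstance : Algebra.FiniteType A B)
  -- the data over `R`
  let πR : MvPolynomial (Fin n) A →ₐ[R] B := π.restrictScalars R
  have hIfg : (RingHom.ker π.toRingHom).FG :=
    Algebra.FinitePresentation.ker_fG_of_surjective π hπ
  haveI : Module.Flat R (MvPolynomial (Fin n) A) := Module.Flat.trans R A _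
  haveI : Algebra.FinitePresentation R (MvPolynomial (Fin n) A) :=
    Algebra.FinitePresentation.trans R A _
  haveI : Module.Flat R (MvPolynomial (Fin n) A ⧸ RingHom.ker π.toRingHom) := by
    have e : (MvPolynomial (Fin n) A ⧸ RingHom.ker πR.toRingHom) ≃ₐ[R] B :=
      Ideal.quotientKerAlgEquivOfSurjective (f := πR) hπ
    exact Module.Flat.of_linearEquiv e.toLinearEquiv
  -- the base-changed presentation
  let πT : R' ⊗[R] MvPolynomial (Fin n) A →ₐ[R] R' ⊗[R] B :=
    Algebra.TensorProduct.map (AlgHom.id R R') πR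
  have hπT : Function.Surjective πT :=
    Algebra.TensorProduct.map_surjective (AlgHom.id R R') πR Function.surjective_id hπ
  have hkerT : RingHom.ker πT.toRingHom =
      (RingHom.ker π.toRingHom).map (incR (R := R) (R' := R') (P := MvPolynomial (Fin n) A)) :=
    Algebra.TensorProduct.lTensor_ker (A := R') πR hπ
  let e : R' ⊗[R] MvPolynomial (Fin n) A ≃ₐ[R'] MvPolynomial (Fin n) (R' ⊗[R] A) :=
    MvPolynomial.rTensorAlgEquiv
  let π'' : MvPolynomial (Fin n) (R' ⊗[R] A) →+* R' ⊗[R] B :=
    MvPolynomial.eval₂Hom (phi' (R := R) (R' := R') (A := A) (B := B))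
      (fun i => (1 : R') ⊗ₜ[R] π (MvPolynomial.X i))
  have hπ''C : π''.comp MvPolynomial.C = phi' (R := R) (R' := R') (A := A) (B := B) :=
    RingHom.ext fun x => MvPolynomial.eval₂Hom_C _ _ x
  have hπ''e : π''.comp e.toRingEquiv.toRingHom = πT.toRingHom := by
    have : (π''.comp e.toRingEquiv.toRingHom) = (πT.toRingHom : _ →+* _) := by
      apply Algebra.TensorProduct.ringHom_ext
      · ext r
        show π'' (e (r ⊗ₜ[R] 1)) = πT (r ⊗ₜ[R] 1)
        have h1 : (1 : MvPolynomial (Fin n) A) = MvPolynomial.C 1 := (map_one _).symm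
        rw [h1, rTensorAlgEquiv_tmul_C, Algebra.TensorProduct.map_tmul]
        simp [π'', phi']
      · apply MvPolynomial.ringHom_ext
        · intro a
          show π'' (e (1 ⊗ₜ[R] MvPolynomial.C a)) = πT (1 ⊗ₜ[R] MvPolynomial.C a)
          rw [rTensorAlgEquiv_tmul_C, Algebra.TensorProduct.map_tmul]
          simp [π'', phi', πR]
        · intro i
          show π'' (e (1 ⊗ₜ[R] MvPolynomial.X i)) = πT (1 ⊗ₜ[R] MvPolynomial.X i)
          rw [rTensorAlgEquiv_tmul_X, Algebra.TensorProduct.map_tmul]
          simp [π'', πR]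
    exact this
  have hπ''surj : Function.Surjective π'' := by
    intro y
    obtain ⟨x, hx⟩ := hπT y
    exact ⟨e x, by rw [← hx]; exact congrArg (fun χ : _ →+* _ => χ x) hπ''e⟩
  have hker'' : RingHom.ker π'' = (RingHom.ker πT.toRingHom).map e.toRingEquiv.toRingHom := by
    rw [← hπ''e, ← RingHom.comap_ker,
      Ideal.map_comap_of_surjective e.toRingEquiv.toRingHom e.surjective]
  have hcomap : (q'.comap π'').comap e.toRingEquiv.toRingHom = q'.comap πT.toRingHom := by
    rw [Ideal.comap_comap, hπ''e]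
  haveI : (q'.comap πT.toRingHom).IsPrime := Ideal.IsPrime.comap _
  haveI : (q'.comap (incR (R := R) (R' := R') (P := B))).IsPrime := Ideal.IsPrime.comap _
  have hcomap2 : (q'.comap πT.toRingHom).comap
      (incR (R := R) (R' := R') (P := MvPolynomial (Fin n) A)) =
      (q'.comap (incR (R := R) (R' := R') (P := B))).comap π.toRingHom := by
    rw [Ideal.comap_comap, Ideal.comap_comap]
    congr 1
  rw [← kAt_ker_iff_lciAt (phi' (R := R) (R' := R') (A := A) (B := B)) n π'' hπ''surj hπ''C q',
    hker'', kAt_ringEquiv_iff e.toRingEquiv, hcomap, hkerT,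
    kAt_baseChange_iff H (RingHom.ker π.toRingHom) hIfg (q'.comap πT.toRingHom), hcomap2]
  exact kAt_ker_iff_lciAt (algebraMap A B) n π.toRingHom hπ
    (by ext a; exact π.commutes a) (q'.comap (incR (R := R) (R' := R') (P := B)))

end tensor

end Groth.Agent.H94.LciBC
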