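import Mathlib
import Groth.Agent.H94.LciBC
import Groth.Agent.H39.KoszulAtBridge3

/-!
# The lci locus commutes with base change: abstract pushout form (helper94)
-/

set_option autoImplicit false
set_option linter.unusedSectionVars false
set_option linter.style.haveILetI false
universe u

namespace Groth.Agent.H94.LciBC

open TensorProduct CategoryTheory CategoryTheory.Limits Groth.Agent.H49.FlatApprox
  Groth.Agent.H39.LCIMor Groth.Agent.H94.KoszulFibre

theorem isLCIHom_of_bijective {A B : Type u} [CommRing A] [CommRing B] (φ : A →+* B)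
    (hφ : Function.Bijective φ) : IsLCIHom φ :=
  Groth.Agent.H39.LCISmooth2.isLCIHom_of_smooth φ (RingHom.Smooth.of_bijective hφ)

/-- one direction of the invariance of `LciAt` under isomorphisms of arrows. -/
theorem lciAt_of_iso {A₁ B₁ A₂ B₂ : Type u} [CommRing A₁] [CommRing B₁] [CommRing A₂]
    [CommRing B₂] (α : A₁ ≃+* A₂) (β : B₁ ≃+* B₂) (φ₁ : A₁ →+* B₁) (φ₂ : A₂ →+* B₂)
    (hcomm : φ₂.comp α.toRingHom = β.toRingHom.comp φ₁) (q₂ : Ideal B₂)
    (h : LciAt φ₁ (q₂.comap β.toRingHom)) : LciAt φ₂ q₂ := by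
  obtain ⟨b₁, hb₁, hlci⟩ := h
  refine ⟨β b₁, hb₁, ?_⟩
  -- `(B₂)_{β b₁}` is a localization of `B₁` away from `b₁`
  let χ : B₁ →+* Localization.Away (β b₁) :=
    (algebraMap B₂ (Localization.Away (β b₁))).comp β.toRingHom
  have hχ : IsUnit (χ b₁) := IsLocalization.Away.algebraMap_isUnit (β b₁)
  let l : Localization.Away b₁ →+* Localization.Away (β b₁) := IsLocalization.Away.lift b₁ hχ
  let χ' : B₂ →+* Localization.Away b₁ :=
    (algebraMap B₁ (Localization.Away b₁)).comp β.symm.toRingHom
  have hχ' : IsUnit (χ' (β b₁)) := by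
    show IsUnit (algebraMap B₁ (Localization.Away b₁) (β.symm (β b₁)))
    rw [β.symm_apply_apply]
    exact IsLocalization.Away.algebraMap_isUnit b₁
  let l' : Localization.Away (β b₁) →+* Localization.Away b₁ :=
    IsLocalization.Away.lift (β b₁) hχ'
  have hl : l.comp (algebraMap B₁ (Localization.Away b₁)) = χ :=
    IsLocalization.Away.lift_comp b₁ hχ
  have hl' : l'.comp (algebraMap B₂ (Localization.Away (β b₁))) = χ' :=
    IsLocalization.Away.lift_comp (β b₁) hχ'
  have h1 : l'.comp l = RingHom.id _ := by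
    apply IsLocalization.ringHom_ext (Submonoid.powers b₁)
    rw [RingHom.comp_assoc, hl, RingHom.id_comp]
    show l'.comp ((algebraMap B₂ (Localization.Away (β b₁))).comp β.toRingHom) = _
    rw [← RingHom.comp_assoc, hl']
    ext x
    show algebraMap B₁ (Localization.Away b₁) (β.symm (β x)) = _
    rw [β.symm_apply_apply]
  have h2 : l.comp l' = RingHom.id _ := by
    apply IsLocalization.ringHom_ext (Submonoid.powers (β b₁))
    rw [RingHom.comp_assoc, hl', RingHom.id_comp]
    show l.comp ((algebraMap B₁ (Localization.Away b₁)).comp β.symm.toRingHom) = _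
    rw [← RingHom.comp_assoc, hl]
    ext x
    show algebraMap B₂ (Localization.Away (β b₁)) (β (β.symm x)) = _
    rw [β.apply_symm_apply]
  let e : Localization.Away b₁ ≃+* Localization.Away (β b₁) :=
    RingEquiv.ofRingHom l l' h2 h1
  have h3 : (algebraMap B₂ (Localization.Away (β b₁))).comp φ₂ =
      (e.toRingHom.comp ((algebraMap B₁ (Localization.Away b₁)).comp φ₁)).comp
        α.symm.toRingHom := by
    have h4 : φ₂ = (β.toRingHom.comp φ₁).comp α.symm.toRingHom := by
      rw [← hcomm]
      ext x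
      show φ₂ x = φ₂ (α (α.symm x))
      rw [α.apply_symm_apply]
    have h5 : e.toRingHom.comp (algebraMap B₁ (Localization.Away b₁)) = χ := hl
    calc (algebraMap B₂ (Localization.Away (β b₁))).comp φ₂
        = ((algebraMap B₂ (Localization.Away (β b₁))).comp
            ((β.toRingHom.comp φ₁).comp α.symm.toRingHom)) := by rw [← h4]
      _ = ((χ.comp φ₁).comp α.symm.toRingHom) := by
          simp only [χ, RingHom.comp_assoc]
      _ = _ := by rw [← h5]; simp only [RingHom.comp_assoc]
  rw [h3]
  exact isLCIHom_comp _ _ (isLCIHom_of_bijective _ α.symm.bijective)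
    (isLCIHom_ringEquiv_comp _ e hlci)

/-- `LciAt` is invariant under isomorphisms of arrows. -/
theorem lciAt_iso_iff {A₁ B₁ A₂ B₂ : Type u} [CommRing A₁] [CommRing B₁] [CommRing A₂]
    [CommRing B₂] (α : A₁ ≃+* A₂) (β : B₁ ≃+* B₂) (φ₁ : A₁ →+* B₁) (φ₂ : A₂ →+* B₂)
    (hcomm : φ₂.comp α.toRingHom = β.toRingHom.comp φ₁) (q₂ : Ideal B₂) :
    LciAt φ₂ q₂ ↔ LciAt φ₁ (q₂.comap β.toRingHom) := by
  refine ⟨fun h => ?_, lciAt_of_iso α β φ₁ φ₂ hcomm q₂⟩
  refine lciAt_of_iso α.symm β.symm φ₂ φ₁ ?_ _ ?_
  · ext x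
    show φ₁ (α.symm x) = β.symm (φ₂ x)
    rw [RingEquiv.eq_symm_apply]
    have := congrArg (fun χ : A₁ →+* B₂ => χ (α.symm x)) hcomm
    simp only [RingHom.comp_apply, RingEquiv.toRingHom_eq_coe, RingEquiv.coe_toRingHom,
      RingEquiv.apply_symm_apply] at this
    exact this.symm
  · have : (q₂.comap β.toRingHom).comap β.symm.toRingHom = q₂ := by
      rw [Ideal.comap_comap]
      have : β.toRingHom.comp β.symm.toRingHom = RingHom.id _ := by
        ext x
        exact β.apply_symm_apply x
      rw [this, Ideal.comap_id]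
    rw [this]
    exact h

/-- **The lci locus commutes with base change**, for abstract pushout squares of rings:
`A' = R' ⊗ A`, `B' = R' ⊗ B`. -/
theorem lciAt_iff_of_isPushout (H : Hyp4848.{u}) {R R' A B A' B' : Type u} [CommRing R]
    [CommRing R'] [CommRing A] [CommRing B] [CommRing A'] [CommRing B']
    (a : R →+* A) (r : R →+* R') (φ : A →+* B) (iA : A →+* A') (jA : R' →+* A')
    (iB : B →+* B') (jB : R' →+* B') (φ' : A' →+* B')
    (hA : IsPushout (CommRingCat.ofHom a) (CommRingCat.ofHom r) (CommRingCat.ofHom iA)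
      (CommRingCat.ofHom jA))
    (hB : IsPushout (CommRingCat.ofHom (φ.comp a)) (CommRingCat.ofHom r) (CommRingCat.ofHom iB)
      (CommRingCat.ofHom jB))
    (h1 : φ'.comp iA = iB.comp φ) (h2 : φ'.comp jA = jB)
    (ha : a.Flat) (ha' : a.FinitePresentation) (hb : (φ.comp a).Flat)
    (hb' : (φ.comp a).FinitePresentation) (q' : Ideal B') [q'.IsPrime] :
    LciAt φ' q' ↔ LciAt φ (q'.comap iB) := by
  letI : Algebra R A := a.toAlgebra
  letI : Algebra R R' := r.toAlgebra
  letI : Algebra A B := φ.toAlgebra
  letI : Algebra R B := (φ.comp a).toAlgebra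
  haveI : IsScalarTower R A B := IsScalarTower.of_algebraMap_eq (fun _ => rfl)
  haveI : Module.Flat R A := ha
  haveI : Algebra.FinitePresentation R A := ha'
  haveI : Module.Flat R B := hb
  haveI : Algebra.FinitePresentation R B := hb'
  have hTA := (CommRingCat.isPushout_tensorProduct R R' A).flip
  have hTB := (CommRingCat.isPushout_tensorProduct R R' B).flip
  let α := hTA.isoIsPushout _ _ hA
  let β := hTB.isoIsPushout _ _ hB
  have hα₁ : CommRingCat.ofHom (Algebra.TensorProduct.includeRight (R := R) (A := R')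
      (B := A)).toRingHom ≫ α.hom = CommRingCat.ofHom iA := hTA.inl_isoIsPushout_hom _ _ hA
  have hα₂ : CommRingCat.ofHom (Algebra.TensorProduct.includeLeftRingHom (R := R) (A := R')
      (B := A)) ≫ α.hom = CommRingCat.ofHom jA := hTA.inr_isoIsPushout_hom _ _ hA
  have hβ₁ : CommRingCat.ofHom (Algebra.TensorProduct.includeRight (R := R) (A := R')
      (B := B)).toRingHom ≫ β.hom = CommRingCat.ofHom iB := hTB.inl_isoIsPushout_hom _ _ hB
  have hβ₂ : CommRingCat.ofHom (Algebra.TensorProduct.includeLeftRingHom (R := R) (A := R')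
      (B := B)) ≫ β.hom = CommRingCat.ofHom jB := hTB.inr_isoIsPushout_hom _ _ hB
  let αe : R' ⊗[R] A ≃+* A' := α.commRingCatIsoToRingEquiv
  let βe : R' ⊗[R] B ≃+* B' := β.commRingCatIsoToRingEquiv
  have hcomm : φ'.comp αe.toRingHom = βe.toRingHom.comp
      (phi' (R := R) (R' := R') (A := A) (B := B)) := by
    have : α.hom ≫ CommRingCat.ofHom φ' =
        CommRingCat.ofHom (phi' (R := R) (R' := R') (A := A) (B := B)) ≫ β.hom := by
      apply hTA.hom_ext
      · rw [← Category.assoc, hα₁, ← Category.assoc]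
        have : CommRingCat.ofHom (Algebra.TensorProduct.includeRight (R := R) (A := R')
            (B := A)).toRingHom ≫ CommRingCat.ofHom (phi' (R := R) (R' := R') (A := A) (B := B)) =
            CommRingCat.ofHom φ ≫ CommRingCat.ofHom (Algebra.TensorProduct.includeRight (R := R)
              (A := R') (B := B)).toRingHom := by
          ext x
          show phi' (R := R) (R' := R') (A := A) (B := B) ((1 : R') ⊗ₜ[R] x) =
            (1 : R') ⊗ₜ[R] φ x
          simp [phi']
          rfl
        rw [this, Category.assoc, hβ₁, ← CommRingCat.ofHom_comp, ← CommRingCat.ofHom_comp, h1]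
      · rw [← Category.assoc, hα₂, ← Category.assoc]
        have : CommRingCat.ofHom (Algebra.TensorProduct.includeLeftRingHom (R := R) (A := R')
            (B := A)) ≫ CommRingCat.ofHom (phi' (R := R) (R' := R') (A := A) (B := B)) =
            CommRingCat.ofHom (Algebra.TensorProduct.includeLeftRingHom (R := R)
              (A := R') (B := B)) := by
          ext x
          show phi' (R := R) (R' := R') (A := A) (B := B) (x ⊗ₜ[R] (1 : A)) =
            x ⊗ₜ[R] (1 : B)
          simp [phi']
        rw [this, hβ₂, ← CommRingCat.ofHom_comp, h2]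
    exact congrArg CommRingCat.Hom.hom this
  haveI : (q'.comap βe.toRingHom).IsPrime := Ideal.IsPrime.comap _
  rw [lciAt_iso_iff αe βe _ φ' hcomm q', lciAt_baseChange_iff H (q'.comap βe.toRingHom),
    Ideal.comap_comap]
  have : βe.toRingHom.comp (incR (R := R) (R' := R') (P := B)) = iB :=
    congrArg CommRingCat.Hom.hom hβ₁
  rw [this]
  rfl

end Groth.Agent.H94.LciBC
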