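import Mathlib
import Groth.Agent.H94.LciBCPushout
import Groth.Agent.H94.KoszulAtDescent
import Groth.Agent.H39.KoszulAtBridge2
import Groth.Agent.H39.KoszulAtBridge3

/-!
# The Koszul locus of a morphism of flat lfp schemes commutes with base change (helper94)
-/

set_option autoImplicit false
set_option linter.unusedSectionVars false
set_option linter.style.haveILetI false
universe u

namespace Groth.Agent.H94.KoszulLocusBC

open AlgebraicGeometry CategoryTheory CategoryTheory.Limits TopologicalSpace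
  Groth.Agent.H49.FlatApprox Groth.Agent.H39.LCIMor Groth.Agent.H94.LciBC

theorem mem_basicOpen_iff {X : Scheme.{u}} {U : X.Opens} (hU : IsAffineOpen U) (x : X)
    (hx : x ∈ U) (b : Γ(X, U)) :
    x ∈ X.basicOpen b ↔ b ∉ (hU.primeIdealOf ⟨x, hx⟩).asIdeal := by
  have h1 : hU.fromSpec (hU.primeIdealOf ⟨x, hx⟩) = x := hU.fromSpec_primeIdealOf ⟨x, hx⟩
  have h2 := hU.fromSpec_preimage_basicOpen b
  have h3 : hU.primeIdealOf ⟨x, hx⟩ ∈ hU.fromSpec ⁻¹ᵁ X.basicOpen b ↔ x ∈ X.basicOpen b := by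
    show hU.fromSpec (hU.primeIdealOf ⟨x, hx⟩) ∈ X.basicOpen b ↔ _
    rw [h1]
  rw [← h3, h2]
  exact PrimeSpectrum.mem_basicOpen _ _

/-- on an affine chart, `f` is Koszul at `x` iff the ring map of the chart is lci on a principal
open neighbourhood of the prime of `x`. -/
theorem isKoszulAt_iff_lciAt {X Y : Scheme.{u}} (f : X ⟶ Y) {U : X.Opens} {V : Y.Opens}
    (hU : IsAffineOpen U) (hV : IsAffineOpen V) (e : U ≤ f ⁻¹ᵁ V) (x : X) (hx : x ∈ U) :
    Synt.IsKoszulAt f x ↔ LciAt (f.appLE V U e).hom (hU.primeIdealOf ⟨x, hx⟩).asIdeal := by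
  constructor
  · intro h
    obtain ⟨W, hW, eW, hxW, hlci⟩ :=
      Groth.Agent.H39.KoszulAtBridge3.exists_isLCIHom_appLE_of_isKoszulAt f x h V hV (e hx)
    obtain ⟨u, w, huw, hxu⟩ := exists_basicOpen_le_affine_inter hU hW x ⟨hx, hxW⟩
    refine ⟨u, (mem_basicOpen_iff hU x hx u).mp hxu, ?_⟩
    apply Groth.Agent.H39.LCIMorComp.isLCIHom_away_of_basicOpen hU
    have hle : X.basicOpen u ≤ f ⁻¹ᵁ V := (X.basicOpen_le u).trans e
    have h4 : (X.presheaf.map (homOfLE (X.basicOpen_le u)).op).hom.comp (f.appLE V U e).hom =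
        (f.appLE V (X.basicOpen u) hle).hom := by
      rw [← CommRingCat.hom_comp, Scheme.Hom.appLE_map]
    rw [h4]
    have hle' : X.basicOpen w ≤ f ⁻¹ᵁ V := (X.basicOpen_le w).trans eW
    have h5 : IsLCIHom (f.appLE V (X.basicOpen w) hle').hom := by
      have h6 : (X.presheaf.map (homOfLE (X.basicOpen_le w)).op).hom.comp (f.appLE V W eW).hom =
          (f.appLE V (X.basicOpen w) hle').hom := by
        rw [← CommRingCat.hom_comp, Scheme.Hom.appLE_map]
      rw [← h6]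
      exact isLCIHom_comp _ _ hlci (Groth.Agent.H94.KoszulAtDescent.isLCIHom_res_basicOpen hW w)
    exact Groth.Agent.H94.KoszulAtDescent.isLCIHom_appLE_congr f V huw hle hle' h5
  · rintro ⟨b, hb, hlci⟩
    have hxb : x ∈ X.basicOpen b := (mem_basicOpen_iff hU x hx b).mpr hb
    have hle : X.basicOpen b ≤ f ⁻¹ᵁ V := (X.basicOpen_le b).trans e
    have h7 : IsLCIHom (f.appLE V (X.basicOpen b) hle).hom := by
      haveI := hU.isLocalization_basicOpen b
      let ee : Γ(X, X.basicOpen b) ≃ₐ[Γ(X, U)] Localization.Away b :=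
        IsLocalization.algEquiv (Submonoid.powers b) _ _
      have h4 : (X.presheaf.map (homOfLE (X.basicOpen_le b)).op).hom.comp (f.appLE V U e).hom =
          (f.appLE V (X.basicOpen b) hle).hom := by
        rw [← CommRingCat.hom_comp, Scheme.Hom.appLE_map]
      rw [← h4]
      apply Groth.Agent.H39.KoszulAtBridge3.isLCIHom_of_ringEquiv_comp _ ee.toRingEquiv
      have h8 : ee.toRingEquiv.toRingHom.comp
          ((X.presheaf.map (homOfLE (X.basicOpen_le b)).op).hom.comp (f.appLE V U e).hom) =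
          (algebraMap Γ(X, U) (Localization.Away b)).comp (f.appLE V U e).hom := by
        ext a
        exact ee.commutes ((f.appLE V U e).hom a)
      rw [h8]
      exact hlci
    exact Groth.Agent.H39.KoszulAtBridge2.isKoszulAt_of_isLCIHom_appLE f x (X.basicOpen b)
      (hU.basicOpen b) V hV hle hxb h7

/-- **The Koszul locus commutes with arbitrary base change** for a morphism of flat, locally
finitely presented `S`-schemes. -/
theorem isKoszulAt_baseChange_iff (H : Hyp4848.{u}) {X Y S X' Y' S' : Scheme.{u}} (f : X ⟶ Y)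
    (g : Y ⟶ S) [Flat (f ≫ g)] [LocallyOfFinitePresentation (f ≫ g)] [Flat g]
    [LocallyOfFinitePresentation g] (h : S' ⟶ S) (gY : Y' ⟶ Y) (g' : Y' ⟶ S')
    (hY : IsPullback gY g' g h) (gX : X' ⟶ X) (f' : X' ⟶ Y')
    (hX : IsPullback gX (f' ≫ g') (f ≫ g) h) (w : gX ≫ f = f' ≫ gY) (x' : X') :
    Synt.IsKoszulAt f' x' ↔ Synt.IsKoszulAt f (gX x') := by
  -- affine charts
  have hs : (f ≫ g) (gX x') = h ((f' ≫ g') x') := by
    rw [← Scheme.Hom.comp_apply, ← Scheme.Hom.comp_apply, hX.w]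
  obtain ⟨T, hT, hsT, -⟩ :=
    (Opens.isBasis_iff_nbhd.mp S.isBasis_affineOpens) (Opens.mem_top (h ((f' ≫ g') x')))
  obtain ⟨T', hT', hsT', hT'T⟩ :=
    (Opens.isBasis_iff_nbhd.mp S'.isBasis_affineOpens) (show (f' ≫ g') x' ∈ h ⁻¹ᵁ T from hsT)
  have hyT : f (gX x') ∈ g ⁻¹ᵁ T := by
    show g (f (gX x')) ∈ T
    rw [← Scheme.Hom.comp_apply, hs]
    exact hsT
  obtain ⟨V, hV, hyV, hVT⟩ :=
    (Opens.isBasis_iff_nbhd.mp Y.isBasis_affineOpens) hyT
  obtain ⟨U, hU, hxU, hUV⟩ :=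
    (Opens.isBasis_iff_nbhd.mp X.isBasis_affineOpens) (show gX x' ∈ f ⁻¹ᵁ V from hyV)
  have hUT : U ≤ (f ≫ g) ⁻¹ᵁ T := fun z hz => hVT (hUV hz)
  set V' : Y'.Opens := gY ⁻¹ᵁ V ⊓ g' ⁻¹ᵁ T' with hV'def
  set U' : X'.Opens := gX ⁻¹ᵁ U ⊓ (f' ≫ g') ⁻¹ᵁ T' with hU'def
  haveI : IsAffine (T : Scheme) := hT
  haveI : IsAffine (T' : Scheme) := hT'
  haveI : IsAffine (V : Scheme) := hV
  haveI : IsAffine (U : Scheme) := hU
  have hV' : IsAffineOpen V' :=
    .of_isIso (Scheme.Hom.isPullback_resLE hY hT'T hVT rfl).isoPullback.hom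
  have hU' : IsAffineOpen U' :=
    .of_isIso (Scheme.Hom.isPullback_resLE hX hT'T hUT rfl).isoPullback.hom
  have hx'U' : x' ∈ U' := ⟨hxU, hsT'⟩
  have hU'V' : U' ≤ f' ⁻¹ᵁ V' := by
    intro z hz
    refine ⟨?_, ?_⟩
    · show gY (f' z) ∈ V
      rw [← Scheme.Hom.comp_apply, ← w, Scheme.Hom.comp_apply]
      exact hUV hz.1
    · exact hz.2
  -- the pushout squares of rings of sections
  have hpushY := (isIso_pushoutSection_iff hY hT'T hVT rfl).mp
    (isIso_pushoutSection_of_isAffineOpen hY hT'T hVT rfl hT hT' hV)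
  have hpushX := (isIso_pushoutSection_iff hX hT'T hUT rfl).mp
    (isIso_pushoutSection_of_isAffineOpen hX hT'T hUT rfl hT hT' hU)
  have hcompa : (f.appLE V U hUV).hom.comp (g.appLE T V hVT).hom =
      ((f ≫ g).appLE T U hUT).hom := by
    rw [← CommRingCat.hom_comp, Scheme.Hom.appLE_comp_appLE]
  have hA : IsPushout (CommRingCat.ofHom (g.appLE T V hVT).hom)
      (CommRingCat.ofHom (h.appLE T T' hT'T).hom)
      (CommRingCat.ofHom (gY.appLE V V' inf_le_left).hom)
      (CommRingCat.ofHom (g'.appLE T' V' inf_le_right).hom) := hpushY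
  have hB : IsPushout (CommRingCat.ofHom ((f.appLE V U hUV).hom.comp (g.appLE T V hVT).hom))
      (CommRingCat.ofHom (h.appLE T T' hT'T).hom)
      (CommRingCat.ofHom (gX.appLE U U' inf_le_left).hom)
      (CommRingCat.ofHom ((f' ≫ g').appLE T' U' inf_le_right).hom) := by
    rw [hcompa]
    exact hpushX
  have h1 : (f'.appLE V' U' hU'V').hom.comp (gY.appLE V V' inf_le_left).hom =
      (gX.appLE U U' inf_le_left).hom.comp (f.appLE V U hUV).hom := by
    rw [← CommRingCat.hom_comp, ← CommRingCat.hom_comp, Scheme.Hom.appLE_comp_appLE,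
      Scheme.Hom.appLE_comp_appLE]
    exact congrArg CommRingCat.Hom.hom
      (Groth.Agent.H39.KoszulAtBridge3.appLE_congr_hom w.symm V U' _)
  have h2 : (f'.appLE V' U' hU'V').hom.comp (g'.appLE T' V' inf_le_right).hom =
      ((f' ≫ g').appLE T' U' inf_le_right).hom := by
    rw [← CommRingCat.hom_comp, Scheme.Hom.appLE_comp_appLE]
  have ha : (g.appLE T V hVT).hom.Flat :=
    HasRingHomProperty.appLE (P := @Flat) g inferInstance ⟨T, hT⟩ ⟨V, hV⟩ hVT
  have ha' : (g.appLE T V hVT).hom.FinitePresentation :=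
    HasRingHomProperty.appLE (P := @LocallyOfFinitePresentation) g inferInstance ⟨T, hT⟩ ⟨V, hV⟩ hVT
  have hb : ((f.appLE V U hUV).hom.comp (g.appLE T V hVT).hom).Flat := by
    rw [hcompa]
    exact HasRingHomProperty.appLE (P := @Flat) (f ≫ g) inferInstance ⟨T, hT⟩ ⟨U, hU⟩ hUT
  have hb' : ((f.appLE V U hUV).hom.comp (g.appLE T V hVT).hom).FinitePresentation := by
    rw [hcompa]
    exact HasRingHomProperty.appLE (P := @LocallyOfFinitePresentation) (f ≫ g) inferInstance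
      ⟨T, hT⟩ ⟨U, hU⟩ hUT
  have key := lciAt_iff_of_isPushout H (g.appLE T V hVT).hom (h.appLE T T' hT'T).hom
    (f.appLE V U hUV).hom (gY.appLE V V' inf_le_left).hom (g'.appLE T' V' inf_le_right).hom
    (gX.appLE U U' inf_le_left).hom ((f' ≫ g').appLE T' U' inf_le_right).hom
    (f'.appLE V' U' hU'V').hom hA hB h1 h2 ha ha' hb hb'
    (hU'.primeIdealOf ⟨x', hx'U'⟩).asIdeal
  rw [isKoszulAt_iff_lciAt f' hU' hV' hU'V' x' hx'U', key,
    isKoszulAt_iff_lciAt f hU hV hUV (gX x') hxU]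
  have hcomap := IsAffineOpen.comap_primeIdealOf_appLE (f := gX) U hU U' hU' inf_le_left hx'U'
  have : (hU'.primeIdealOf ⟨x', hx'U'⟩).asIdeal.comap (gX.appLE U U' inf_le_left).hom =
      (hU.primeIdealOf ⟨gX x', hxU⟩).asIdeal := congrArg PrimeSpectrum.asIdeal hcomap
  rw [this]

end Groth.Agent.H94.KoszulLocusBC
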