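import Mathlib
import Groth.Agent.H94.KoszulLocusBC
import Groth.Agent.H94.LciLocal
import Groth.Agent.H51.SpLciFpqc
import Groth.Agent.H51.SpLciYon
import Groth.Agent.H51.SpOpen
import Groth.Agent.H51.SpBasic
import Groth.Agent.H53.Points
import Groth.Agent.H53.BCCharts
import Groth.Agent.H53.LocSource
import Groth.Agent.H1.BCChartsOver
import Groth.Agent.H50.Charts
import Groth.Agent.H50.LocPSrc

/-!
# The Koszul locus of a morphism of algebraic spaces and base change (helper94)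
-/

set_option autoImplicit false
set_option linter.unusedSectionVars false
set_option linter.style.haveILetI false
universe u

namespace Groth.Agent.H94.KoszulLocusSp

open AlgebraicGeometry CategoryTheory CategoryTheory.Limits TopologicalSpace Opposite AlgSp
  Groth.Agent.H49.FlatApprox Groth.Agent.H39.LCIMor Groth.Agent.H94.LciBC
  Groth.Agent.H94.KoszulLocusBC

/-! ### Scheme level: precomposition with an open immersion -/

/-- Being Koszul at a point is insensitive to precomposition with an open immersion. -/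
theorem isKoszulAt_openImmersion_comp_iff {U₀ U V : Scheme.{u}} (ι : U₀ ⟶ U) [IsOpenImmersion ι]
    (h : U ⟶ V) (x' : U₀) :
    Synt.IsKoszulAt (ι ≫ h) x' ↔ Synt.IsKoszulAt h (ι x') := by
  obtain ⟨V₀, hV₀, hxV₀, -⟩ :=
    (Opens.isBasis_iff_nbhd.mp V.isBasis_affineOpens) (Opens.mem_top (h (ι x')))
  have hx' : x' ∈ (ι ≫ h) ⁻¹ᵁ V₀ := by
    show (ι ≫ h) x' ∈ V₀
    rw [Scheme.Hom.comp_apply]
    exact hxV₀
  obtain ⟨U₁, hU₁, hxU₁, hU₁V₀⟩ :=
    (Opens.isBasis_iff_nbhd.mp U₀.isBasis_affineOpens) hx'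
  have hU₂ : IsAffineOpen (ι ''ᵁ U₁) := hU₁.image_of_isOpenImmersion ι
  have hxU₂ : ι x' ∈ ι ''ᵁ U₁ := ⟨x', hxU₁, rfl⟩
  have hU₂V₀ : ι ''ᵁ U₁ ≤ h ⁻¹ᵁ V₀ := by
    rintro _ ⟨z, hz, rfl⟩
    have := hU₁V₀ hz
    show h (ι z) ∈ V₀
    rw [← Scheme.Hom.comp_apply]
    exact this
  have hle : U₁ ≤ ι ⁻¹ᵁ (ι ''ᵁ U₁) := (Scheme.Hom.preimage_image_eq ι U₁).ge
  rw [isKoszulAt_iff_lciAt (ι ≫ h) hU₁ hV₀ hU₁V₀ x' hxU₁,
    isKoszulAt_iff_lciAt h hU₂ hV₀ hU₂V₀ (ι x') hxU₂]
  let β : Γ(U, ι ''ᵁ U₁) ≃+* Γ(U₀, U₁) := (ι.appIso U₁).commRingCatIsoToRingEquiv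
  have hβ : β.toRingHom = (ι.appLE (ι ''ᵁ U₁) U₁ hle).hom := by
    show (ι.appIso U₁).hom.hom = _
    rw [Scheme.Hom.appIso_hom']
  have hcomm : ((ι ≫ h).appLE V₀ U₁ hU₁V₀).hom.comp (RingEquiv.refl Γ(V, V₀)).toRingHom =
      β.toRingHom.comp (h.appLE V₀ (ι ''ᵁ U₁) hU₂V₀).hom := by
    rw [hβ, ← CommRingCat.hom_comp, Scheme.Hom.appLE_comp_appLE]
    rfl
  rw [lciAt_iso_iff (RingEquiv.refl _) β _ _ hcomm]
  have hcomap := IsAffineOpen.comap_primeIdealOf_appLE (f := ι) (ι ''ᵁ U₁) hU₂ U₁ hU₁ hle hxU₁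
  have : (hU₁.primeIdealOf ⟨x', hxU₁⟩).asIdeal.comap β.toRingHom =
      (hU₂.primeIdealOf ⟨ι x', hxU₂⟩).asIdeal := by
    rw [hβ]
    exact congrArg PrimeSpectrum.asIdeal hcomap
  rw [this]

/-- the Koszul locus of a morphism of schemes is open. -/
theorem isOpen_koszulLocus {X Y : Scheme.{u}} (f : X ⟶ Y) :
    IsOpen {x : X | Synt.IsKoszulAt f x} := by
  rw [isOpen_iff_forall_mem_open]
  intro x hx
  obtain ⟨V, hV, hxV, -⟩ :=
    (Opens.isBasis_iff_nbhd.mp Y.isBasis_affineOpens) (Opens.mem_top (f x))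
  obtain ⟨U, hU, e, hxU, hlci⟩ :=
    Groth.Agent.H39.KoszulAtBridge3.exists_isLCIHom_appLE_of_isKoszulAt f x hx V hV hxV
  exact ⟨U, fun z hz =>
    Groth.Agent.H39.KoszulAtBridge2.isKoszulAt_of_isLCIHom_appLE f z U hU V hV e hz hlci,
    U.2, hxU⟩

/-! ### Algebraic spaces -/

variable {S : Scheme.{u}}

/-- one chart with surjective source chart suffices for `LocP lci`. -/
theorem locP_lci_of_one_chart {X Y : Sp S} (f : X ⟶ Y) {U V : Over S} (a : (yon S).obj U ⟶ X)
    (b : (yon S).obj V ⟶ Y) (h : U ⟶ V) (ha : RepWith @Etale a) (has : RepWith @Surjective a)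
    (hb : RepWith @Etale b) (comm : a ≫ f = (yon S).map h ≫ b) (hh : AlgSp.lci h.left) :
    LocP AlgSp.lci f := by
  refine Groth.Agent.H50.locP_of_source_chart Groth.Agent.H51.etLocSrc_lci f U a ha has ?_
  rw [comm]
  refine Groth.Agent.H53.locP_comp (P := AlgSp.lci) (Q := AlgSp.lci)
    (fun k h hk hh => Groth.Agent.H94.LciLocal.lci_comp k h hk hh)
    (fun e h he hes H => Groth.Agent.H51.etLocSrc_lci e h he hes H)
    (IsAlgSpace.yon_obj V) _ _ ((Groth.Agent.H51.isLCIMor_yon_map_iff h).2 hh) ?_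
  intro U' V' a' c h' ha' hc hcomm
  have : MorphismProperty.IsStableUnderComposition @Etale :=
    (inferInstance : MorphismProperty.IsMultiplicative @Etale).toIsStableUnderComposition
  have hE : Etale h'.left :=
    Groth.Agent.H50.locP_of_repWith @Etale le_rfl b hb a' c h' ha' hc hcomm
  haveI : Smooth h'.left := by haveI := hE; infer_instance
  exact Groth.Agent.H94.LciLocal.lci_of_smooth h'.left

/-- **Chart criterion** for being lci near a point of an algebraic space. -/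
theorem locPNear_lci_iff_chart {X Y : Sp S} (hX : IsAlgSpace X) (f : X ⟶ Y) {U V : Over S}
    (a : (yon S).obj U ⟶ X) (b : (yon S).obj V ⟶ Y) (h₀ : U ⟶ V)
    (ha : RepWith @Etale a) (hb : RepWith @Etale b) (e : a ≫ f = (yon S).map h₀ ≫ b)
    (u : ↥U.left) :
    LocPNear AlgSp.lci f (Points.ofPt a u) ↔ Synt.IsKoszulAt h₀.left u := by
  constructor
  · rintro ⟨W, j, hj, ⟨w0, hw0⟩, hL⟩
    have sq := hj.rep.isPullback a
    have hOI : IsOpenImmersion (hj.rep.snd a).left := hj.property_snd a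
    have hfstE : RepWith @Etale (hj.rep.fst a) := MorphismProperty.of_isPullback sq.flip ha
    have hpt : Points.map j w0 = Points.map a (Points.ofScheme U u) := by
      rw [hw0, Points.ofPt_eq_map_ofScheme]
    obtain ⟨z, hz1, hz2⟩ := Groth.Agent.H53.exists_point_of_isPullback sq w0 _ hpt
    have hz : Points.ofScheme _ (Points.toScheme _ z) = z := Points.ofScheme_toScheme _ z
    set u' := Points.toScheme _ z with hu'
    have hu'u : (hj.rep.snd a).left u' = u := by
      have h1 : Points.map ((yon S).map (hj.rep.snd a)) (Points.ofScheme _ u') =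
          Points.ofScheme U u := by rw [hz]; exact hz2
      have h2 : Points.ofScheme U ((hj.rep.snd a).left u') = Points.ofScheme U u :=
        (Points.map_yon_map_apply (hj.rep.snd a) u').symm.trans h1
      have := congrArg (Points.toScheme U) h2
      rwa [Points.toScheme_ofScheme, Points.toScheme_ofScheme] at this
    have hcomm : hj.rep.fst a ≫ (j ≫ f) = (yon S).map (hj.rep.snd a ≫ h₀) ≫ b := by
      rw [← Category.assoc, sq.w, Category.assoc, e, Functor.map_comp, Category.assoc]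
    have hlci : AlgSp.lci (hj.rep.snd a ≫ h₀).left :=
      hL (hj.rep.fst a) b (hj.rep.snd a ≫ h₀) hfstE hb hcomm
    have h2 : Synt.IsKoszulAt ((hj.rep.snd a).left ≫ h₀.left) u' := hlci u'
    haveI := hOI
    rw [isKoszulAt_openImmersion_comp_iff, hu'u] at h2
    exact h2
  · intro hk
    let O : U.left.Opens := ⟨{x | Synt.IsKoszulAt h₀.left x}, isOpen_koszulLocus h₀.left⟩
    have huO : u ∈ O := hk
    have hlciO : AlgSp.lci (O.ι ≫ h₀.left) := by
      intro x'
      rw [isKoszulAt_openImmersion_comp_iff]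
      exact x'.2
    let aO : (yon S).obj (Groth.Agent.H51.overOpen U O) ⟶ X :=
      (yon S).map (Groth.Agent.H51.overOpenι U O) ≫ a
    have haO : RepWith @Etale aO := Groth.Agent.H51.repWith_etale_restrict a ha O
    have hrange : Set.range (Points.ofPt aO) = Points.ofPt a '' (O : Set U.left) :=
      Groth.Agent.H51.range_ofPt_restrict a O
    have hopen : IsOpen (Points.ofPt a '' (O : Set U.left)) :=
      Groth.Agent.H51.isOpenMap_ofPt_of_etale a ha _ O.2
    obtain ⟨W, w, hW, hw, hwr⟩ := Groth.Agent.H51.exists_open_subspace hX _ hopen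
    obtain ⟨k, hk'⟩ := (Groth.Agent.H51.exists_factor_iff_of_isOpenImmersion' w hw aO).2 (by
      rw [hwr, Groth.Agent.H51.range_map_eq_range_ofPt, hrange])
    haveI : Mono w :=
      Groth.Agent.H49.mono_of_repWith_mono Groth.Agent.H51.isOpenImmersion_le_mono w hw
    have hkE : RepWith @Etale k := Groth.Agent.H51.repWith_of_comp_mono k w (by rw [hk']; exact haO)
    have hkS : RepWith @Surjective k := by
      refine Groth.Agent.H51.repWith_surjective_of_surjective_ofPt k hkE.rep ?_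
      intro y
      have hy : Points.map w y ∈ Set.range (Points.ofPt aO) := by
        rw [hrange, ← hwr]
        exact ⟨y, rfl⟩
      obtain ⟨t, ht⟩ := hy
      refine ⟨t, Groth.Agent.H51.injective_map_of_mono w ?_⟩
      rw [Points.map_ofPt, hk', ht]
    refine ⟨W, w, hw, ?_, ?_⟩
    · rw [hwr]
      exact ⟨u, huO, rfl⟩
    · refine locP_lci_of_one_chart (w ≫ f) k b (Groth.Agent.H51.overOpenι U O ≫ h₀) hkE hkS hb ?_
        hlciO
      rw [← Category.assoc, hk', Functor.map_comp, Category.assoc, Category.assoc, e]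

/-- **The Koszul locus of a morphism of algebraic spaces commutes with base change** (S10668). -/
theorem locPNear_lci_baseChange (H : Hyp4848.{u}) {X Y Z : AlgSp.Space S} (f : X ⟶ Y)
    (p : X ⟶ Z) (q : Y ⟶ Z) (hc : f ≫ q = p)
    (hp1 : AlgSp.LocP @Flat p.hom) (hp2 : AlgSp.LocP @LocallyOfFinitePresentation p.hom)
    (hq1 : AlgSp.LocP @Flat q.hom) (hq2 : AlgSp.LocP @LocallyOfFinitePresentation q.hom)
    {Z' Y' X' : AlgSp.Space S} (g : Z' ⟶ Z) (gY : Y' ⟶ Y) (q' : Y' ⟶ Z')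
    (hY : IsPullback gY.hom q'.hom q.hom g.hom)
    (gX : X' ⟶ X) (f' : X' ⟶ Y') (hX : IsPullback gX.hom f'.hom f.hom gY.hom) :
    {x' | AlgSp.LocPNear AlgSp.lci f'.hom x'} =
      AlgSp.Points.map gX.hom ⁻¹' {x | AlgSp.LocPNear AlgSp.lci f.hom x} := by
  subst hc
  have hfq : (f ≫ q).hom = f.hom ≫ q.hom := rfl
  obtain ⟨V, W, V', W', b, c, b', c', k, k', rV, rW, hbE, hbS, hcE, hcS, hb'E, hb'S, hc'E, hc'S,
    ebk, eb'k', eb'rV, ec'rW, sqVW⟩ :=
    Groth.Agent.H53.exists_baseChange_charts Y.property Z.property Z'.property q.hom g.hom gY.hom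
      q'.hom hY
  obtain ⟨U, U', a, a', h₀, h₀', rU, haE, haS, ha'E, ha'S, eah, ea'h', ea'rU, sqUV⟩ :=
    Groth.Agent.H1.BCChartsOver.exists_baseChange_charts_over X.property Y.property f.hom gY.hom
      gX.hom f'.hom hX b b' rV hbE hbS hb'E hb'S eb'rV
  have huv : a ≫ (f ≫ q).hom = (yon S).map (h₀ ≫ k) ≫ c := by
    rw [hfq, ← Category.assoc, eah, Category.assoc, ebk, Functor.map_comp, Category.assoc]
  haveI : LocallyOfFinitePresentation (h₀.left ≫ k.left) := hp2 a c (h₀ ≫ k) haE hcE huv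
  haveI : Flat (h₀.left ≫ k.left) := hp1 a c (h₀ ≫ k) haE hcE huv
  haveI : LocallyOfFinitePresentation k.left := hq2 b c k hbE hcE ebk
  haveI : Flat k.left := hq1 b c k hbE hcE ebk
  ext x'
  obtain ⟨u', rfl⟩ := Groth.Agent.H53.exists_ofPt_eq_of_repWith_surjective a' ha'S x'
  simp only [Set.mem_setOf_eq, Set.mem_preimage]
  rw [Points.map_ofPt, ea'rU, Groth.Agent.H53.ofPt_yon_map_comp,
    locPNear_lci_iff_chart X'.property f'.hom a' b' h₀' ha'E hb'E ea'h' u',
    locPNear_lci_iff_chart X.property f.hom a b h₀ haE hbE eah (rU.left u')]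
  exact isKoszulAt_baseChange_iff H h₀.left k.left rW.left rV.left k'.left sqVW rU.left h₀'.left
    (sqUV.paste_vert sqVW) sqUV.w u'

end Groth.Agent.H94.KoszulLocusSp
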