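import Mathlib
import Groth.Agent.H47.SmoothRegular
import Groth.Agent.Lead.RegularLocal

set_option autoImplicit false

namespace Groth.Agent.H94.Kummer

open Polynomial

universe u

section Forward

variable (k A : Type u) [Field k] [CommRing A] [Algebra k A]

/-- If the Kummer cover `A[t]/(t^e - s)`, `e ≥ 2`, is formally smooth, so is `A/(s)`
(for `A` formally smooth). -/
theorem formallySmooth_quotient_of_kummer [Algebra.FormallySmooth k A] (s : A) (e : ℕ) (he : 2 ≤ e)
    [Algebra.FormallySmooth k (AdjoinRoot (X ^ e - C s : A[X]))] :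
    Algebra.FormallySmooth k (A ⧸ Ideal.span {s}) := by
  set p : A[X] := X ^ e - C s with hp
  let f : A →ₐ[k] A ⧸ Ideal.span {s} := Ideal.Quotient.mkₐ k _
  have hf : Function.Surjective f := Ideal.Quotient.mkₐ_surjective k _
  have hfs : f s = 0 := by
    show Ideal.Quotient.mk _ s = 0
    rw [Ideal.Quotient.eq_zero_iff_mem]; exact Ideal.mem_span_singleton_self s
  have he0 : e ≠ 0 := by omega
  let π : AdjoinRoot p →ₐ[k] A ⧸ Ideal.span {s} :=
    AdjoinRoot.liftAlgHom p f 0 (by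
      rw [hp, eval₂_sub, eval₂_pow, eval₂_X, eval₂_C, zero_pow he0]
      show 0 - f s = 0
      rw [hfs, sub_zero])
  have surj : Function.Surjective f.kerSquareLift :=
    Ideal.Quotient.lift_surjective_of_surjective _ _ hf
  have sqz : RingHom.ker f.kerSquareLift.toRingHom ^ 2 = ⊥ := by
    rw [AlgHom.ker_kerSquareLift, Ideal.cotangentIdeal_square]
  let h : AdjoinRoot p →ₐ[k] A ⧸ RingHom.ker f.toRingHom ^ 2 :=
    Algebra.FormallySmooth.liftOfSurjective π f.kerSquareLift surj ⟨2, sqz⟩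
  have hh : ∀ x, f.kerSquareLift (h x) = π x :=
    Algebra.FormallySmooth.liftOfSurjective_apply π f.kerSquareLift surj ⟨2, sqz⟩
  let ψ : A →ₐ[k] A ⧸ RingHom.ker f.toRingHom ^ 2 := h.comp (AdjoinRoot.ofAlgHom k p)
  have hroot : h (AdjoinRoot.root p) ∈ RingHom.ker f.kerSquareLift.toRingHom := by
    rw [RingHom.mem_ker]
    show f.kerSquareLift (h (AdjoinRoot.root p)) = 0
    rw [hh, AdjoinRoot.liftAlgHom_root]
  have hroot2 : h (AdjoinRoot.root p) ^ 2 = 0 := by
    have : h (AdjoinRoot.root p) ^ 2 ∈ RingHom.ker f.kerSquareLift.toRingHom ^ 2 :=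
      Ideal.pow_mem_pow hroot 2
    rwa [sqz] at this
  have hofs : AdjoinRoot.of p s = AdjoinRoot.root p ^ e := by
    have := AdjoinRoot.eval₂_root p
    rw [hp, eval₂_sub, eval₂_pow, eval₂_X, eval₂_C, sub_eq_zero] at this
    exact this.symm
  have hψs : ψ s = 0 := by
    show h (AdjoinRoot.of p s) = 0
    rw [hofs, map_pow, show e = 2 + (e - 2) by omega, pow_add, hroot2, zero_mul]
  let g : A ⧸ Ideal.span {s} →ₐ[k] A ⧸ RingHom.ker f.toRingHom ^ 2 :=
    Ideal.Quotient.liftₐ (Ideal.span {s}) ψ (by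
      intro a ha
      obtain ⟨c, rfl⟩ := Ideal.mem_span_singleton'.mp ha
      rw [map_mul, hψs, mul_zero])
  refine Algebra.FormallySmooth.of_split f g ?_
  apply Ideal.Quotient.algHom_ext
  ext x
  show f.kerSquareLift (h (AdjoinRoot.of p x)) = Ideal.Quotient.mk _ x
  rw [hh]
  show AdjoinRoot.liftAlgHom p f 0 _ (AdjoinRoot.of p x) = _
  rw [AdjoinRoot.liftAlgHom_of]
  rfl

end Forward

section Backward

variable (k A : Type u) [Field k] [CommRing A] [Algebra k A]

/-- If `A` and `A/(s)` are formally smooth and `s` is a non-zero-divisor, there is a linear form on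
`Ω_{A/k}` taking a value `≡ 1 mod s` at `ds`. -/
theorem exists_rho [Algebra.FormallySmooth k A] (s : A) (hs : s ∈ nonZeroDivisors A)
    [Algebra.FormallySmooth k (A ⧸ Ideal.span {s})] :
    ∃ (ρ : Ω[A⁄k] →ₗ[A] A) (a : A), ρ (KaehlerDifferential.D k A s) = 1 + s * a := by
  let f : A →ₐ[k] A ⧸ Ideal.span {s} := Ideal.Quotient.mkₐ k _
  have hf : Function.Surjective f := Ideal.Quotient.mkₐ_surjective k _
  have hker : RingHom.ker f.toRingHom = Ideal.span {s} := Ideal.Quotient.mkₐ_ker k _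
  obtain ⟨g, hg⟩ := (Algebra.FormallySmooth.iff_split_surjection f hf).mp inferInstance
  -- the square-zero ideal
  set I : Ideal (A ⧸ RingHom.ker f.toRingHom ^ 2) := (RingHom.ker f.toRingHom).cotangentIdeal with hI
  have hI2 : I ^ 2 = ⊥ := Ideal.cotangentIdeal_square _
  have hkerI : RingHom.ker f.kerSquareLift.toRingHom = I := AlgHom.ker_kerSquareLift f
  let ψ : A →ₐ[k] A ⧸ RingHom.ker f.toRingHom ^ 2 := g.comp f
  have hψ : ∀ x, ψ x - algebraMap A _ x ∈ I := by
    intro x
    rw [← hkerI, RingHom.mem_ker, map_sub]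
    show f.kerSquareLift (g (f x)) - f.kerSquareLift (Ideal.Quotient.mk _ x) = 0
    have := AlgHom.congr_fun hg (f x)
    rw [AlgHom.comp_apply] at this
    rw [this, AlgHom.kerSquareLift_mk]
    exact sub_self _
  have he : (Ideal.Quotient.mkₐ k I).comp ψ =
      IsScalarTower.toAlgHom k A ((A ⧸ RingHom.ker f.toRingHom ^ 2) ⧸ I) := by
    ext x
    show Ideal.Quotient.mk I (ψ x) = Ideal.Quotient.mk I (algebraMap A _ x)
    rw [Ideal.Quotient.eq]
    exact hψ x
  let D₀ : Derivation k A I := derivationToSquareZeroOfLift I hI2 ψ he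
  let ℓ : Ω[A⁄k] →ₗ[A] I := D₀.liftKaehlerDifferential
  have hℓ : ∀ x, ℓ (KaehlerDifferential.D k A x) = D₀ x := fun x =>
    Derivation.liftKaehlerDifferential_comp_D D₀ x
  -- the generator of `I`
  have hsI : Ideal.Quotient.mk (RingHom.ker f.toRingHom ^ 2) s ∈ I := by
    rw [hI]
    exact ⟨s, by rw [hker]; exact Ideal.mem_span_singleton_self s, rfl⟩
  let σ : I := ⟨Ideal.Quotient.mk _ s, hsI⟩
  let χ : A →ₗ[A] I := LinearMap.toSpanSingleton A I σ
  have hχ : Function.Surjective χ := by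
    rintro ⟨y, hy⟩
    rw [hI] at hy
    obtain ⟨z, hz, rfl⟩ := hy
    have hz' : z ∈ Ideal.span {s} := by rw [← hker]; exact hz
    obtain ⟨c, rfl⟩ := Ideal.mem_span_singleton'.mp hz'
    refine ⟨c, Subtype.ext ?_⟩
    show (c • σ : I).1 = _
    rw [Submodule.coe_smul_of_tower, Algebra.smul_def, Ideal.Quotient.algebraMap_eq]
    exact (map_mul _ _ _).symm
  have : Module.Projective A (Ω[A⁄k]) := inferInstance
  obtain ⟨ρ', hρ'⟩ := Module.projective_lifting_property χ ℓ hχ
  have h1 : χ (ρ' (KaehlerDifferential.D k A s)) = D₀ s := by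
    rw [← LinearMap.comp_apply, hρ', hℓ]
  have h2 : ((D₀ s : I) : A ⧸ RingHom.ker f.toRingHom ^ 2) = - Ideal.Quotient.mk _ s := by
    rw [derivationToSquareZeroOfLift_apply]
    have hfs : f s = 0 := by
      show Ideal.Quotient.mk _ s = 0
      rw [Ideal.Quotient.eq_zero_iff_mem]; exact Ideal.mem_span_singleton_self s
    show g (f s) - _ = _
    rw [hfs, map_zero, zero_sub, Ideal.Quotient.algebraMap_eq]
  have h3 := congrArg Subtype.val h1
  rw [h2] at h3
  have h4 : ((χ (ρ' (KaehlerDifferential.D k A s)) : I) : A ⧸ RingHom.ker f.toRingHom ^ 2) =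
      Ideal.Quotient.mk _ (ρ' (KaehlerDifferential.D k A s) * s) := by
    show ((ρ' (KaehlerDifferential.D k A s)) • σ : I).1 = _
    rw [Submodule.coe_smul_of_tower, Algebra.smul_def, Ideal.Quotient.algebraMap_eq]
    exact (map_mul _ _ _).symm
  rw [h4, ← map_neg, Ideal.Quotient.eq, hker, Ideal.span_singleton_pow,
    Ideal.mem_span_singleton'] at h3
  obtain ⟨a', ha'⟩ := h3
  -- `a' * s^2 = ρ'(ds) * s + s`
  have h5 : (ρ' (KaehlerDifferential.D k A s) + 1 - a' * s) * s = 0 := by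
    have : a' * s ^ 2 = ρ' (KaehlerDifferential.D k A s) * s - -s := ha'
    ring_nf
    ring_nf at this
    rw [this]; ring
  have h6 := (mem_nonZeroDivisors_iff_right.mp hs) _ h5
  refine ⟨-ρ', -a', ?_⟩
  rw [LinearMap.neg_apply]
  have : ρ' (KaehlerDifferential.D k A s) = a' * s - 1 := by
    have := sub_eq_zero.mp h6
    rw [← this]; ring
  rw [this]; ring

/-- `(x + ν)^e = x^e + e x^(e-1) ν` when `ν^2 = 0`. -/
theorem add_pow_of_sq_zero {C : Type*} [CommRing C] (x ν : C) (hν : ν * ν = 0) (e : ℕ) :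
    (x + ν) ^ e = x ^ e + e * x ^ (e - 1) * ν := by
  induction e with
  | zero => simp
  | succ e ih =>
    rw [pow_succ, ih]
    rcases Nat.eq_zero_or_pos e with rfl | he
    · simp
    · have h1 : x ^ e = x ^ (e - 1) * x := by
        rw [← pow_succ]; congr 1; omega
      have h2 : (e + 1 - 1 : ℕ) = e := by omega
      rw [h2, pow_succ]
      push_cast
      have : (x ^ e + ↑e * x ^ (e - 1) * ν) * (x + ν) =
          x ^ e * x + x ^ e * ν + ↑e * (x ^ (e - 1) * x) * ν + ↑e * x ^ (e - 1) * (ν * ν) := by ring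
      rw [this, hν, ← h1]; ring

theorem formallySmooth_kummer [Algebra.FormallySmooth k A] (s : A) (hs : s ∈ nonZeroDivisors A)
    [Algebra.FormallySmooth k (A ⧸ Ideal.span {s})] (e : ℕ) (hek : (e : k) ≠ 0) :
    Algebra.FormallySmooth k (AdjoinRoot (X ^ e - C s : A[X])) := by
  obtain ⟨ρ, a, hρ⟩ := exists_rho k A s hs
  set p : A[X] := X ^ e - C s with hp
  apply Algebra.FormallySmooth.of_comp_surjective
  intro Cc _ _ N hN g
  have hN0 : ∀ x ∈ N, ∀ y ∈ N, x * y = 0 := by
    intro x hx y hy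
    have : x * y ∈ N ^ 2 := by rw [pow_two]; exact Ideal.mul_mem_mul hx hy
    rwa [hN] at this
  -- lift the restriction to `A`
  obtain ⟨ψ₀, hψ₀⟩ := Algebra.FormallySmooth.comp_surjective k A N hN
    (g.comp (AdjoinRoot.ofAlgHom k p))
  have hψ₀' : ∀ x, Ideal.Quotient.mk N (ψ₀ x) = g (AdjoinRoot.of p x) := fun x =>
    AlgHom.congr_fun hψ₀ x
  obtain ⟨τ₀, hτ₀⟩ := Ideal.Quotient.mk_surjective (g (AdjoinRoot.root p))
  have hofs : AdjoinRoot.of p s = AdjoinRoot.root p ^ e := by
    have := AdjoinRoot.eval₂_root p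
    rw [hp, eval₂_sub, eval₂_pow, eval₂_X, eval₂_C, sub_eq_zero] at this
    exact this.symm
  set n : Cc := τ₀ ^ e - ψ₀ s with hn
  have hnN : n ∈ N := by
    rw [← Ideal.Quotient.eq_zero_iff_mem, hn, map_sub, map_pow, hτ₀, hψ₀', hofs, map_pow, sub_self]
  have hnn : n * n = 0 := hN0 n hnN n hnN
  -- the corrected map on `A`
  let L : A →ₗ[k] Cc := ψ₀.toLinearMap +
    (LinearMap.mulRight k n) ∘ₗ ψ₀.toLinearMap ∘ₗ (ρ.restrictScalars k) ∘ₗ
      (KaehlerDifferential.D k A).toLinearMap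
  have hL : ∀ x, L x = ψ₀ x + ψ₀ (ρ (KaehlerDifferential.D k A x)) * n := fun x => rfl
  let ψ : A →ₐ[k] Cc := AlgHom.ofLinearMap L
    (by rw [hL, Derivation.map_one_eq_zero, map_zero, map_zero, zero_mul, add_zero, map_one])
    (by
      intro x y
      rw [hL, hL, hL, Derivation.leibniz, map_add, map_smul, map_smul, smul_eq_mul, smul_eq_mul,
        map_add, map_mul, map_mul, map_mul]
      have : (ψ₀ x + ψ₀ (ρ (KaehlerDifferential.D k A x)) * n) *
          (ψ₀ y + ψ₀ (ρ (KaehlerDifferential.D k A y)) * n) =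
          ψ₀ x * ψ₀ y + (ψ₀ x * ψ₀ (ρ (KaehlerDifferential.D k A y)) +
            ψ₀ y * ψ₀ (ρ (KaehlerDifferential.D k A x))) * n +
          ψ₀ (ρ (KaehlerDifferential.D k A x)) * ψ₀ (ρ (KaehlerDifferential.D k A y)) * (n * n) := by
        ring
      rw [this, hnn]; ring)
  have hψ : ∀ x, ψ x = ψ₀ x + ψ₀ (ρ (KaehlerDifferential.D k A x)) * n := fun x => rfl
  -- the corrected root
  set ν : Cc := algebraMap k Cc ((e : k)⁻¹) * τ₀ * ψ₀ a * n with hν
  have hνN : ν ∈ N := Ideal.mul_mem_left _ _ hnN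
  have hνν : ν * ν = 0 := hN0 ν hνN ν hνN
  have he0 : e ≠ 0 := by rintro rfl; simp at hek
  have hroot : eval₂ (ψ : A →+* Cc) (τ₀ + ν) p = 0 := by
    rw [hp, eval₂_sub, eval₂_pow, eval₂_X, eval₂_C, add_pow_of_sq_zero τ₀ ν hνν e]
    show _ - ψ s = 0
    rw [hψ, hρ, map_add, map_one, map_mul]
    have h1 : (e : Cc) * algebraMap k Cc ((e : k)⁻¹) = 1 := by
      rw [← map_natCast (algebraMap k Cc), ← map_mul, mul_inv_cancel₀ hek, map_one]
    have h2 : τ₀ ^ (e - 1) * τ₀ = τ₀ ^ e := by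
      rw [← pow_succ]; congr 1; omega
    have h3 : τ₀ ^ e = ψ₀ s + n := by rw [hn]; ring
    have h4 : (e : Cc) * τ₀ ^ (e - 1) * ν = τ₀ ^ e * ψ₀ a * n := by
      rw [hν, ← h2]
      calc (e : Cc) * τ₀ ^ (e - 1) * (algebraMap k Cc ((e : k)⁻¹) * τ₀ * ψ₀ a * n)
          = ((e : Cc) * algebraMap k Cc ((e : k)⁻¹)) * (τ₀ ^ (e - 1) * τ₀ * ψ₀ a * n) := by ring
        _ = τ₀ ^ (e - 1) * τ₀ * ψ₀ a * n := by rw [h1, one_mul]
    rw [h4, h3]
    have : ψ₀ s + n + (ψ₀ s + n) * ψ₀ a * n - (ψ₀ s + (1 + ψ₀ s * ψ₀ a) * n) =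
        ψ₀ a * (n * n) := by ring
    rw [this, hnn, mul_zero]
  refine ⟨AdjoinRoot.liftAlgHom p ψ (τ₀ + ν) hroot, ?_⟩
  apply AdjoinRoot.algHom_ext'
  · ext x
    show Ideal.Quotient.mk N (AdjoinRoot.liftAlgHom p ψ (τ₀ + ν) hroot (AdjoinRoot.of p x)) =
      g (AdjoinRoot.of p x)
    rw [AdjoinRoot.liftAlgHom_of, hψ, map_add, map_mul,
      Ideal.Quotient.eq_zero_iff_mem.mpr hnN, mul_zero, add_zero, hψ₀']
  · show Ideal.Quotient.mk N (AdjoinRoot.liftAlgHom p ψ (τ₀ + ν) hroot (AdjoinRoot.root p)) =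
      g (AdjoinRoot.root p)
    rw [AdjoinRoot.liftAlgHom_root, map_add, Ideal.Quotient.eq_zero_iff_mem.mpr hνN, add_zero, hτ₀]

end Backward

section NZD

variable {A : Type u} [CommRing A]

/-- In a regular ring, an irreducible element is a non-zero-divisor. -/
theorem mem_nonZeroDivisors_of_irreducible [IsRegularRing A] (s : A) (hs : Irreducible s) :
    s ∈ nonZeroDivisors A := by
  set I : Ideal A := (Ideal.span {s}).annihilator with hI
  have hmem : ∀ x, x ∈ I ↔ x * s = 0 := fun x => by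
    rw [hI, Submodule.mem_annihilator_span_singleton, smul_eq_mul]
  -- `I` is idempotent
  have hIsq : I ≤ I ^ 2 := by
    apply Ideal.le_of_localization_maximal
    intro P hP
    have : IsDomain (Localization.AtPrime P) := Groth.Agent.Lead.RLR.isDomain _
    by_cases h0 : algebraMap A (Localization.AtPrime P) s = 0
    · obtain ⟨u, hu⟩ := (IsLocalization.map_eq_zero_iff P.primeCompl _ s).mp h0
      have huI : (u : A) ∈ I := (hmem _).mpr hu
      have hunit : IsUnit (algebraMap A (Localization.AtPrime P) u) :=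
        IsLocalization.map_units _ u
      have : Ideal.map (algebraMap A (Localization.AtPrime P)) (I ^ 2) = ⊤ := by
        rw [Ideal.eq_top_iff_one]
        have h1 : algebraMap A (Localization.AtPrime P) ((u : A) ^ 2) ∈
            Ideal.map (algebraMap A (Localization.AtPrime P)) (I ^ 2) :=
          Ideal.mem_map_of_mem _ (Ideal.pow_mem_pow huI 2)
        have h2 : IsUnit (algebraMap A (Localization.AtPrime P) ((u : A) ^ 2)) := by
          rw [map_pow]; exact hunit.pow 2
        exact (Ideal.eq_top_of_isUnit_mem _ h1 h2) ▸ Submodule.mem_top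
      rw [this]; exact le_top
    · rw [Ideal.map_le_iff_le_comap]
      intro x hx
      rw [Ideal.mem_comap]
      have h1 : algebraMap A (Localization.AtPrime P) x * algebraMap A (Localization.AtPrime P) s = 0 := by
        rw [← map_mul, (hmem x).mp hx, map_zero]
      rcases mul_eq_zero.mp h1 with h | h
      · rw [h]; exact zero_mem _
      · exact absurd h h0
  have hidem : IsIdempotentElem I := by
    show I * I = I
    rw [← pow_two]
    exact le_antisymm (Ideal.pow_le_self (by norm_num)) hIsq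
  obtain ⟨ε, hε, hIε⟩ := (Ideal.isIdempotentElem_iff_of_fg I (IsNoetherian.noetherian I)).mp hidem
  have hεI : ε ∈ I := by rw [hIε]; exact Submodule.mem_span_singleton_self ε
  have hεs : ε * s = 0 := (hmem ε).mp hεI
  have hs1 : s = (1 - ε) * s := by rw [sub_mul, one_mul, hεs, sub_zero]
  rcases hs.isUnit_or_isUnit hs1 with h | h
  · -- `1 - ε` is an idempotent unit, so `ε = 0`
    have h1 : IsIdempotentElem (1 - ε) := hε.one_sub
    have h2 : (1 - ε) = 1 := by
      obtain ⟨v, hv⟩ := h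
      have : (1 - ε) * (1 - ε) = 1 - ε := h1
      rw [← hv] at this ⊢
      have := congrArg (fun z => (↑(v⁻¹) : A) * z) this
      simpa [← mul_assoc] using this
    have hε0 : ε = 0 := by
      have := sub_eq_self.mp h2
      exact this
    rw [mem_nonZeroDivisors_iff_right]
    intro x hx
    have hxI : x ∈ I := (hmem x).mpr hx
    rw [hIε, hε0] at hxI
    simpa using hxI
  · exact absurd h hs.not_isUnit

end NZD

end Groth.Agent.H94.Kummer
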