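import Mathlib
import Groth.Prelude.Def_SGA1
import Groth.Agent.H54.Dim
import Groth.Agent.Lead.RegularLocal

/-!
# Kummer algebras `A[T_1, …, T_r]/(T_i^{n_i} - f_i)` over a regular local ring

* `algebraMap_injective` : `A → K` is injective when `A` is a domain,
* `isIntegral` : `K` is integral over `A`,
* `isLocalRing`, `maximalIdeal_eq` : `K` is local with maximal ideal `(T_i) + 𝔪_A K`,
* `isRegularLocalRing` : `K` is regular when the `f_i` are part of a regular system of parameters.
-/

set_option autoImplicit false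

universe u

namespace Groth.Agent.H94.KummerRLR

open IsLocalRing MvPolynomial

variable {A : Type u} [CommRing A] {r : ℕ} (f : Fin r → A) (n : Fin r → ℕ)

/-- the class of `T_i` in the Kummer algebra -/
noncomputable def T (i : Fin r) : SGA1.kummerAlg A f n :=
  Ideal.Quotient.mk _ (X i)

theorem T_pow (i : Fin r) : T f n i ^ n i = algebraMap A (SGA1.kummerAlg A f n) (f i) := by
  have h : (X i : MvPolynomial (Fin r) A) ^ n i - C (f i) ∈
      Ideal.span (Set.range fun i => (X i : MvPolynomial (Fin r) A) ^ n i - C (f i)) :=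
    Ideal.subset_span ⟨i, rfl⟩
  have h2 := Ideal.Quotient.eq_zero_iff_mem.mpr h
  rw [map_sub, map_pow, sub_eq_zero] at h2
  exact h2

/-- universal property: algebra homs out of the Kummer algebra -/
noncomputable def lift {B : Type*} [CommRing B] [Algebra A B] (t : Fin r → B)
    (ht : ∀ i, t i ^ n i = algebraMap A B (f i)) : SGA1.kummerAlg A f n →ₐ[A] B :=
  Ideal.Quotient.liftₐ _ (aeval t) (by
    intro a ha
    refine Submodule.span_induction (p := fun a _ => aeval t a = 0) ?_ ?_ ?_ ?_ ha
    · rintro _ ⟨i, rfl⟩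
      simp [ht i]
    · simp
    · intro x y _ _ hx hy
      rw [map_add, hx, hy, add_zero]
    · intro a x _ hx
      rw [smul_eq_mul, map_mul, hx, mul_zero])

@[simp]
theorem lift_T {B : Type*} [CommRing B] [Algebra A B] (t : Fin r → B)
    (ht : ∀ i, t i ^ n i = algebraMap A B (f i)) (i : Fin r) :
    lift f n t ht (T f n i) = t i := by
  show aeval t (X i) = t i
  simp

theorem algHom_ext {B : Type*} [CommRing B] [Algebra A B] {φ ψ : SGA1.kummerAlg A f n →ₐ[A] B}
    (h : ∀ i, φ (T f n i) = ψ (T f n i)) : φ = ψ := by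
  apply Ideal.Quotient.algHom_ext
  apply MvPolynomial.algHom_ext
  intro i
  exact h i

theorem adjoin_T : Algebra.adjoin A (Set.range (T f n)) = ⊤ := by
  have h1 : Set.range (T f n) = (Ideal.Quotient.mkₐ A _) '' (Set.range X) := by
    rw [← Set.range_comp]
    rfl
  rw [h1, Algebra.adjoin_image, MvPolynomial.adjoin_range_X, Algebra.map_top,
    AlgHom.range_eq_top]
  exact Ideal.Quotient.mkₐ_surjective A _

theorem isIntegral (hn : ∀ i, 1 ≤ n i) : Algebra.IsIntegral A (SGA1.kummerAlg A f n) := by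
  refine ⟨fun x => ?_⟩
  have hx : x ∈ Algebra.adjoin A (Set.range (T f n)) := by
    rw [adjoin_T]
    exact Algebra.mem_top
  have hle : Algebra.adjoin A (Set.range (T f n)) ≤ integralClosure A (SGA1.kummerAlg A f n) := by
    apply Algebra.adjoin_le
    rintro _ ⟨i, rfl⟩
    refine ⟨Polynomial.X ^ n i - Polynomial.C (f i),
      Polynomial.monic_X_pow_sub_C _ (by have := hn i; omega), ?_⟩
    simp [T_pow]
  exact hle hx

theorem algebraMap_injective [IsDomain A] (hn : ∀ i, 1 ≤ n i) :
    Function.Injective (algebraMap A (SGA1.kummerAlg A f n)) := by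
  let Ω := AlgebraicClosure (FractionRing A)
  have hex : ∀ i, ∃ z : Ω, z ^ n i = algebraMap A Ω (f i) := fun i =>
    IsAlgClosed.exists_pow_nat_eq _ (by have := hn i; omega)
  choose t ht using hex
  let φ : SGA1.kummerAlg A f n →ₐ[A] Ω := lift f n t ht
  have hinj : Function.Injective (algebraMap A Ω) := by
    rw [IsScalarTower.algebraMap_eq A (FractionRing A) Ω]
    exact (algebraMap (FractionRing A) Ω).injective.comp (IsFractionRing.injective A _)
  intro a b hab
  apply hinj
  rw [← φ.commutes a, ← φ.commutes b, hab]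

section Local

variable [IsLocalRing A]

/-- the augmentation `K → k`, `T_i ↦ 0` -/
noncomputable def aug (hn : ∀ i, 1 ≤ n i) (hm : ∀ i, f i ∈ maximalIdeal A) :
    SGA1.kummerAlg A f n →ₐ[A] ResidueField A :=
  lift f n (fun _ => 0) (fun i => by
    rw [zero_pow (by have := hn i; omega)]
    symm
    exact (residue_eq_zero_iff _).mpr (hm i))

theorem aug_T (hn : ∀ i, 1 ≤ n i) (hm : ∀ i, f i ∈ maximalIdeal A) (i : Fin r) :
    aug f n hn hm (T f n i) = 0 := by
  simp [aug]

theorem aug_surjective (hn : ∀ i, 1 ≤ n i) (hm : ∀ i, f i ∈ maximalIdeal A) :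
    Function.Surjective (aug f n hn hm) := by
  intro x
  obtain ⟨a, rfl⟩ := residue_surjective x
  exact ⟨algebraMap A _ a, by rw [AlgHom.commutes]; rfl⟩

theorem exists_sub_mem_span_T (x : SGA1.kummerAlg A f n) :
    ∃ a : A, x - algebraMap A (SGA1.kummerAlg A f n) a ∈ Ideal.span (Set.range (T f n)) := by
  obtain ⟨p, rfl⟩ := Ideal.Quotient.mk_surjective x
  refine ⟨constantCoeff p, ?_⟩
  have h1 : p - C (constantCoeff p) ∈ idealOfVars (Fin r) A := by
    rw [← pow_one (idealOfVars _ _), mem_pow_idealOfVars_iff']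
    intro x hx
    have hx0 : x = 0 := by
      have : Finsupp.degree x = 0 := by omega
      exact (Finsupp.degree_eq_zero_iff x).mp this
    subst hx0
    simp [constantCoeff_eq]
  have h2 : Ideal.span (Set.range (T f n)) =
      (idealOfVars (Fin r) A).map (Ideal.Quotient.mk _) := by
    rw [idealOfVars, Ideal.map_span, ← Set.range_comp]
    rfl
  rw [h2]
  have h3 := Ideal.mem_map_of_mem (Ideal.Quotient.mk
    (Ideal.span (Set.range fun i => (X i : MvPolynomial (Fin r) A) ^ n i - C (f i)))) h1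
  rw [map_sub] at h3
  exact h3

theorem ker_aug (hn : ∀ i, 1 ≤ n i) (hm : ∀ i, f i ∈ maximalIdeal A) :
    RingHom.ker (aug f n hn hm) = Ideal.span (Set.range (T f n)) ⊔
      (maximalIdeal A).map (algebraMap A (SGA1.kummerAlg A f n)) := by
  have hT : Ideal.span (Set.range (T f n)) ≤ RingHom.ker (aug f n hn hm) := by
    rw [Ideal.span_le]
    rintro _ ⟨i, rfl⟩
    exact aug_T f n hn hm i
  apply le_antisymm
  · intro x hx
    obtain ⟨a, ha⟩ := exists_sub_mem_span_T f n x
    have hxa : aug f n hn hm (x - algebraMap A _ a) = 0 := hT ha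
    have hx' : aug f n hn hm x = 0 := hx
    rw [map_sub, hx', zero_sub, neg_eq_zero, AlgHom.commutes] at hxa
    have ha' : a ∈ maximalIdeal A := (residue_eq_zero_iff a).mp hxa
    have hdec : x = (x - algebraMap A _ a) + algebraMap A _ a := by ring
    rw [hdec]
    exact Ideal.add_mem _ (Ideal.mem_sup_left ha)
      (Ideal.mem_sup_right (Ideal.mem_map_of_mem _ ha'))
  · rw [sup_le_iff]
    refine ⟨hT, ?_⟩
    rw [Ideal.map_le_iff_le_comap]
    intro a ha
    show aug f n hn hm (algebraMap A _ a) = 0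
    rw [AlgHom.commutes]
    exact (residue_eq_zero_iff a).mpr ha

theorem ker_aug_isMaximal (hn : ∀ i, 1 ≤ n i) (hm : ∀ i, f i ∈ maximalIdeal A) :
    (RingHom.ker (aug f n hn hm)).IsMaximal :=
  RingHom.ker_isMaximal_of_surjective _ (aug_surjective f n hn hm)

theorem isLocalRing (hn : ∀ i, 1 ≤ n i) (hm : ∀ i, f i ∈ maximalIdeal A) :
    IsLocalRing (SGA1.kummerAlg A f n) := by
  have hint := isIntegral f n hn
  have hmax := ker_aug_isMaximal f n hn hm
  apply IsLocalRing.of_unique_max_ideal
  refine ⟨RingHom.ker (aug f n hn hm), hmax, fun M hM => ?_⟩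
  have h1 : (M.comap (algebraMap A (SGA1.kummerAlg A f n))).IsMaximal :=
    Ideal.isMaximal_comap_of_isIntegral_of_isMaximal M
  have h2 : M.comap (algebraMap A (SGA1.kummerAlg A f n)) = maximalIdeal A :=
    IsLocalRing.eq_maximalIdeal h1
  have h3 : ∀ i, T f n i ∈ M := by
    intro i
    have h4 : T f n i ^ n i ∈ M := by
      rw [T_pow]
      have h5 : f i ∈ M.comap (algebraMap A (SGA1.kummerAlg A f n)) := h2 ▸ hm i
      exact h5
    exact hM.isPrime.mem_of_pow_mem _ h4
  have h4 : RingHom.ker (aug f n hn hm) ≤ M := by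
    rw [ker_aug, sup_le_iff]
    refine ⟨Ideal.span_le.mpr ?_, ?_⟩
    · rintro _ ⟨i, rfl⟩
      exact h3 i
    · rw [Ideal.map_le_iff_le_comap, h2]
  exact (hmax.eq_of_le hM.ne_top h4).symm

theorem maximalIdeal_eq (hn : ∀ i, 1 ≤ n i) (hm : ∀ i, f i ∈ maximalIdeal A) :
    haveI := isLocalRing f n hn hm
    maximalIdeal (SGA1.kummerAlg A f n) = Ideal.span (Set.range (T f n)) ⊔
      (maximalIdeal A).map (algebraMap A (SGA1.kummerAlg A f n)) := by
  haveI := isLocalRing f n hn hm
  rw [← ker_aug f n hn hm]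
  exact (IsLocalRing.eq_maximalIdeal (ker_aug_isMaximal f n hn hm)).symm

end Local

section Regular

theorem exists_generators [IsLocalRing A] [IsNoetherianRing A] (hm : ∀ i, f i ∈ maximalIdeal A)
    (hf : LinearIndependent (ResidueField A)
      (fun i => (maximalIdeal A).toCotangent ⟨f i, hm i⟩)) :
    ∃ S : Set A, S.Finite ∧ S.ncard + r ≤ (maximalIdeal A).spanFinrank ∧
      Ideal.span (Set.range f ∪ S) = maximalIdeal A := by
  classical
  set v : Fin r → CotangentSpace A := fun i => (maximalIdeal A).toCotangent ⟨f i, hm i⟩ with hv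
  have hs : LinearIndepOn (ResidueField A) id (Set.range v) := hf.linearIndepOn_id
  let b := hs.extend (Set.subset_univ _)
  have hsb : Set.range v ⊆ b := hs.subset_extend _
  let B := Module.Basis.extend hs
  have hbfin : b.Finite := by
    have : Finite b := Module.Finite.finite_basis B
    exact Set.toFinite b
  have hbspan : Submodule.span (ResidueField A) b = ⊤ := by
    have h := B.span_eq
    rwa [Module.Basis.coe_extend, Subtype.range_coe] at h
  have hbcard : b.ncard = (maximalIdeal A).spanFinrank := by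
    rw [spanFinrank_maximalIdeal_eq_finrank_cotangentSpace, Module.finrank_eq_nat_card_basis B,
      Nat.card_coe_set_eq]
  have hsurj := Ideal.toCotangent_surjective (maximalIdeal A)
  let g : CotangentSpace A → maximalIdeal A := Function.surjInv hsurj
  have hg : ∀ w, (maximalIdeal A).toCotangent (g w) = w := Function.surjInv_eq hsurj
  refine ⟨(fun w => (g w : A)) '' (b \ Set.range v), (hbfin.diff).image _, ?_, ?_⟩
  · have h1 := Set.ncard_sdiff_add_ncard_of_subset hsb hbfin
    rw [Set.ncard_range_of_injective hf.injective, Nat.card_fin] at h1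
    have h2 : ((fun w => (g w : A)) '' (b \ Set.range v)).ncard ≤ (b \ Set.range v).ncard :=
      Set.ncard_image_le hbfin.diff
    omega
  · let SA : Set (maximalIdeal A) :=
      Set.range (fun i => (⟨f i, hm i⟩ : maximalIdeal A)) ∪ g '' (b \ Set.range v)
    have h1 : Submodule.span (ResidueField A) ((maximalIdeal A).toCotangent '' SA) = ⊤ := by
      rw [eq_top_iff, ← hbspan]
      apply Submodule.span_mono
      intro w hw
      by_cases hwv : w ∈ Set.range v
      · obtain ⟨i, rfl⟩ := hwv
        exact ⟨⟨f i, hm i⟩, Or.inl ⟨i, rfl⟩, rfl⟩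
      · exact ⟨g w, Or.inr ⟨w, ⟨hw, hwv⟩, rfl⟩, hg w⟩
    rw [CotangentSpace.span_image_eq_top_iff] at h1
    have h2 := congrArg (Submodule.map (maximalIdeal A).subtype) h1
    rw [Submodule.map_span, Submodule.map_top, Submodule.range_subtype] at h2
    refine Eq.trans ?_ h2
    show Submodule.span A _ = Submodule.span A _
    congr 1
    ext x
    simp only [Set.mem_union, Set.mem_range, Set.mem_image, Set.mem_diff, SA, Submodule.coe_subtype]
    constructor
    · rintro (⟨i, rfl⟩ | ⟨w, hw, rfl⟩)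
      · exact ⟨⟨f i, hm i⟩, Or.inl ⟨i, rfl⟩, rfl⟩
      · exact ⟨g w, Or.inr ⟨w, hw, rfl⟩, rfl⟩
    · rintro ⟨y, (⟨i, rfl⟩ | ⟨w, hw, rfl⟩), rfl⟩
      · exact Or.inl ⟨i, rfl⟩
      · exact Or.inr ⟨w, hw, rfl⟩

theorem isRegularLocalRing {A : Type u} [CommRing A] [IsRegularLocalRing A] {r : ℕ}
    (f : Fin r → A) (n : Fin r → ℕ) (hn : ∀ i, 1 ≤ n i) (hm : ∀ i, f i ∈ maximalIdeal A)
    (hf : LinearIndependent (ResidueField A)
      (fun i => (maximalIdeal A).toCotangent ⟨f i, hm i⟩)) :
    IsRegularLocalRing (SGA1.kummerAlg A f n) := by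
  haveI : IsDomain A := Groth.Agent.Lead.RLR.isDomain A
  haveI := isLocalRing f n hn hm
  apply IsRegularLocalRing.of_spanFinrank_maximalIdeal_le
  have hint := isIntegral f n hn
  have hdim : ringKrullDim A ≤ ringKrullDim (SGA1.kummerAlg A f n) :=
    Groth.Agent.H54.ringKrullDim_le_of_isIntegral_of_injective (algebraMap_injective f n hn)
  refine le_trans ?_ hdim
  rw [← IsRegularLocalRing.spanFinrank_maximalIdeal (R := A)]
  obtain ⟨S, hSfin, hScard, hSspan⟩ := exists_generators f hm hf
  have hmK : maximalIdeal (SGA1.kummerAlg A f n) =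
      Ideal.span (Set.range (T f n) ∪ algebraMap A (SGA1.kummerAlg A f n) '' S) := by
    rw [maximalIdeal_eq f n hn hm, ← hSspan, Ideal.map_span, Set.image_union, Ideal.span_union,
      Ideal.span_union, ← sup_assoc]
    congr 1
    rw [sup_eq_left, Ideal.span_le]
    rintro _ ⟨_, ⟨i, rfl⟩, rfl⟩
    rw [← T_pow]
    exact Ideal.pow_mem_of_mem _ (Ideal.subset_span (Set.mem_range_self i)) _ (hn i)
  rw [hmK]
  have hfin : (Set.range (T f n) ∪ algebraMap A (SGA1.kummerAlg A f n) '' S).Finite :=
    (Set.finite_range _).union (hSfin.image _)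
  have h1 : (Ideal.span (Set.range (T f n) ∪
      algebraMap A (SGA1.kummerAlg A f n) '' S)).spanFinrank ≤
      (Set.range (T f n) ∪ algebraMap A (SGA1.kummerAlg A f n) '' S).ncard :=
    Submodule.spanFinrank_span_le_ncard_of_finite hfin
  have h2 := Set.ncard_union_le (Set.range (T f n)) (algebraMap A (SGA1.kummerAlg A f n) '' S)
  have h3 : (Set.range (T f n)).ncard ≤ r := by
    rw [← Set.image_univ]
    refine (Set.ncard_image_le (Set.finite_univ)).trans ?_
    rw [Set.ncard_univ, Nat.card_fin]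
  have h4 : (algebraMap A (SGA1.kummerAlg A f n) '' S).ncard ≤ S.ncard := Set.ncard_image_le hSfin
  have h5 : (Ideal.span (Set.range (T f n) ∪
      algebraMap A (SGA1.kummerAlg A f n) '' S)).spanFinrank ≤ (maximalIdeal A).spanFinrank := by
    omega
  exact_mod_cast h5

end Regular

section Etale

/-- `(x + ν)^e = x^e + e x^(e-1) ν` when `ν^2 = 0`. -/
theorem add_pow_of_sq_zero' {C : Type*} [CommRing C] (x ν : C) (hν : ν * ν = 0) (e : ℕ) :
    (x + ν) ^ e = x ^ e + e * x ^ (e - 1) * ν := by
  induction e with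
  | zero => simp
  | succ e ih =>
    rw [pow_succ, ih]
    rcases Nat.eq_zero_or_pos e with rfl | he
    · simp
    · have h1 : x ^ e = x ^ (e - 1) * x := by
        rw [← pow_succ]; congr 1; omega
      have h2 : (e + 1 - 1 : ℕ) = e := by omega
      rw [h2, pow_succ]
      push_cast
      have : (x ^ e + ↑e * x ^ (e - 1) * ν) * (x + ν) =
          x ^ e * x + x ^ e * ν + ↑e * (x ^ (e - 1) * x) * ν + ↑e * x ^ (e - 1) * (ν * ν) := by ring
      rw [this, hν, ← h1]; ring

/-- unique lifting of `m`-th roots of a unit along a square-zero ideal, `m` invertible -/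
theorem existsUnique_root {C : Type*} [CommRing C] (J : Ideal C) (hJ : J ^ 2 = ⊥) (m : ℕ)
    (hm : 1 ≤ m) (hmu : IsUnit (m : C)) (a : C) (ha : IsUnit a) (s' : C ⧸ J)
    (hs : s' ^ m = Ideal.Quotient.mk J a) :
    ∃! s : C, Ideal.Quotient.mk J s = s' ∧ s ^ m = a := by
  have hsq : ∀ x ∈ J, ∀ y ∈ J, x * y = 0 := by
    intro x hx y hy
    have : x * y ∈ J ^ 2 := by
      rw [pow_two]
      exact Ideal.mul_mem_mul hx hy
    rwa [hJ, Ideal.mem_bot] at this
  have hnil : IsNilpotent J := ⟨2, hJ⟩
  -- a root is a unit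
  have hunit : ∀ s : C, s ^ m = a → IsUnit s := fun s hsa =>
    (isUnit_pow_iff (by omega)).mp (hsa ▸ ha)
  obtain ⟨s₀, rfl⟩ := Ideal.Quotient.mk_surjective s'
  have he : s₀ ^ m - a ∈ J := by
    rw [← Ideal.Quotient.eq, map_pow]
    exact hs
  have hs₀ : IsUnit s₀ := by
    rw [← IsNilpotent.isUnit_quotient_mk_iff hnil (x := s₀)]
    have : IsUnit ((Ideal.Quotient.mk J s₀) ^ m) := by
      rw [hs]
      exact ha.map _
    exact (isUnit_pow_iff (by omega)).mp this
  have hw : IsUnit ((m : C) * s₀ ^ (m - 1)) := hmu.mul (hs₀.pow _)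
  obtain ⟨w', hw'⟩ := hw.exists_right_inv
  set δ : C := -((s₀ ^ m - a) * w') with hδ
  have hδJ : δ ∈ J := by
    rw [hδ]
    exact J.neg_mem (J.mul_mem_right _ he)
  have key : (s₀ + δ) ^ m = a := by
    rw [add_pow_of_sq_zero' _ _ (hsq _ hδJ _ hδJ), hδ]
    have : (m : C) * s₀ ^ (m - 1) * -((s₀ ^ m - a) * w') =
        -((s₀ ^ m - a) * ((m : C) * s₀ ^ (m - 1) * w')) := by ring
    rw [this, hw']
    ring
  refine ⟨s₀ + δ, ⟨?_, key⟩, ?_⟩
  · rw [map_add, Ideal.Quotient.eq_zero_iff_mem.mpr hδJ, add_zero]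
  · rintro s ⟨hs1, hs2⟩
    set ν : C := s - (s₀ + δ) with hν
    have hνJ : ν ∈ J := by
      rw [hν, ← Ideal.Quotient.eq, hs1, map_add, Ideal.Quotient.eq_zero_iff_mem.mpr hδJ, add_zero]
    have hsν : s = (s₀ + δ) + ν := by rw [hν]; ring
    have h1 : s ^ m = (s₀ + δ) ^ m + m * (s₀ + δ) ^ (m - 1) * ν := by
      rw [hsν, add_pow_of_sq_zero' _ _ (hsq _ hνJ _ hνJ)]
    rw [hs2, key] at h1
    have h2 : (m : C) * (s₀ + δ) ^ (m - 1) * ν = 0 := by
      have := h1
      linear_combination -this
    have hu2 : IsUnit ((m : C) * (s₀ + δ) ^ (m - 1)) := hmu.mul ((hunit _ key).pow _)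
    have h3 : ν = 0 := (hu2.mul_right_eq_zero).mp h2
    rw [hsν, h3, add_zero]

theorem isUnit_algebraMap_f (i : Fin r) (B : Type*) [CommRing B] [Algebra A B]
    (hF : IsUnit (algebraMap A B (∏ i, f i))) : IsUnit (algebraMap A B (f i)) := by
  apply isUnit_of_dvd_unit _ hF
  exact (algebraMap A B).map_dvd (Finset.dvd_prod_of_mem f (Finset.mem_univ i))

theorem away_algHom_ext (KF : Type u) [CommRing KF]
    [Algebra (SGA1.kummerAlg A f n) KF]
    [IsLocalization.Away (algebraMap A (SGA1.kummerAlg A f n) (∏ i, f i)) KF]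
    [Algebra A KF] [IsScalarTower A (SGA1.kummerAlg A f n) KF]
    {B : Type*} [CommRing B] [Algebra A B] {φ ψ : KF →ₐ[A] B}
    (h : ∀ i, φ (algebraMap (SGA1.kummerAlg A f n) KF (T f n i)) =
      ψ (algebraMap (SGA1.kummerAlg A f n) KF (T f n i))) : φ = ψ := by
  apply IsLocalization.algHom_ext
    (Submonoid.powers (algebraMap A (SGA1.kummerAlg A f n) (∏ i, f i)))
  apply algHom_ext f n
  intro i
  exact h i

theorem formallyEtale_away (KF : Type u) [CommRing KF]
    [Algebra (SGA1.kummerAlg A f n) KF]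
    [IsLocalization.Away (algebraMap A (SGA1.kummerAlg A f n) (∏ i, f i)) KF]
    [Algebra A KF] [IsScalarTower A (SGA1.kummerAlg A f n) KF]
    (hn : ∀ i, 1 ≤ n i) (hu : ∀ i, IsUnit ((n i : ℕ) : A)) :
    Algebra.FormallyEtale A KF := by
  rw [Algebra.FormallyEtale.iff_comp_bijective]
  intro B _ _ J hJ
  have hnil : IsNilpotent J := ⟨2, hJ⟩
  have hFK : IsUnit (algebraMap A KF (∏ i, f i)) := by
    rw [IsScalarTower.algebraMap_apply A (SGA1.kummerAlg A f n) KF]
    exact IsLocalization.Away.algebraMap_isUnit _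
  -- in any target of an algebra hom from KF, F is a unit
  have hFB : ∀ {B' : Type u} [CommRing B'] [Algebra A B'] (φ : KF →ₐ[A] B'),
      IsUnit (algebraMap A B' (∏ i, f i)) := by
    intro B' _ _ φ
    rw [← φ.commutes]
    exact hFK.map φ
  have hnB : ∀ i, IsUnit ((n i : ℕ) : B) := fun i => by
    have := (hu i).map (algebraMap A B)
    rwa [map_natCast] at this
  constructor
  · intro φ ψ hφψ
    apply away_algHom_ext f n KF
    intro i
    set τ := algebraMap (SGA1.kummerAlg A f n) KF (T f n i) with hτ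
    have hroot : ∀ χ : KF →ₐ[A] B, χ τ ^ n i = algebraMap A B (f i) := by
      intro χ
      rw [← map_pow, hτ, ← map_pow, T_pow, ← IsScalarTower.algebraMap_apply, χ.commutes]
    have hex := existsUnique_root J hJ (n i) (hn i) (hnB i) (algebraMap A B (f i))
      (isUnit_algebraMap_f f i B (hFB φ)) (Ideal.Quotient.mk J (φ τ))
      (by rw [← map_pow, hroot φ])
    have h1 : Ideal.Quotient.mk J (ψ τ) = Ideal.Quotient.mk J (φ τ) := by
      have := congrArg (fun χ : KF →ₐ[A] B ⧸ J => χ τ) hφψ
      exact this.symm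
    exact hex.unique ⟨rfl, hroot φ⟩ ⟨h1, hroot ψ⟩
  · intro g
    have hFBJ := hFB g
    have hFB' : IsUnit (algebraMap A B (∏ i, f i)) := by
      rw [← IsNilpotent.isUnit_quotient_mk_iff hnil]
      have : Ideal.Quotient.mk J (algebraMap A B (∏ i, f i)) = algebraMap A (B ⧸ J) (∏ i, f i) := rfl
      rw [this]
      exact hFBJ
    have hroot : ∀ i, g (algebraMap (SGA1.kummerAlg A f n) KF (T f n i)) ^ n i =
        Ideal.Quotient.mk J (algebraMap A B (f i)) := by
      intro i
      rw [← map_pow, ← map_pow, T_pow, ← IsScalarTower.algebraMap_apply, g.commutes]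
      rfl
    have hex := fun i => existsUnique_root J hJ (n i) (hn i) (hnB i) (algebraMap A B (f i))
      (isUnit_algebraMap_f f i B hFB') _ (hroot i)
    choose t ht1 ht2 using fun i => (hex i).exists
    let φ₀ : SGA1.kummerAlg A f n →ₐ[A] B := lift f n t ht2
    have hφ₀ : IsUnit (φ₀ (algebraMap A (SGA1.kummerAlg A f n) (∏ i, f i))) := by
      rw [φ₀.commutes]
      exact hFB'
    let φ : KF →ₐ[A] B := IsLocalization.Away.liftAlgHom
      (algebraMap A (SGA1.kummerAlg A f n) (∏ i, f i)) hφ₀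
    refine ⟨φ, ?_⟩
    apply away_algHom_ext f n KF
    intro i
    show Ideal.Quotient.mk J (φ (algebraMap (SGA1.kummerAlg A f n) KF (T f n i))) = _
    rw [← ht1 i]
    congr 1
    show IsLocalization.Away.lift _ hφ₀ (algebraMap (SGA1.kummerAlg A f n) KF (T f n i)) = t i
    rw [IsLocalization.Away.lift_eq]
    exact lift_T f n t ht2 i

theorem etale_away (AF KF : Type u) [CommRing AF] [CommRing KF] [Algebra A AF]
    [IsLocalization.Away (∏ i, f i) AF]
    [Algebra (SGA1.kummerAlg A f n) KF]
    [IsLocalization.Away (algebraMap A (SGA1.kummerAlg A f n) (∏ i, f i)) KF]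
    [Algebra A KF] [IsScalarTower A (SGA1.kummerAlg A f n) KF]
    [Algebra AF KF] [IsScalarTower A AF KF]
    (hn : ∀ i, 1 ≤ n i) (hu : ∀ i, IsUnit ((n i : ℕ) : A)) :
    Algebra.Etale AF KF := by
  have h1 : Algebra.FormallyEtale A KF := formallyEtale_away f n KF hn hu
  have h2 : Algebra.FormallyEtale AF KF :=
    Algebra.FormallyEtale.localization_base (R := A) (Submonoid.powers (∏ i, f i))
  have h3 : Algebra.FinitePresentation A (SGA1.kummerAlg A f n) :=
    Algebra.FinitePresentation.quotient (Submodule.fg_span (Set.finite_range _))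
  have h4 : Algebra.FinitePresentation (SGA1.kummerAlg A f n) KF :=
    IsLocalization.Away.finitePresentation (algebraMap A (SGA1.kummerAlg A f n) (∏ i, f i))
  have h5 : Algebra.FinitePresentation A KF :=
    Algebra.FinitePresentation.trans A (SGA1.kummerAlg A f n) KF
  have h6' : Algebra.FinitePresentation A AF :=
    IsLocalization.Away.finitePresentation (∏ i, f i)
  have h6 : Algebra.FiniteType A AF := Algebra.FiniteType.of_finitePresentation
  have h7 : Algebra.FinitePresentation AF KF :=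
    Algebra.FinitePresentation.of_restrict_scalars_finitePresentation A AF KF
  exact ⟨h2, h7⟩

end Etale

end Groth.Agent.H94.KummerRLR
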