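import Groth.Agent.H51.SpEtale
import Groth.Agent.H94.LciLocal
import Groth.Agent.S9729

/-!
# lci morphisms of algebraic spaces: cancellation against a `LocP Q` second factor
-/

set_option autoImplicit false
universe u
open CategoryTheory CategoryTheory.Limits AlgebraicGeometry Opposite MorphismProperty

namespace Groth.Agent.H94.LciSp

open AlgSp

variable {S : Scheme.{u}}

/-- Cancellation for `LocP P` against a second factor having `LocP Q`: if for schemes `Q l` and
`P (k ≫ l)` imply `P k`, and `P` descends along fppf covers, then `LocP Q g` and `LocP P (f ≫ g)`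
imply `LocP P f`. -/
theorem locP_of_comp_of_locQ (P Q : MorphismProperty Scheme.{u})
    [P.DescendsAlong (@Surjective ⊓ @Flat ⊓ @LocallyOfFinitePresentation)]
    (hcancel : ∀ {A B C : Scheme.{u}} (k : A ⟶ B) (l : B ⟶ C), Q l → P (k ≫ l) → P k)
    {X Y Z : Sp S} (hZ : IsAlgSpace Z) (f : X ⟶ Y) (g : Y ⟶ Z) (hg : LocP Q g)
    (h : LocP P (f ≫ g)) : LocP P f := by
  intro U V a b k ha hb hcomm
  obtain ⟨W, c, hc, hcs⟩ := hZ.atlas
  have sq := hc.rep.isPullback' (b ≫ g)
  have hs1 : Etale (hc.rep.snd (b ≫ g)).left := hc.property_snd (b ≫ g)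
  have hs2 : Surjective (hc.rep.snd (b ≫ g)).left := hcs.property_snd (b ≫ g)
  have hb' : RepWith @Etale ((yon S).map (hc.rep.snd (b ≫ g)) ≫ b) :=
    (RepWith @Etale).comp_mem _ _ ((repWith_yon_map_iff _ _).2 hs1) hb
  have hQ : Q (hc.rep.fst' (b ≫ g)).left :=
    hg _ c (hc.rep.fst' (b ≫ g)) hb' hc (by rw [Category.assoc]; exact sq.w.symm)
  -- the scheme `U' = U ×_V V'`
  have pb : IsPullback (pullback.fst k (hc.rep.snd (b ≫ g))) (pullback.snd k (hc.rep.snd (b ≫ g)))
      k (hc.rep.snd (b ≫ g)) := IsPullback.of_hasPullback _ _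
  have pb' := pb.map (Over.forget S)
  have he : Etale (pullback.fst k (hc.rep.snd (b ≫ g))).left :=
    MorphismProperty.of_isPullback (P := @Etale) pb'.flip hs1
  have ha' : RepWith @Etale ((yon S).map (pullback.fst k (hc.rep.snd (b ≫ g))) ≫ a) :=
    (RepWith @Etale).comp_mem _ _ ((repWith_yon_map_iff _ _).2 he) ha
  have hw : ((yon S).map (pullback.fst k (hc.rep.snd (b ≫ g))) ≫ a) ≫ f ≫ g =
      (yon S).map (pullback.snd k (hc.rep.snd (b ≫ g)) ≫ hc.rep.fst' (b ≫ g)) ≫ c := by
    rw [Category.assoc, ← Category.assoc a, hcomm, Category.assoc, ← Category.assoc,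
      ← Functor.map_comp, pb.w, Functor.map_comp, Category.assoc, Functor.map_comp,
      Category.assoc, sq.w]
  have h1 : P (pullback.snd k (hc.rep.snd (b ≫ g)) ≫ hc.rep.fst' (b ≫ g)).left :=
    h _ c _ ha' hc hw
  have h2 : P (pullback.snd k (hc.rep.snd (b ≫ g))).left := by
    rw [Over.comp_left] at h1
    exact hcancel _ _ hQ h1
  exact DescendsAlong.of_isPullback (Q := @Surjective ⊓ @Flat ⊓ @LocallyOfFinitePresentation)
    pb'.flip ⟨⟨hs2, (inferInstance : Flat (hc.rep.snd (b ≫ g)).left)⟩,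
      (inferInstance : LocallyOfFinitePresentation (hc.rep.snd (b ≫ g)).left)⟩ h2

/-- **S10666** in `Sp` form. -/
theorem isLCIMor_of_comp_smooth {X Y Z : Sp S} (hZ : IsAlgSpace Z) (f : X ⟶ Y) (q : Y ⟶ Z)
    (hq : LocP @Smooth q) (hp : IsLCIMor (f ≫ q)) : IsLCIMor f := by
  haveI := Groth.Agent.H94.LciLocal.lci_descendsAlong_fppf.{u}
  refine locP_of_comp_of_locQ AlgSp.lci @Smooth ?_ hZ f q hq hp
  intro A B C k l hl hkl
  haveI : Smooth l := hl
  exact Groth.Agent.S9729.result k l hkl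

end Groth.Agent.H94.LciSp
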