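import Groth.Agent.H64.LocQ.LftST
import Groth.Agent.H94.KoszulLocusSp
import Groth.Agent.H94.LciSp
import Groth.Agent.H51.SpLciFpqc
import Groth.Agent.S9729

/-!
# lci morphisms of algebraic spaces are smooth local on the source-and-target (helper94)

* `lci_isZariskiLocalAtSource`, `lci_isLocalAtSource_smoothPrecoverage` (schemes);
* `isSmoothLocalST_lci : AlgSp.IsSmoothLocalST AlgSp.IsLCIMor`.
-/

set_option autoImplicit false
universe u
open CategoryTheory CategoryTheory.Limits AlgebraicGeometry Opposite MorphismProperty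
  TopologicalSpace

namespace Groth.Agent.H94.LciSmoothST

open Groth.Agent.H94.LciLocal

variable {S : Scheme.{u}}

/-- lci is Zariski local on the source. -/
instance lci_isZariskiLocalAtSource : IsZariskiLocalAtSource AlgSp.lci.{u} :=
  IsZariskiLocalAtSource.mk'
    (fun f U hf => lci_comp U.ι f (lci_of_smooth U.ι) hf)
    (fun {X Y} f {ι} U hU H x => by
      have hx : x ∈ iSup U := hU ▸ (trivial : x ∈ (⊤ : X.Opens))
      obtain ⟨i, hi⟩ := Opens.mem_iSup.1 hx
      have h1 := H i ⟨x, hi⟩
      rw [Groth.Agent.H94.KoszulLocusSp.isKoszulAt_openImmersion_comp_iff] at h1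
      exact h1)

theorem smooth_le_lci : (@Smooth : MorphismProperty Scheme.{u}) ≤ AlgSp.lci :=
  fun _ _ g hg => by
    have : Smooth g := hg
    exact lci_of_smooth g

/-- lci is local on the source for the smooth precoverage. -/
theorem lci_isLocalAtSource_smoothPrecoverage :
    MorphismProperty.IsLocalAtSource (AlgSp.lci : MorphismProperty Scheme.{u})
      (Scheme.precoverage @Smooth) where
  __ := (inferInstance : AlgSp.lci.{u}.RespectsIso)
  comp {X Y f R} hR U g hg hf := by
    have : Smooth g := hR.2 hg
    exact lci_comp g f (lci_of_smooth g) hf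
  of_forall_comp {X Y f R} hR H :=
    Groth.Agent.H64.LocQ.of_forall_comp_of_mem_smoothPrecoverage (P := AlgSp.lci.{u})
      (fun e h he hs H => Groth.Agent.H51.etLocSrc_lci e h he hs H)
      (fun σ g f hg he hgf => by
        have : Smooth g := hg
        have : Etale (σ ≫ g) := he
        have h1 : AlgSp.lci (σ ≫ g) := lci_of_smooth _
        have h2 : AlgSp.lci σ := Groth.Agent.S9729.result σ g h1
        rw [Category.assoc]
        exact lci_comp σ (g ≫ f) h2 hgf)
      f R hR H

/-- being a local complete intersection morphism is smooth local on the source-and-target -/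
theorem isSmoothLocalST_lci : AlgSp.IsSmoothLocalST (AlgSp.IsLCIMor (S := S)) :=
  Groth.Agent.S10567.result _
    ((Groth.Agent.S10580.result S AlgSp.lci).2.2.1 lci_isLocalAtSource_smoothPrecoverage)
    (Groth.Agent.H64.LocQ.isLocalOnBase_sm_of_fppf
      (Groth.Agent.H64.PTh.isLocalOnBase_fppf_of_fpqc Groth.Agent.H51.isLocalOnBase_fpqc_isLCIMor))
    (fun _ Y _ f g hf hg =>
      Groth.Agent.H53.locP_comp (P := AlgSp.lci) (Q := AlgSp.lci)
        (fun k h hk hh => lci_comp k h hk hh)
        (fun e h he hes H => Groth.Agent.H51.etLocSrc_lci e h he hes H) Y.property f.hom g.hom hf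
        (Groth.Agent.H64.PTh.locP_mono smooth_le_lci _ hg))

end Groth.Agent.H94.LciSmoothST
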