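import Mathlib
import Groth.Prelude.Def_RegImm
import Groth.Agent.H94.RegDescentScheme

/-!
# descent of regular immersions of a given kind along flat surjective open maps (e.g. fppf, etale covers)

`RegDescentScheme.isRegularImmersion_of_isPullback_fpqc` needs `QuasiCompact g` only to find, over every
affine open `U` of the base, an affine scheme flat over `X'` whose image is `U`.  Here that input is
abstracted (`isRegularImmersion_of_isPullback_cover`) and produced for open maps
(`exists_affine_flat_cover_of_isOpenMap`).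
-/

set_option autoImplicit false
set_option linter.style.haveILetI false
universe u

open AlgebraicGeometry CategoryTheory CategoryTheory.Limits

namespace Groth.Agent.H94.RegDescentOpen

open Groth.Agent.H94.RegDescentScheme
open Groth.Agent.H39.RelRegGeom Groth.Agent.H39.ImmCompChart Groth.Agent.H39.RegImmStalk3
open Groth.Agent.H94.RegDescent

/-- An affine scheme, flat over `X'`, whose image in `X` is the affine open `U`: for an open
surjective flat `g` (no quasi-compactness). -/
theorem exists_affine_flat_cover_of_isOpenMap {X X' : Scheme.{u}} (g : X' ⟶ X) [Flat g]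
    [Surjective g] (hg : IsOpenMap g) (U : X.Opens) (hU : IsAffineOpen U) :
    ∃ (W : Scheme.{u}) (c : W ⟶ X'), IsAffine W ∧ Flat c ∧ (∀ w, g (c w) ∈ U) ∧
      ∀ x ∈ U, ∃ w, g (c w) = x := by
  obtain ⟨V₀, hVc, hVU⟩ := hg.exists_opens_image_eq_of_prespectralSpace g.continuous
    (U := (U : Set X)) (fun x _ => g.surjective x) U.2 hU.isCompact
  let V : X'.Opens := V₀
  haveI : CompactSpace V.toScheme := isCompact_iff_compactSpace.mp hVc
  let 𝒰 := V.toScheme.affineCover.finiteSubcover
  let p : (∐ fun j : 𝒰.I₀ => 𝒰.X j) ⟶ V.toScheme := Sigma.desc fun j => 𝒰.f j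
  refine ⟨∐ fun j : 𝒰.I₀ => 𝒰.X j, p ≫ V.ι, inferInstance, inferInstance, ?_, ?_⟩
  · intro w
    rw [Scheme.Hom.comp_apply]
    have : g (V.ι (p w)) ∈ g '' (V : Set X') := ⟨V.ι (p w), (p w).2, rfl⟩
    rw [hVU] at this
    exact this
  · intro x hx
    have hx' : x ∈ g '' (V : Set X') := by rw [hVU]; exact hx
    obtain ⟨x', hx'V, rfl⟩ := hx'
    let v : V.toScheme := ⟨x', hx'V⟩
    obtain ⟨j, y, hy⟩ := 𝒰.exists_eq v
    refine ⟨(Sigma.ι (fun j : 𝒰.I₀ => 𝒰.X j) j) y, ?_⟩
    have h1 : p ((Sigma.ι (fun j : 𝒰.I₀ => 𝒰.X j) j) y) = v := by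
      rw [← Scheme.Hom.comp_apply, Sigma.ι_desc]
      exact hy
    rw [Scheme.Hom.comp_apply, h1]
    rfl

/-- descent of regular immersions of kind `k` along a flat `g` such that every affine open of the
base is the image of an affine scheme flat over the source of `g`. -/
theorem isRegularImmersion_of_isPullback_cover (k : RegImm.Kind)
    (hk : DescOK.{u} (fun R _ l => k.Seq R l))
    {X Y X' Y' : Scheme.{u}} (i : Y ⟶ X) [IsImmersion i] (g : X' ⟶ X) [Flat g]
    (hcov : ∀ (U : X.Opens), IsAffineOpen U → ∃ (W : Scheme.{u}) (c : W ⟶ X'), IsAffine W ∧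
      Flat c ∧ (∀ w, g (c w) ∈ U) ∧ ∀ x ∈ U, ∃ w, g (c w) = x)
    (i' : Y' ⟶ X') (g' : Y' ⟶ Y) (hsq : IsPullback g' i' i g)
    (hi' : RegImm.IsRegularImmersion k i') : RegImm.IsRegularImmersion k i := by
  refine ⟨inferInstance, fun y => ?_⟩
  obtain ⟨U, hU, hyU, hcl⟩ := exists_affine_closedImmersion i y
  haveI := hcl
  obtain ⟨W, c, hWaff, hcflat, hcU, hcsurj⟩ := hcov U hU
  haveI := hWaff
  haveI := hcflat
  -- base change to `W`
  have hsqW : IsPullback (pullback.fst i (c ≫ g)) (pullback.snd i (c ≫ g)) i (c ≫ g) :=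
    IsPullback.of_hasPullback i (c ≫ g)
  have hiW : RegImm.IsRegularImmersion k (pullback.snd i (c ≫ g)) := by
    have hcond : pullback.fst i (c ≫ g) ≫ i = (pullback.snd i (c ≫ g) ≫ c) ≫ g := by
      rw [Category.assoc]; exact pullback.condition
    have hsq' : IsPullback (hsq.lift (pullback.fst i (c ≫ g)) (pullback.snd i (c ≫ g) ≫ c) hcond)
        (pullback.snd i (c ≫ g)) i' c :=
      IsPullback.of_right (by rw [hsq.lift_fst]; exact hsqW) (hsq.lift_snd _ _ _) hsq
    exact Groth.Agent.H94.KindFlat.isRegularImmersion_of_isPullback_flat k i' c _ _ hsq' hi'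
  have hWtop : IsAffineOpen (⊤ : W.Opens) := isAffineOpen_top W
  have hle : (⊤ : W.Opens) ≤ (c ≫ g) ⁻¹ᵁ U := fun w _ => by
    show (c ≫ g) w ∈ U
    rw [Scheme.Hom.comp_apply]
    exact hcU w
  have hφflat : ((c ≫ g).appLE U ⊤ hle).hom.Flat :=
    HasRingHomProperty.appLE (P := @Flat) (c ≫ g) inferInstance ⟨U, hU⟩ ⟨⊤, hWtop⟩ hle
  have hφsurj : Function.Surjective (PrimeSpectrum.comap ((c ≫ g).appLE U ⊤ hle).hom) := by
    intro p
    obtain ⟨x, rfl⟩ := exists_primeIdealOf_eq hU p
    obtain ⟨w, hw⟩ := hcsurj x.1 x.2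
    refine ⟨hWtop.primeIdealOf ⟨w, TopologicalSpace.Opens.mem_top w⟩, ?_⟩
    refine (IsAffineOpen.comap_primeIdealOf_appLE (f := c ≫ g) (x := w) U hU ⊤ hWtop hle
      (TopologicalSpace.Opens.mem_top w)).trans ?_
    congr 1
    apply Subtype.ext
    show (c ≫ g) w = x.1
    rw [Scheme.Hom.comp_apply]
    exact hw
  haveI hclWtop : IsClosedImmersion (pullback.snd i (c ≫ g) ∣_ (⊤ : W.Opens)) :=
    isClosedImmersion_restrict_of_isPullback hsqW hle
  haveI hclW : IsClosedImmersion (pullback.snd i (c ≫ g)) :=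
    IsZariskiLocalAtTarget.of_iSup_eq_top (P := @IsClosedImmersion) (fun _ : Unit => (⊤ : W.Opens))
      (by simp) (fun _ => hclWtop)
  have hkerW := ker_app_of_isPullback hsqW hle hU hWtop
  have H : LocGen (fun R _ l => k.Seq R l)
      ((RingHom.ker (i.app U).hom).map ((c ≫ g).appLE U ⊤ hle).hom) := by
    rw [← hkerW]
    exact locGen_of_isRegularImmersion k hk _ hWtop hiW
  have hmain := Groth.Agent.H94.RegDescent.main _ (RingHom.ker (i.app U).hom) hk hφflat hφsurj H
  obtain ⟨hU', -⟩ := isAffineOpen_preimage_and_surjective_of_isClosedImmersion_restrict i U hU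
  have hp := ker_app_le_primeIdealOf i y U hU hyU hU'
  obtain ⟨a, ha, f, hf, hspan⟩ := hmain (hU.primeIdealOf ⟨i y, hyU⟩) hp
  have hya : i y ∈ X.basicOpen a := (mem_basicOpen_iff hU ⟨i y, hyU⟩ a).mpr ha
  have hD : IsAffineOpen (X.basicOpen a) := hU.basicOpen a
  have hDle : X.basicOpen a ≤ U := X.basicOpen_le a
  have hclD : IsClosedImmersion (i ∣_ X.basicOpen a) := isClosedImmersion_restrict_of_le i hDle
  have hkerD := ker_app_of_le i hDle hU hD
  letI : Algebra Γ(X, U) Γ(X, X.basicOpen a) :=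
    (X.presheaf.map (homOfLE hDle).op).hom.toAlgebra
  haveI : IsLocalization.Away a Γ(X, X.basicOpen a) := hU.isLocalization_basicOpen a
  let ψ : Localization.Away a ≃ₐ[Γ(X, U)] Γ(X, X.basicOpen a) :=
    IsLocalization.algEquiv (Submonoid.powers a) _ _
  have hψflat : (ψ : Localization.Away a →+* Γ(X, X.basicOpen a)).Flat :=
    RingHom.Flat.of_bijective ψ.bijective
  have hψ : (ψ : Localization.Away a →+* Γ(X, X.basicOpen a)).comp
      (algebraMap Γ(X, U) (Localization.Away a)) = (X.presheaf.map (homOfLE hDle).op).hom := by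
    ext x
    exact ψ.commutes x
  refine ⟨⟨X.basicOpen a, hD⟩, hya, hclD,
    f.map (ψ : Localization.Away a →+* Γ(X, X.basicOpen a)), hk.flat _ hψflat f hf, ?_⟩
  rw [hkerD, ← hψ, ← Ideal.map_map, hspan, Ideal.map_ofList]


/-- descent of regular immersions of kind `k` along flat, surjective, open maps. -/
theorem isRegularImmersion_of_isPullback_open (k : RegImm.Kind)
    (hk : DescOK.{u} (fun R _ l => k.Seq R l))
    {X Y X' Y' : Scheme.{u}} (i : Y ⟶ X) [IsImmersion i] (g : X' ⟶ X) [Flat g] [Surjective g]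
    (hg : IsOpenMap g) (i' : Y' ⟶ X') (g' : Y' ⟶ Y) (hsq : IsPullback g' i' i g)
    (hi' : RegImm.IsRegularImmersion k i') : RegImm.IsRegularImmersion k i :=
  isRegularImmersion_of_isPullback_cover k hk i g
    (fun U hU => exists_affine_flat_cover_of_isOpenMap g hg U hU) i' g' hsq hi'

/-- descent of regular immersions of kind `k` along fppf covers. -/
theorem isRegularImmersion_of_isPullback_fppf (k : RegImm.Kind)
    (hk : DescOK.{u} (fun R _ l => k.Seq R l))
    {X Y X' Y' : Scheme.{u}} (i : Y ⟶ X) [IsImmersion i] (g : X' ⟶ X) [Flat g] [Surjective g]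
    [LocallyOfFinitePresentation g] (i' : Y' ⟶ X') (g' : Y' ⟶ Y) (hsq : IsPullback g' i' i g)
    (hi' : RegImm.IsRegularImmersion k i') : RegImm.IsRegularImmersion k i :=
  isRegularImmersion_of_isPullback_open k hk i g g.isOpenMap i' g' hsq hi'

end Groth.Agent.H94.RegDescentOpen
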