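import Groth.Agent.H94.LciSp
import Groth.Agent.H94.RegDescentOpen
import Groth.Agent.H39.LCIIntoSmooth

/-!
# an immersion of an etale chart of an lci algebraic space into a smooth space is Koszul-regular
-/

set_option autoImplicit false
universe u
open CategoryTheory CategoryTheory.Limits AlgebraicGeometry Opposite MorphismProperty

namespace Groth.Agent.H94.LciSp

open AlgSp

variable {S : Scheme.{u}}

/-- **S10664** in `Sp` form. -/
theorem isRegImmMor_of_lci_into_smooth {X Y P U : Sp S} (hY : IsAlgSpace Y) (f : X ⟶ Y)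
    (g : P ⟶ Y) (e : U ⟶ X) (i : U ⟶ P) (hc : i ≫ g = e ≫ f) (hf : IsLCIMor f)
    (hg : LocP @Smooth g) (he : IsEtaleMor e) (hi : RepWith @IsImmersion i) :
    IsRegImmMor RegImm.Kind.koszul i := by
  refine ⟨hi.rep, ?_⟩
  intro V W b fst snd hb sq
  have himm : IsImmersion snd.left := hi.property b fst snd sq
  obtain ⟨T, c, hc', hcs⟩ := hY.atlas
  have sqT := hc'.rep.isPullback' (b ≫ g)
  have hs1 : Etale (hc'.rep.snd (b ≫ g)).left := hc'.property_snd (b ≫ g)
  have hs2 : Surjective (hc'.rep.snd (b ≫ g)).left := hcs.property_snd (b ≫ g)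
  have hb' : RepWith @Etale ((yon S).map (hc'.rep.snd (b ≫ g)) ≫ b) :=
    (RepWith @Etale).comp_mem _ _ ((repWith_yon_map_iff _ _).2 hs1) hb
  have ht : Smooth (hc'.rep.fst' (b ≫ g)).left :=
    hg _ c (hc'.rep.fst' (b ≫ g)) hb' hc' (by rw [Category.assoc]; exact sqT.w.symm)
  -- `W' = W ×_V V'`
  have pb : IsPullback (pullback.fst snd (hc'.rep.snd (b ≫ g)))
      (pullback.snd snd (hc'.rep.snd (b ≫ g))) snd (hc'.rep.snd (b ≫ g)) :=
    IsPullback.of_hasPullback _ _
  have pb' := pb.map (Over.forget S)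
  have he1 : Etale (pullback.fst snd (hc'.rep.snd (b ≫ g))).left :=
    MorphismProperty.of_isPullback (P := @Etale) pb'.flip hs1
  have hfst : RepWith @Etale fst := (RepWith @Etale).of_isPullback sq.flip hb
  have hφ : RepWith @Etale ((yon S).map (pullback.fst snd (hc'.rep.snd (b ≫ g))) ≫ fst) :=
    (RepWith @Etale).comp_mem _ _ ((repWith_yon_map_iff _ _).2 he1) hfst
  have ha' : RepWith @Etale
      (((yon S).map (pullback.fst snd (hc'.rep.snd (b ≫ g))) ≫ fst) ≫ e) := he _ hφ
  have hw : (((yon S).map (pullback.fst snd (hc'.rep.snd (b ≫ g))) ≫ fst) ≫ e) ≫ f =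
      (yon S).map (pullback.snd snd (hc'.rep.snd (b ≫ g)) ≫ hc'.rep.fst' (b ≫ g)) ≫ c := by
    rw [Category.assoc, Category.assoc, ← hc, ← Category.assoc fst, sq.w, Category.assoc,
      ← Category.assoc, ← Functor.map_comp, pb.w, Functor.map_comp, Category.assoc,
      Functor.map_comp, Category.assoc, sqT.w]
  have h1 : AlgSp.lci
      (pullback.snd snd (hc'.rep.snd (b ≫ g)) ≫ hc'.rep.fst' (b ≫ g)).left :=
    hf _ c _ ha' hc' hw
  haveI : IsImmersion (pullback.snd snd (hc'.rep.snd (b ≫ g))).left :=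
    MorphismProperty.of_isPullback (P := @IsImmersion) pb' himm
  have h2 : RegImm.IsRegularImmersion RegImm.Kind.koszul
      (pullback.snd snd (hc'.rep.snd (b ≫ g))).left :=
    Groth.Agent.H39.LCIIntoSmooth.koszulRegularImmersion_of_lci_into_smooth _ h1
      (hc'.rep.fst' (b ≫ g)).left _ (Over.comp_left _ _ _ _ _).symm
  exact Groth.Agent.H94.RegDescentOpen.isRegularImmersion_of_isPullback_fppf RegImm.Kind.koszul
    Groth.Agent.H94.RegDescent.descOK_koszul snd.left (hc'.rep.snd (b ≫ g)).left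
    (pullback.snd snd (hc'.rep.snd (b ≫ g))).left
    (pullback.fst snd (hc'.rep.snd (b ≫ g))).left pb' h2

end Groth.Agent.H94.LciSp
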