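import Groth.Prelude.Def_GSzMilK

set_option autoImplicit false
universe u v w

namespace Groth.Agent.H94

open MilK

/-- Two additive maps out of a Milnor K-group that agree on symbols are equal. -/
theorem milK_addHom_ext {F : Type u} [Field F] {n : ℕ} {M : Type w} [AddCommGroup M]
    (f g : MilK.K F n →+ M) (h : ∀ x : Fin n → Fˣ, f (symbol x) = g (symbol x)) : f = g := by
  ext y
  obtain ⟨t, rfl⟩ := MilK.mk_surjective F n y
  have h2 : (f.comp (MilK.mk F n)).toIntLinearMap = (g.comp (MilK.mk F n)).toIntLinearMap := by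
    apply PiTensorProduct.ext
    ext x
    simp only [LinearMap.compMultilinearMap_apply, AddMonoidHom.coe_toIntLinearMap,
      AddMonoidHom.coe_comp, Function.comp_apply]
    rw [MilK.mk_tprod]
    exact h _
  exact DFunLike.congr_fun h2 t

/-- The symbol is multiplicative in its first entry. -/
theorem symbol_cons_mul {F : Type u} [Field F] {n : ℕ} (a b : Fˣ) (t : Fin n → Fˣ) :
    symbol (Fin.cons (a * b) t : Fin (n + 1) → Fˣ) =
      symbol (Fin.cons a t : Fin (n + 1) → Fˣ) + symbol (Fin.cons b t : Fin (n + 1) → Fˣ) := by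
  unfold symbol
  rw [← map_add]
  congr 1
  have h := (PiTensorProduct.tprod ℤ (s := fun _ : Fin (n + 1) => Additive Fˣ)).map_update_add
    (fun i => Additive.ofMul ((Fin.cons 1 t : Fin (n + 1) → Fˣ) i)) 0
    (Additive.ofMul a) (Additive.ofMul b)
  have e : ∀ c : Fˣ, (fun i => Additive.ofMul ((Fin.cons c t : Fin (n + 1) → Fˣ) i)) =
      Function.update (fun i => Additive.ofMul ((Fin.cons 1 t : Fin (n + 1) → Fˣ) i)) 0
        (Additive.ofMul c) := by
    intro c
    funext i
    refine Fin.cases ?_ (fun j => ?_) i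
    · simp
    · simp
  rw [e (a * b), e a, e b, ofMul_mul]
  exact h

/-- The tame symbol kills symbols of units. -/
theorem tame_units_eq_zero (B : Type u) [CommRing B] [IsDomain B] [IsDiscreteValuationRing B]
    (F : Type v) [Field F] [Algebra B F] [IsFractionRing B F] (n : ℕ)
    (d : MilK.K F (n + 1) →+ MilK.K (IsLocalRing.ResidueField B) n) (hd : MilK.IsTameSymbol B F n d)
    (u : Fin (n + 1) → Bˣ) :
    d (symbol fun i => unitToFrac B F (u i)) = 0 := by
  obtain ⟨ϖ, hϖ⟩ := IsDiscreteValuationRing.exists_irreducible B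
  have hϖ' : Irreducible ((u 0 : B) * ϖ) := (irreducible_units_mul (u 0)).mpr hϖ
  have e1 : unitFrac B F ((u 0 : B) * ϖ) hϖ'.ne_zero =
      unitToFrac B F (u 0) * unitFrac B F ϖ hϖ.ne_zero := by
    ext
    simp [unitToFrac]
  have e2 : (fun i => unitToFrac B F (u i)) =
      (Fin.cons (unitToFrac B F (u 0)) (fun i : Fin n => unitToFrac B F (u i.succ)) :
        Fin (n + 1) → Fˣ) := by
    funext i
    refine Fin.cases ?_ (fun j => ?_) i <;> simp
  have h1 := hd _ hϖ' (fun i : Fin n => u i.succ)
  have h2 := hd _ hϖ (fun i : Fin n => u i.succ)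
  rw [e1, symbol_cons_mul, map_add, h2] at h1
  rw [e2]
  exact add_eq_right.mp h1

end Groth.Agent.H94
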