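import Groth.Agent.H94.MilK
import Mathlib.Tactic.FieldSimp
import Mathlib.Tactic.Ring
import Mathlib.Tactic.Abel

set_option autoImplicit false
universe u v w

namespace Groth.Agent.H94

open MilK

section Slots

variable {F : Type u} [Field F] {N : ℕ}

/-- The symbol is multiplicative in each slot. -/
theorem symbol_update_mul (x : Fin N → Fˣ) (i : Fin N) (a b : Fˣ) :
    symbol (Function.update x i (a * b)) =
      symbol (Function.update x i a) + symbol (Function.update x i b) := by
  unfold symbol
  rw [← map_add]
  congr 1
  have h := (PiTensorProduct.tprod ℤ (s := fun _ : Fin N => Additive Fˣ)).map_update_add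
    (fun k => Additive.ofMul (x k)) i (Additive.ofMul a) (Additive.ofMul b)
  have e : ∀ c : Fˣ, (fun k => Additive.ofMul (Function.update x i c k)) =
      Function.update (fun k => Additive.ofMul (x k)) i (Additive.ofMul c) := by
    intro c
    funext k
    by_cases hk : k = i
    · subst hk; simp
    · simp [Function.update_of_ne hk]
  rw [e, e, e, ofMul_mul]
  exact h

theorem symbol_update_one (x : Fin N → Fˣ) (i : Fin N) :
    symbol (Function.update x i 1) = 0 := by
  have h := symbol_update_mul x i 1 1
  rw [mul_one] at h
  exact left_eq_add.mp h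

theorem symbol_update_inv (x : Fin N → Fˣ) (i : Fin N) (a : Fˣ) :
    symbol (Function.update x i a⁻¹) = -symbol (Function.update x i a) := by
  have h := symbol_update_mul x i a a⁻¹
  rw [mul_inv_cancel, symbol_update_one] at h
  exact (neg_eq_of_add_eq_zero_right h.symm).symm

theorem symbol_update_pow (x : Fin N → Fˣ) (i : Fin N) (a : Fˣ) (k : ℕ) :
    symbol (Function.update x i (a ^ k)) = k • symbol (Function.update x i a) := by
  induction k with
  | zero => rw [pow_zero, symbol_update_one, zero_smul]
  | succ k ih => rw [pow_succ, symbol_update_mul, ih, succ_nsmul]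

theorem symbol_update_zpow (x : Fin N → Fˣ) (i : Fin N) (a : Fˣ) (k : ℤ) :
    symbol (Function.update x i (a ^ k)) = k • symbol (Function.update x i a) := by
  cases k with
  | ofNat k => rw [Int.ofNat_eq_natCast, zpow_natCast, symbol_update_pow, natCast_zsmul]
  | negSucc k =>
    rw [zpow_negSucc, symbol_update_inv, symbol_update_pow, negSucc_zsmul]

/-- Steinberg relation for any two distinct slots. -/
theorem symbol_steinberg (x : Fin N → Fˣ) (i j : Fin N) (hij : i ≠ j)
    (h : (x i : F) + (x j : F) = 1) : symbol x = 0 := by
  rcases lt_or_gt_of_ne hij with hlt | hgt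
  · exact symbol_eq_zero_of_isSteinberg x ⟨i, j, hlt, h⟩
  · exact symbol_eq_zero_of_isSteinberg x ⟨j, i, hgt, by rw [add_comm]; exact h⟩

/-- `{a, -a} = 0` in any two distinct slots. -/
theorem symbol_update_neg_self (x : Fin N → Fˣ) (i j : Fin N) (hij : i ≠ j) (a : Fˣ) :
    symbol (Function.update (Function.update x i a) j (-a)) = 0 := by
  by_cases ha : a = 1
  · subst ha
    rw [Function.update_comm hij, symbol_update_one]
  · have ha' : (a : F) ≠ 1 := fun h => ha (Units.ext h)
    have hb0 : (1 : F) - a ≠ 0 := sub_ne_zero.mpr (Ne.symm ha')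
    have hc0 : (1 : F) - (a : F)⁻¹ ≠ 0 := by
      rw [sub_ne_zero]
      intro h
      apply ha'
      have := congrArg (fun t : F => t⁻¹) h
      simpa using this.symm
    let b : Fˣ := Units.mk0 _ hb0
    let c : Fˣ := Units.mk0 _ hc0
    have hw : -a = b * c⁻¹ := by
      ext
      simp only [Units.val_neg, Units.val_mul, Units.val_inv_eq_inv_val, b, c, Units.val_mk0]
      have ha0 : (a : F) ≠ 0 := a.ne_zero
      field_simp
      ring
    have h1 : symbol (Function.update (Function.update x i a) j b) = 0 := by
      apply symbol_steinberg _ i j hij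
      rw [Function.update_of_ne hij, Function.update_self, Function.update_self]
      simp [b]
    have h2 : symbol (Function.update (Function.update x i a) j c) = 0 := by
      have h3 : symbol (Function.update (Function.update x i a⁻¹) j c) = 0 := by
        apply symbol_steinberg _ i j hij
        rw [Function.update_of_ne hij, Function.update_self, Function.update_self]
        simp [c]
      rw [Function.update_comm hij, symbol_update_inv, neg_eq_zero, Function.update_comm hij.symm] at h3
      exact h3
    rw [hw, symbol_update_mul, symbol_update_inv, h1, h2, neg_zero, add_zero]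

/-- Swapping the entries of two distinct slots changes the sign. -/
theorem symbol_update_swap (x : Fin N → Fˣ) (i j : Fin N) (hij : i ≠ j) (a b : Fˣ) :
    symbol (Function.update (Function.update x i a) j b) +
      symbol (Function.update (Function.update x i b) j a) = 0 := by
  have h0 := symbol_update_neg_self x i j hij (a * b)
  have hsplit : ∀ w : Fˣ, symbol (Function.update (Function.update x i (a * b)) j w) =
      symbol (Function.update (Function.update x i a) j w) +
        symbol (Function.update (Function.update x i b) j w) := by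
    intro w
    rw [Function.update_comm hij (a * b) w x, symbol_update_mul,
      ← Function.update_comm hij a w x, ← Function.update_comm hij b w x]
  rw [hsplit] at h0
  have e1 : -(a * b) = -a * b := by rw [neg_mul]
  have e2 : -(a * b) = b * -a := by rw [mul_neg, mul_comm]
  have h1 : symbol (Function.update (Function.update x i a) j (-(a * b))) =
      symbol (Function.update (Function.update x i a) j b) := by
    rw [e1, symbol_update_mul, symbol_update_neg_self x i j hij a, zero_add]
  have e3 : -(a * b) = a * -b := by rw [mul_neg]
  have h2 : symbol (Function.update (Function.update x i b) j (-(a * b))) =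
      symbol (Function.update (Function.update x i b) j a) := by
    rw [e3, symbol_update_mul, symbol_update_neg_self x i j hij b, add_zero]
  rw [h1, h2] at h0
  exact h0

/-- `{a, a} = {a, -1}` in any two distinct slots. -/
theorem symbol_update_self_self (x : Fin N → Fˣ) (i j : Fin N) (hij : i ≠ j) (a : Fˣ) :
    symbol (Function.update (Function.update x i a) j a) =
      symbol (Function.update (Function.update x i a) j (-1)) := by
  have e : a = -a * -1 := by rw [mul_neg, mul_one, neg_neg]
  calc symbol (Function.update (Function.update x i a) j a)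
      = symbol (Function.update (Function.update x i a) j (-a * -1)) := by rw [← e]
    _ = symbol (Function.update (Function.update x i a) j (-1)) := by
      rw [symbol_update_mul, symbol_update_neg_self x i j hij a, zero_add]

end Slots

section DVR

variable (B : Type u) [CommRing B] [IsDomain B] [IsDiscreteValuationRing B]
  (F : Type v) [Field F] [Algebra B F] [IsFractionRing B F]

/-- Every unit of the fraction field is a power of the uniformizer times a unit of the ring. -/
theorem exists_zpow_mul_unit (ϖ : B) (hϖ : Irreducible ϖ) (a : Fˣ) :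
    ∃ (k : ℤ) (w : Bˣ), a = unitFrac B F ϖ hϖ.ne_zero ^ k * unitToFrac B F w := by
  obtain ⟨b, c, hc, hbc⟩ := IsFractionRing.div_surjective B (a : F)
  have hc0 : c ≠ 0 := nonZeroDivisors.ne_zero hc
  have hb0 : b ≠ 0 := by
    rintro rfl
    rw [map_zero, zero_div] at hbc
    exact a.ne_zero hbc.symm
  obtain ⟨m, w₁, hb⟩ := IsDiscreteValuationRing.eq_unit_mul_pow_irreducible hb0 hϖ
  obtain ⟨l, w₂, hc'⟩ := IsDiscreteValuationRing.eq_unit_mul_pow_irreducible hc0 hϖ
  refine ⟨(m : ℤ) - (l : ℤ), w₁ * w₂⁻¹, ?_⟩
  have hπ0 : algebraMap B F ϖ ≠ 0 :=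
    mt (IsFractionRing.to_map_eq_zero_iff (K := F)).mp hϖ.ne_zero
  have hw₂ : algebraMap B F (w₂ : B) ≠ 0 :=
    mt (IsFractionRing.to_map_eq_zero_iff (K := F)).mp w₂.ne_zero
  ext
  rw [← hbc, hb, hc']
  simp only [map_mul, map_pow, Units.val_mul, Units.val_zpow_eq_zpow_val, coe_unitFrac, unitToFrac,
    Units.coe_map, MonoidHom.coe_coe]
  rw [zpow_sub₀ hπ0, zpow_natCast, zpow_natCast]
  have h3 : algebraMap B F ((w₂⁻¹ : Bˣ) : B) = (algebraMap B F (w₂ : B))⁻¹ := by
    apply eq_inv_of_mul_eq_one_left
    rw [← map_mul, Units.inv_mul, map_one]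
  rw [h3]
  field_simp

/-- Two additive maps out of `K_{n+1}` of the fraction field of a discrete valuation ring agree as soon
as they agree on the symbols `{π, u₁, …, uₙ}` and `{u₀, …, uₙ}`. -/
theorem tame_ext (n : ℕ) {M : Type w} [AddCommGroup M] (f g : MilK.K F (n + 1) →+ M)
    (h1 : ∀ (ϖ : B) (hϖ : Irreducible ϖ) (u : Fin n → Bˣ),
      f (symbol (Fin.cons (unitFrac B F ϖ hϖ.ne_zero) fun i => unitToFrac B F (u i))) =
      g (symbol (Fin.cons (unitFrac B F ϖ hϖ.ne_zero) fun i => unitToFrac B F (u i))))
    (h2 : ∀ u : Fin (n + 1) → Bˣ,
      f (symbol fun i => unitToFrac B F (u i)) = g (symbol fun i => unitToFrac B F (u i))) :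
    f = g := by
  obtain ⟨ϖ, hϖ⟩ := IsDiscreteValuationRing.exists_irreducible B
  set π : Fˣ := unitFrac B F ϖ hϖ.ne_zero with hπ
  have hneg1 : (-1 : Fˣ) = unitToFrac B F (-1) := by
    ext; simp [unitToFrac]
  have hU : ∀ x : Fin (n + 1) → Fˣ, (∀ i, ∃ w : Bˣ, x i = unitToFrac B F w) →
      f (symbol x) = g (symbol x) := by
    intro x hx
    choose w hw using hx
    have : x = fun i => unitToFrac B F (w i) := funext hw
    rw [this]; exact h2 w
  have hcons : ∀ y : Fin (n + 1) → Fˣ, y 0 = π →
      (∀ k : Fin n, ∃ w : Bˣ, y k.succ = unitToFrac B F w) → f (symbol y) = g (symbol y) := by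
    intro y h0 hy
    choose w hw using hy
    have : y = Fin.cons π (fun k => unitToFrac B F (w k)) := by
      funext i
      refine Fin.cases ?_ (fun k => ?_) i
      · simpa using h0
      · simpa using hw k
    rw [this]; exact h1 ϖ hϖ w
  have hone : ∀ x : Fin (n + 1) → Fˣ, (∀ i, ∃ w : Bˣ, x i = unitToFrac B F w) →
      ∀ i, f (symbol (Function.update x i π)) = g (symbol (Function.update x i π)) := by
    intro x hx i
    by_cases hi : i = 0
    · subst hi
      apply hcons
      · simp
      · intro k
        rw [Function.update_of_ne (Fin.succ_ne_zero k)]; exact hx _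
    · have hsw := symbol_update_swap x 0 i (Ne.symm hi) (x 0) π
      rw [Function.update_eq_self] at hsw
      have e : symbol (Function.update x i π) =
          -symbol (Function.update (Function.update x 0 π) i (x 0)) :=
        eq_neg_of_add_eq_zero_left hsw
      rw [e, map_neg, map_neg]
      congr 1
      apply hcons
      · rw [Function.update_of_ne (Ne.symm hi), Function.update_self]
      · intro k
        by_cases hk : k.succ = i
        · rw [hk, Function.update_self]; exact hx 0
        · rw [Function.update_of_ne hk, Function.update_of_ne (Fin.succ_ne_zero k)]; exact hx _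
  have main : ∀ s : Finset (Fin (n + 1)), ∀ x : Fin (n + 1) → Fˣ,
      (∀ i ∉ s, ∃ w : Bˣ, x i = unitToFrac B F w) →
      (f (symbol x) = g (symbol x) ∧
        ∀ i ∉ s, f (symbol (Function.update x i π)) = g (symbol (Function.update x i π))) := by
    intro s
    induction s using Finset.induction_on with
    | empty =>
      intro x hx
      have hx' : ∀ i, ∃ w : Bˣ, x i = unitToFrac B F w := fun i => hx i (Finset.notMem_empty i)
      exact ⟨hU x hx', fun i _ => hone x hx' i⟩
    | insert j s hj ih =>
      intro x hx
      obtain ⟨k, w, hjw⟩ := exists_zpow_mul_unit B F ϖ hϖ (x j)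
      have hgood : ∀ (c : Fˣ), (∃ w', c = unitToFrac B F w') →
          ∀ i ∉ s, ∃ w' : Bˣ, Function.update x j c i = unitToFrac B F w' := by
        intro c hc i hi
        by_cases hij : i = j
        · subst hij; rw [Function.update_self]; exact hc
        · rw [Function.update_of_ne hij]; exact hx i (by simp [hij, hi])
      constructor
      · have hxj : x = Function.update x j (π ^ k * unitToFrac B F w) := by
          rw [← hjw, Function.update_eq_self]
        rw [hxj, symbol_update_mul, symbol_update_zpow, map_add, map_add, map_zsmul, map_zsmul]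
        have ha := (ih (Function.update x j 1) (hgood 1 ⟨1, by simp⟩)).2 j hj
        rw [Function.update_idem] at ha
        have hb := (ih (Function.update x j (unitToFrac B F w)) (hgood _ ⟨w, rfl⟩)).1
        rw [ha, hb]
      · intro i hi
        have hij : i ≠ j := fun h => hi (h ▸ Finset.mem_insert_self j s)
        have his : i ∉ s := fun h => hi (Finset.mem_insert_of_mem h)
        have e : Function.update x i π =
            Function.update (Function.update x i π) j (π ^ k * unitToFrac B F w) := by
          rw [← hjw]
          have : x j = Function.update x i π j := by rw [Function.update_of_ne (Ne.symm hij)]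
          rw [this, Function.update_eq_self]
        rw [e, symbol_update_mul, symbol_update_zpow, map_add, map_add, map_zsmul, map_zsmul]
        rw [symbol_update_self_self x i j hij π]
        rw [Function.update_comm hij π (-1) x, Function.update_comm hij π (unitToFrac B F w) x]
        have ha := (ih (Function.update x j (-1)) (hgood (-1) ⟨-1, hneg1⟩)).2 i his
        have hb := (ih (Function.update x j (unitToFrac B F w)) (hgood _ ⟨w, rfl⟩)).2 i his
        rw [ha, hb]
  apply milK_addHom_ext
  intro x
  exact (main Finset.univ x (fun i hi => absurd (Finset.mem_univ i) hi)).1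

end DVR

section Tuples

theorem append_one_comp_cast {X : Type*} {m : ℕ} (a : X) (t : Fin m → X) :
    (Fin.append ![a] t ∘ Fin.cast (Nat.add_comm 1 m).symm) = (Fin.cons a t : Fin (m + 1) → X) := by
  funext i
  refine Fin.cases ?_ (fun j => ?_) i
  · have : Fin.cast (Nat.add_comm 1 m).symm (0 : Fin (m + 1)) = Fin.castAdd m (0 : Fin 1) := by
      ext; simp
    rw [Function.comp_apply, this, Fin.append_left]
    simp
  · have : Fin.cast (Nat.add_comm 1 m).symm j.succ = Fin.natAdd 1 j := by
      ext; simp [Nat.add_comm]
    rw [Function.comp_apply, this, Fin.append_right]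
    simp

/-- `{a, b, t} = -{b, a, t}`. -/
theorem symbol_cons_cons_swap {F : Type u} [Field F] {m : ℕ} (a b : Fˣ) (t : Fin m → Fˣ) :
    symbol (Fin.cons a (Fin.cons b t) : Fin (m + 1 + 1) → Fˣ) =
      -symbol (Fin.cons b (Fin.cons a t) : Fin (m + 1 + 1) → Fˣ) := by
  have h01 : (0 : Fin (m + 1 + 1)) ≠ 1 := by
    intro h
    have := congrArg Fin.val h
    simp at this
  have hsw := symbol_update_swap (Fin.cons a (Fin.cons b t) : Fin (m + 1 + 1) → Fˣ) 0 1 h01 a b
  have e1 : Function.update (Function.update (Fin.cons a (Fin.cons b t) : Fin (m + 1 + 1) → Fˣ) 0 a) 1 b =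
      Fin.cons a (Fin.cons b t) := by
    have h0 : Function.update (Fin.cons a (Fin.cons b t) : Fin (m + 1 + 1) → Fˣ) 0 a =
        Fin.cons a (Fin.cons b t) := Function.update_eq_self_iff.mpr rfl
    rw [h0]
    exact Function.update_eq_self_iff.mpr rfl
  have e2 : Function.update (Function.update (Fin.cons a (Fin.cons b t) : Fin (m + 1 + 1) → Fˣ) 0 b) 1 a =
      Fin.cons b (Fin.cons a t) := by
    funext i
    refine Fin.cases ?_ (fun j => ?_) i
    · rw [Function.update_of_ne h01, Function.update_self]; rfl
    · refine Fin.cases ?_ (fun l => ?_) j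
      · have : (Fin.succ (0 : Fin (m + 1)) : Fin (m + 1 + 1)) = 1 := rfl
        rw [this, Function.update_self]; rfl
      · have h1 : (Fin.succ (Fin.succ l) : Fin (m + 1 + 1)) ≠ 1 := by
          intro h
          have := congrArg Fin.val h
          simp at this
        have h0 : (Fin.succ (Fin.succ l) : Fin (m + 1 + 1)) ≠ 0 := Fin.succ_ne_zero _
        rw [Function.update_of_ne h1, Function.update_of_ne h0]; rfl
  rw [e1, e2] at hsw
  exact eq_neg_of_add_eq_zero_left hsw

end Tuples

end Groth.Agent.H94
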