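import Mathlib
import Groth.Agent.H94.RegSeqAppend
import Groth.Prelude.Def_Mor2

/-!
# Regular closed immersions: restriction to basic opens and composition (helper94)
-/

namespace Groth.Agent.H94.RegClosedImm

open CategoryTheory AlgebraicGeometry RingTheory.Sequence TopologicalSpace

universe u

/-- Restricting generators of the kernel to a basic open. -/
theorem ker_restrict {Z X : Scheme.{u}} (i : Z ⟶ X) [QuasiCompact i] (U : X.Opens)
    (hU : IsAffineOpen U) (rs : List Γ(X, U)) (hrs : IsWeaklyRegular Γ(X, U) rs)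
    (hker : i.ker.ideal ⟨U, hU⟩ = Ideal.ofList rs)
    (f : Γ(X, U)) (W : X.Opens) (hW : IsAffineOpen W) (hWU : W ≤ U) (e : W = X.basicOpen f) :
    ∃ rs' : List Γ(X, W), IsWeaklyRegular Γ(X, W) rs' ∧
      RingHom.ker (i.app W).hom = Ideal.ofList rs' := by
  let Ua : X.affineOpens := ⟨U, hU⟩
  let Wa : X.affineOpens := ⟨W, hW⟩
  have hWaU : Wa ≤ Ua := hWU
  refine ⟨rs.map (X.presheaf.map (homOfLE hWU).op).hom, ?_, ?_⟩
  · letI : Algebra Γ(X, U) Γ(X, W) := (X.presheaf.map (homOfLE hWU).op).hom.toAlgebra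
    haveI : IsLocalization.Away f Γ(X, W) := hU.isLocalization_of_eq_basicOpen f (homOfLE hWU) e
    exact IsWeaklyRegular.of_isLocalization Γ(X, W) (Submonoid.powers f) hrs
  · have h1 := i.ker.map_ideal hWaU
    rw [hker, Ideal.map_ofList, Scheme.Hom.ker_apply] at h1
    exact h1.symm

theorem comp {Z Y X : Scheme.{u}} (i : Z ⟶ Y) (j : Y ⟶ X)
    (hi : Mor2.IsRegularClosedImmersion i) (hj : Mor2.IsRegularClosedImmersion j) :
    Mor2.IsRegularClosedImmersion (i ≫ j) := by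
  haveI := hi.1
  haveI := hj.1
  refine ⟨inferInstance, fun z => ?_⟩
  obtain ⟨U, hU, hzU, rs, hrs, hkerU⟩ := hj.2 (i z)
  obtain ⟨V, hV, hzV, ss, hss, hkerV⟩ := hi.2 z
  have hU' : IsAffineOpen (j ⁻¹ᵁ U) := hU.preimage j
  obtain ⟨f, g, hfg, hyf⟩ := exists_basicOpen_le_affine_inter hU' hV (i z) ⟨hzU, hzV⟩
  obtain ⟨F, hF⟩ := j.app_surjective U hU f
  have hW : IsAffineOpen (X.basicOpen F) := hU.basicOpen F
  have hWU : X.basicOpen F ≤ U := X.basicOpen_le F
  have hpre : j ⁻¹ᵁ X.basicOpen F = Y.basicOpen g := by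
    rw [Scheme.preimage_basicOpen, hF, hfg]
  have hW' : IsAffineOpen (j ⁻¹ᵁ X.basicOpen F) := hW.preimage j
  have hW'V : j ⁻¹ᵁ X.basicOpen F ≤ V := hpre ▸ Y.basicOpen_le g
  -- kernels on the smaller opens
  obtain ⟨rs', hrs', hker1⟩ := ker_restrict j U hU rs hrs.toIsWeaklyRegular hkerU F
    (X.basicOpen F) hW hWU rfl
  obtain ⟨ss', hss', hker2⟩ := ker_restrict i V hV ss hss.toIsWeaklyRegular hkerV g
    (j ⁻¹ᵁ X.basicOpen F) hW' hW'V hpre
  have hz' : i z ∈ j ⁻¹ᵁ X.basicOpen F := by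
    rw [Scheme.preimage_basicOpen, hF]; exact hyf
  have hzW : (i ≫ j) z ∈ X.basicOpen F := hz'
  refine ⟨X.basicOpen F, hW, hzW, ?_⟩
  have hsurj : Function.Surjective (j.app (X.basicOpen F)).hom := j.app_surjective _ hW
  -- lift ss'
  let ts : List Γ(X, X.basicOpen F) := ss'.map (Function.surjInv hsurj)
  have hts : ts.map (j.app (X.basicOpen F)).hom = ss' := by
    simp only [ts, List.map_map]
    conv_rhs => rw [← List.map_id ss']
    refine List.map_congr_left fun a _ => ?_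
    exact Function.surjInv_eq hsurj a
  have hne : (⊤ : Ideal Γ(Y, j ⁻¹ᵁ X.basicOpen F)) ≠ Ideal.ofList ss' := by
    rw [← hker2]
    intro htop
    haveI : Nontrivial Γ(Z, i ⁻¹ᵁ (j ⁻¹ᵁ X.basicOpen F)) :=
      @Scheme.component_nontrivial Z (i ⁻¹ᵁ (j ⁻¹ᵁ X.basicOpen F)) ⟨⟨z, hz'⟩⟩
    have h1 : (1 : Γ(Y, j ⁻¹ᵁ X.basicOpen F)) ∈ RingHom.ker (i.app (j ⁻¹ᵁ X.basicOpen F)).hom := by
      rw [← htop]; trivial
    rw [RingHom.mem_ker, map_one] at h1
    exact one_ne_zero h1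
  have hreg2 : IsRegular Γ(Y, j ⁻¹ᵁ X.basicOpen F) (ts.map (j.app (X.basicOpen F)).hom) := by
    rw [hts]
    refine ⟨hss', ?_⟩
    rw [smul_eq_mul, Ideal.mul_top]
    exact hne
  refine ⟨rs' ++ ts, Groth.Agent.H94.RegSeqAppend.isRegular_append_of_surjective
    (j.app (X.basicOpen F)).hom hsurj rs' hker1 hrs' ts hreg2, ?_⟩
  rw [Scheme.Hom.ker_apply]
  change RingHom.ker ((j.app (X.basicOpen F) ≫ i.app (j ⁻¹ᵁ X.basicOpen F)).hom) = _
  rw [CommRingCat.hom_comp, ← RingHom.comap_ker, hker2,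
    ← hts, ← Ideal.map_ofList, Ideal.comap_map_of_surjective _ hsurj, ← RingHom.ker_eq_comap_bot,
    hker1, Ideal.ofList_append, sup_comm]

end Groth.Agent.H94.RegClosedImm
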