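import Mathlib

/-!
# Algebra core for S18937 (helper94)

* `isRegular_cons_of_surjective`: lift a regular sequence along a surjection with principal kernel
  generated by a non-zero-divisor.
* `isSMulRegular_C_mul_X_sub_one`: `C h * X - 1` is a non-zero-divisor of `R[X]`.
-/

namespace Groth.Agent.H94.RegImmCore

open RingTheory.Sequence Polynomial
open scoped Pointwise

universe u v

theorem isRegular_cons_of_surjective {Q L : Type*} [CommRing Q] [CommRing L] (ρ : Q →+* L)
    (hρ : Function.Surjective ρ) (F₀ : Q) (hker : RingHom.ker ρ = Ideal.span {F₀})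
    (hF₀ : IsSMulRegular Q F₀) (Fs : List Q) (hreg : IsRegular L (Fs.map ρ)) :
    IsRegular Q (F₀ :: Fs) := by
  letI := ρ.toAlgebra
  rw [isRegular_cons_iff]
  refine ⟨hF₀, ?_⟩
  have hk : LinearMap.ker (Algebra.linearMap Q L) = (F₀ • ⊤ : Submodule Q Q) := by
    ext x
    rw [LinearMap.mem_ker, Algebra.linearMap_apply, Submodule.mem_smul_pointwise_iff_exists]
    have : algebraMap Q L x = 0 ↔ x ∈ Ideal.span {F₀} := by
      rw [← hker, RingHom.mem_ker]; rfl
    rw [this, Ideal.mem_span_singleton']
    constructor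
    · rintro ⟨a, rfl⟩; exact ⟨a, trivial, by simp [mul_comm]⟩
    · rintro ⟨a, -, rfl⟩; exact ⟨a, by simp [mul_comm]⟩
  have hsurj : Function.Surjective (Algebra.linearMap Q L) := hρ
  let e : QuotSMulTop F₀ Q ≃ₗ[Q] L :=
    (Submodule.quotEquivOfEq _ _ hk.symm).trans
      ((Algebra.linearMap Q L).quotKerEquivOfSurjective hsurj)
  refine (e.toAddEquiv.isRegular_congr (as := Fs) (bs := Fs.map ρ) ?_).mpr hreg
  refine List.forall₂_map_right_iff.mpr (List.forall₂_same.mpr fun r _ x => ?_)
  change e (r • x) = ρ r • e x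
  rw [map_smul, Algebra.smul_def]
  rfl

theorem isSMulRegular_C_mul_X_sub_one {R : Type*} [CommRing R] (h : R) :
    IsSMulRegular R[X] (C h * X - 1 : R[X]) := by
  intro f g hfg
  have h0 : (C h * X - 1 : R[X]) * (f - g) = 0 := by
    have : (C h * X - 1 : R[X]) * f = (C h * X - 1) * g := hfg
    rw [mul_sub, this, sub_self]
  have h1 : f - g = C h * X * (f - g) := by
    have := h0
    rw [sub_mul, one_mul, sub_eq_zero] at this
    exact this.symm
  have h2 : ∀ k : ℕ, (f - g).coeff k = 0 := by
    intro k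
    induction k with
    | zero =>
      rw [h1, mul_assoc, coeff_C_mul, mul_comm X, coeff_mul_X_zero, mul_zero]
    | succ k ih =>
      rw [h1, mul_assoc, coeff_C_mul, mul_comm X, coeff_mul_X, ih, mul_zero]
  have : f - g = 0 := Polynomial.ext (by simpa using h2)
  exact sub_eq_zero.mp this

end Groth.Agent.H94.RegImmCore
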