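import Mathlib
import Groth.Agent.H94.RegImmCore

/-!
# Algebra core for S18937, part 2 (helper94)

`core`: `P = A[X_1..X_n]`, `I ⊆ P`, `h ∈ P`, `L` a localization of `P` away from `h`, and
`I L = (rs)` with `rs` a regular sequence of `L`.  Then `(P/I)_h` is `A`-isomorphic to
`A[X_0..X_n]/(F)` with `F` a regular sequence.
-/

namespace Groth.Agent.H94.RegImmCore

open RingTheory.Sequence Polynomial
open scoped Pointwise

universe u

theorem core (A : Type u) [CommRing A] (n : ℕ) (I : Ideal (MvPolynomial (Fin n) A))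
    (h : MvPolynomial (Fin n) A)
    (L : Type u) [CommRing L] [Algebra (MvPolynomial (Fin n) A) L] [IsLocalization.Away h L]
    (rs : List L) (hreg : IsRegular L rs)
    (hI : I.map (algebraMap (MvPolynomial (Fin n) A) L) = Ideal.ofList rs) :
    ∃ (d : ℕ) (F : Fin d → MvPolynomial (Fin (n + 1)) A),
      IsRegular (MvPolynomial (Fin (n + 1)) A) (List.ofFn F) ∧
      Nonempty (Localization.Away (Ideal.Quotient.mk I h) ≃ₐ[A]
        (MvPolynomial (Fin (n + 1)) A ⧸ Ideal.ofList (List.ofFn F))) := by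
  letI : Algebra A L :=
    ((algebraMap (MvPolynomial (Fin n) A) L).comp (algebraMap A (MvPolynomial (Fin n) A))).toAlgebra
  haveI : IsScalarTower A (MvPolynomial (Fin n) A) L := IsScalarTower.of_algebraMap_eq fun _ => rfl
  -- the localization as AdjoinRoot
  let f₀ : (MvPolynomial (Fin n) A)[X] := C h * X - 1
  haveI : IsLocalization.Away h (AdjoinRoot f₀) := IsLocalization.adjoin_inv h
  let e₃ : AdjoinRoot f₀ ≃ₐ[MvPolynomial (Fin n) A] L :=
    IsLocalization.algEquiv (Submonoid.powers h) (AdjoinRoot f₀) L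
  let ρ : MvPolynomial (Fin (n + 1)) A →ₐ[A] L :=
    (e₃.restrictScalars A).toAlgHom.comp
      (((AdjoinRoot.mkₐ f₀).restrictScalars A).comp (MvPolynomial.finSuccEquiv A n).toAlgHom)
  have hρ_apply : ∀ x, ρ x = e₃ (AdjoinRoot.mk f₀ (MvPolynomial.finSuccEquiv A n x)) := fun _ => rfl
  have hρsurj : Function.Surjective ρ := by
    intro y
    obtain ⟨y₁, hy₁⟩ := e₃.surjective y
    obtain ⟨y₂, hy₂⟩ := AdjoinRoot.mk_surjective y₁
    obtain ⟨y₃, hy₃⟩ := (MvPolynomial.finSuccEquiv A n).surjective y₂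
    exact ⟨y₃, by rw [hρ_apply, hy₃, hy₂, hy₁]⟩
  let F₀ : MvPolynomial (Fin (n + 1)) A := (MvPolynomial.finSuccEquiv A n).symm f₀
  have hker : RingHom.ker (ρ : MvPolynomial (Fin (n + 1)) A →+* L) = Ideal.span {F₀} := by
    ext x
    rw [RingHom.mem_ker, Ideal.mem_span_singleton]
    change ρ x = 0 ↔ _
    rw [hρ_apply, EmbeddingLike.map_eq_zero_iff, AdjoinRoot.mk_eq_zero,
      ← map_dvd_iff (MvPolynomial.finSuccEquiv A n) (a := F₀)]
    simp only [F₀, AlgEquiv.apply_symm_apply]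
  have hF₀ : IsSMulRegular (MvPolynomial (Fin (n + 1)) A) F₀ := by
    intro x y hxy
    have h1 : F₀ * x = F₀ * y := hxy
    have h2 := congrArg (MvPolynomial.finSuccEquiv A n) h1
    simp only [map_mul, F₀, AlgEquiv.apply_symm_apply] at h2
    exact (MvPolynomial.finSuccEquiv A n).injective (isSMulRegular_C_mul_X_sub_one h h2)
  -- lift the regular sequence
  let Fs : List (MvPolynomial (Fin (n + 1)) A) := rs.map (Function.surjInv hρsurj)
  have hFs : Fs.map (ρ : MvPolynomial (Fin (n + 1)) A →+* L) = rs := by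
    simp only [Fs, List.map_map]
    conv_rhs => rw [← List.map_id rs]
    refine List.map_congr_left fun a _ => ?_
    exact Function.surjInv_eq hρsurj a
  have hregQ : IsRegular (MvPolynomial (Fin (n + 1)) A) (F₀ :: Fs) :=
    isRegular_cons_of_surjective (ρ : MvPolynomial (Fin (n + 1)) A →+* L) hρsurj F₀ hker hF₀ Fs
      (by rw [hFs]; exact hreg)
  refine ⟨(F₀ :: Fs).length, fun i => (F₀ :: Fs).get i, ?_, ?_⟩
  · rw [List.ofFn_get]; exact hregQ
  rw [List.ofFn_get]
  -- the isomorphism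
  let J : Ideal L := I.map (algebraMap (MvPolynomial (Fin n) A) L)
  let σ : MvPolynomial (Fin (n + 1)) A →ₐ[A] L ⧸ J := (Ideal.Quotient.mkₐ A J).comp ρ
  have hσsurj : Function.Surjective σ :=
    (Ideal.Quotient.mkₐ_surjective A J).comp hρsurj
  have hσker : RingHom.ker (σ : MvPolynomial (Fin (n + 1)) A →+* L ⧸ J) =
      Ideal.ofList (F₀ :: Fs) := by
    have h1 : (σ : MvPolynomial (Fin (n + 1)) A →+* L ⧸ J) =
        (Ideal.Quotient.mk J).comp (ρ : MvPolynomial (Fin (n + 1)) A →+* L) := rfl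
    rw [h1, ← RingHom.comap_ker, Ideal.mk_ker]
    have h2 : J = Ideal.map (ρ : MvPolynomial (Fin (n + 1)) A →+* L) (Ideal.ofList Fs) := by
      rw [Ideal.map_ofList, hFs]; exact hI
    rw [h2, Ideal.comap_map_of_surjective (ρ : MvPolynomial (Fin (n + 1)) A →+* L) hρsurj,
      ← RingHom.ker_eq_comap_bot, hker,
      Ideal.ofList_cons, sup_comm]
  let iso₁ : (MvPolynomial (Fin (n + 1)) A ⧸ Ideal.ofList (F₀ :: Fs)) ≃ₐ[A] L ⧸ J :=
    (Ideal.quotientEquivAlgOfEq A hσker.symm).trans (Ideal.quotientKerAlgEquivOfSurjective hσsurj)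
  -- the localization side
  haveI : IsLocalization (Submonoid.powers (Ideal.Quotient.mk I h)) (L ⧸ J) := by
    have h1 : Algebra.algebraMapSubmonoid (MvPolynomial (Fin n) A ⧸ I) (Submonoid.powers h) =
        Submonoid.powers (Ideal.Quotient.mk I h) := by
      rw [Algebra.algebraMapSubmonoid, Submonoid.map_powers]; rfl
    rw [← h1]
    infer_instance
  let iso₂ : Localization.Away (Ideal.Quotient.mk I h) ≃ₐ[MvPolynomial (Fin n) A ⧸ I] L ⧸ J :=
    IsLocalization.algEquiv (Submonoid.powers (Ideal.Quotient.mk I h)) _ _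
  let iso₂' : Localization.Away (Ideal.Quotient.mk I h) ≃ₐ[A] L ⧸ J :=
    AlgEquiv.ofRingEquiv (f := iso₂.toRingEquiv) (fun a => by
      rw [IsScalarTower.algebraMap_apply A (MvPolynomial (Fin n) A ⧸ I)
        (Localization.Away (Ideal.Quotient.mk I h))]
      change iso₂ _ = _
      rw [iso₂.commutes]
      rfl)
  exact ⟨iso₂'.trans iso₁.symm⟩

end Groth.Agent.H94.RegImmCore
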