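import Mathlib
import Groth.Agent.S14036
import Groth.Agent.H74.FrobDiff
import Groth.Agent.H39.KoszulAtBridge3

/-!
# Flatness of the relative Frobenius: from rings to schemes
-/

set_option autoImplicit false
set_option linter.style.haveILetI false
universe u

open CategoryTheory CategoryTheory.Limits

namespace Groth.Agent.H94.RelFrobFlat

open TensorProduct in
/-- Ring-level: if `R` is (abstractly) the pushout of `A → B` along the Frobenius of `A` and
`ρ : R → B` restricts to the Frobenius of `B` and the structure map of `A`, then `ρ` is flat when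
`B` is smooth over `A`. -/
theorem flat_of_isPushout (p : ℕ) [Fact p.Prime] (A B R : Type u) [CommRing A] [CommRing B]
    [CommRing R] [CharP A p] [CharP B p] [Algebra A B] [Algebra.Smooth A B]
    (i₁ : B →+* R) (i₂ : A →+* R)
    (hpush : IsPushout (CommRingCat.ofHom (algebraMap A B)) (CommRingCat.ofHom (frobenius A p))
      (CommRingCat.ofHom i₁) (CommRingCat.ofHom i₂))
    (ρ : R →+* B) (hρ₁ : ρ.comp i₁ = frobenius B p) (hρ₂ : ρ.comp i₂ = algebraMap A B) :
    ρ.Flat := by
  -- the tensor product pushout, transported along `A ≃ Twist p A`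
  have h0 := CommRingCat.isPushout_tensorProduct A B (FrobAlg.Twist p A)
  let τ : CommRingCat.of A ≅ CommRingCat.of (FrobAlg.Twist p A) :=
    (FrobAlg.toTwist p A).toCommRingCatIso
  have h1 : IsPushout (CommRingCat.ofHom (algebraMap A B)) (CommRingCat.ofHom (frobenius A p))
      (CommRingCat.ofHom (Algebra.TensorProduct.includeLeft (R := A) (S := A) (A := B)
        (B := FrobAlg.Twist p A)).toRingHom)
      (CommRingCat.ofHom ((Algebra.TensorProduct.includeRight (R := A) (A := B)
        (B := FrobAlg.Twist p A)).toRingHom.comp (FrobAlg.toTwist p A : A →+* FrobAlg.Twist p A))) := by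
    refine IsPushout.of_iso h0 (Iso.refl _) (Iso.refl _) τ.symm (Iso.refl _) ?_ ?_ ?_ ?_
    · simp
    · ext a
      rfl
    · rfl
    · ext a
      rfl
  let θ := h1.isoIsPushout _ _ hpush
  have hθ₁ : (CommRingCat.ofHom (Algebra.TensorProduct.includeLeft (R := A) (S := A) (A := B)
        (B := FrobAlg.Twist p A)).toRingHom) ≫ θ.hom = CommRingCat.ofHom i₁ :=
    h1.inl_isoIsPushout_hom _ _ hpush
  have hθ₂ : (CommRingCat.ofHom ((Algebra.TensorProduct.includeRight (R := A) (A := B)
        (B := FrobAlg.Twist p A)).toRingHom.comp (FrobAlg.toTwist p A : A →+* FrobAlg.Twist p A))) ≫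
      θ.hom = CommRingCat.ofHom i₂ :=
    h1.inr_isoIsPushout_hom _ _ hpush
  -- `ρ ∘ θ = relFrob`
  have hcomp : θ.hom ≫ CommRingCat.ofHom ρ = CommRingCat.ofHom (FrobAlg.relFrob p A B) := by
    apply h1.hom_ext
    · rw [← Category.assoc, hθ₁]
      ext b
      show ρ (i₁ b) = FrobAlg.relFrob p A B (b ⊗ₜ 1)
      rw [← RingHom.comp_apply, hρ₁]
      simp [FrobAlg.relFrob, FrobAlg.frobHom, FrobAlg.toTarget, frobenius_def]
      try rfl
    · rw [← Category.assoc, hθ₂]
      ext a
      show ρ (i₂ a) = FrobAlg.relFrob p A B (1 ⊗ₜ (FrobAlg.toTwist p A a))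
      rw [← RingHom.comp_apply, hρ₂]
      simp [FrobAlg.relFrob, FrobAlg.inclHom, FrobAlg.toTarget]
      try rfl
  have hflat : (FrobAlg.relFrob p A B).Flat := Groth.Agent.S14036.result p A B
  have hρ : ρ = (FrobAlg.relFrob p A B).comp θ.inv.hom := by
    have : CommRingCat.ofHom ρ = θ.inv ≫ CommRingCat.ofHom (FrobAlg.relFrob p A B) := by
      rw [← hcomp, Iso.inv_hom_id_assoc]
    exact congrArg CommRingCat.Hom.hom this
  rw [hρ]
  refine RingHom.Flat.comp ?_ hflat
  exact RingHom.Flat.of_bijective (ConcreteCategory.bijective_of_isIso θ.inv)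


open AlgebraicGeometry FrobSch TopologicalSpace

/-- a ring of sections over an affine open containing a point is nontrivial. -/
theorem nontrivial_of_mem {X : Scheme.{u}} {U : X.Opens} (hU : IsAffineOpen U) (x : X)
    (hx : x ∈ U) : Nontrivial Γ(X, U) := by
  by_contra hnt
  rw [not_nontrivial_iff_subsingleton] at hnt
  exact (hU.primeIdealOf ⟨x, hx⟩).isPrime.ne_top (Subsingleton.elim _ _)

/-- **Flatness of the relative Frobenius of a smooth morphism** (scheme level). -/
theorem flat_relFrob {X S : Scheme.{u}} (f : X ⟶ S) [Smooth f] (p : ℕ) [Fact p.Prime]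
    [IsCharP S p] : Flat (relFrob f p) := by
  haveI : IsCharP X p := IsCharP.of_hom f p
  rw [HasRingHomProperty.iff_exists_appLE (P := @Flat)
    (RingHom.Flat.stableUnderComposition.stableUnderCompositionWithLocalizationAway
      RingHom.Flat.holdsForLocalizationAway).left]
  intro x
  obtain ⟨W, hW, hxW, -⟩ :=
    (Opens.isBasis_iff_nbhd.mp S.isBasis_affineOpens) (Opens.mem_top (f x))
  obtain ⟨U, hU, hxU, hUW⟩ :=
    (Opens.isBasis_iff_nbhd.mp X.isBasis_affineOpens) (show x ∈ f ⁻¹ᵁ W from hxW)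
  have H : IsPullback (pullback.fst f (frob S p)) (pullback.snd f (frob S p)) f (frob S p) :=
    IsPullback.of_hasPullback _ _
  have hWW : W ≤ frob S p ⁻¹ᵁ W := le_rfl
  set V : (frobTwist f p).Opens :=
    pullback.fst f (frob S p) ⁻¹ᵁ U ⊓ pullback.snd f (frob S p) ⁻¹ᵁ W with hVdef
  have hVaff : IsAffineOpen V := by
    haveI : IsAffine (W : Scheme) := hW
    haveI : IsAffine (U : Scheme) := hU
    exact .of_isIso (Scheme.Hom.isPullback_resLE H hWW hUW rfl).isoPullback.hom
  have hUV : U ≤ relFrob f p ⁻¹ᵁ V := by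
    intro y hy
    refine ⟨?_, ?_⟩
    · show (pullback.fst f (frob S p)) ((relFrob f p) y) ∈ U
      rw [← Scheme.Hom.comp_apply, relFrob_fst]
      exact hy
    · show (pullback.snd f (frob S p)) ((relFrob f p) y) ∈ W
      rw [← Scheme.Hom.comp_apply, relFrob_snd]
      exact hUW hy
  refine ⟨⟨V, hVaff⟩, ⟨U, hU⟩, hxU, hUV, ?_⟩
  have hpush := (isIso_pushoutSection_iff H hWW hUW rfl).mp
    (isIso_pushoutSection_of_isAffineOpen H hWW hUW rfl hW hW hU)
  letI : Algebra Γ(S, W) Γ(X, U) := (f.appLE W U hUW).hom.toAlgebra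
  haveI : Nontrivial Γ(X, U) := nontrivial_of_mem hU x hxU
  haveI : Nontrivial Γ(S, W) := nontrivial_of_mem hW (f x) hxW
  haveI : CharP Γ(S, W) p := (CharP.charP_iff_prime_eq_zero Fact.out).2 (natCast_eq_zero_app S p W)
  haveI : CharP Γ(X, U) p := (CharP.charP_iff_prime_eq_zero Fact.out).2 (natCast_eq_zero_app X p U)
  haveI : Algebra.Smooth Γ(S, W) Γ(X, U) := by
    have h1 : (f.appLE W U hUW).hom.Smooth :=
      HasRingHomProperty.appLE (P := @Smooth) f inferInstance ⟨W, hW⟩ ⟨U, hU⟩ hUW
    exact h1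
  have hfrob : (frob S p).appLE W W hWW = CommRingCat.ofHom (frobenius Γ(S, W) p) := by
    ext s
    rw [Groth.Agent.H74.FrobDiff.frob_appLE]
    rfl
  rw [hfrob] at hpush
  have hpush' : IsPushout (CommRingCat.ofHom (algebraMap Γ(S, W) Γ(X, U)))
      (CommRingCat.ofHom (frobenius Γ(S, W) p))
      (CommRingCat.ofHom ((pullback.fst f (frob S p)).appLE U V inf_le_left).hom)
      (CommRingCat.ofHom ((pullback.snd f (frob S p)).appLE W V inf_le_right).hom) := hpush
  refine flat_of_isPushout p Γ(S, W) Γ(X, U) Γ(frobTwist f p, V)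
    ((pullback.fst f (frob S p)).appLE U V inf_le_left).hom
    ((pullback.snd f (frob S p)).appLE W V inf_le_right).hom hpush'
    ((relFrob f p).appLE V U hUV).hom ?_ ?_
  · rw [← CommRingCat.hom_comp, Scheme.Hom.appLE_comp_appLE]
    ext s
    have h2 : (relFrob f p ≫ pullback.fst f (frob S p)) = frob X p := relFrob_fst f p
    rw [Groth.Agent.H39.KoszulAtBridge3.appLE_congr_hom h2]
    rw [Groth.Agent.H74.FrobDiff.frob_appLE]
    rfl
  · rw [← CommRingCat.hom_comp, Scheme.Hom.appLE_comp_appLE]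
    have h2 : (relFrob f p ≫ pullback.snd f (frob S p)) = f := relFrob_snd f p
    rw [Groth.Agent.H39.KoszulAtBridge3.appLE_congr_hom h2]
    rfl

end Groth.Agent.H94.RelFrobFlat
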