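import Mathlib.LinearAlgebra.RootSystem.Defs
import Mathlib.LinearAlgebra.RootSystem.Base
import Mathlib.LinearAlgebra.RootSystem.IsValuedIn
import Mathlib.LinearAlgebra.RootSystem.Reduced
import Mathlib.LinearAlgebra.QuadraticForm.Basic
import Mathlib.LinearAlgebra.Projection
import Mathlib.Tactic.Ring
import Mathlib.Tactic.LinearCombination

set_option autoImplicit false
universe u v w x

namespace Groth.Agent.H94

variable {ι : Type u} {R : Type v} {M : Type w} {N : Type x} [CommRing R]
  [AddCommGroup M] [Module R M] [AddCommGroup N] [Module R N]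

/-- Value of a quadratic form on a reflected vector. -/
theorem quad_coreflection (P : RootPairing ι R M N) (Q : QuadraticMap R N R) (j : ι) (y : N) :
    Q (P.coreflection j y) = Q y + (P.root' j y) *
      ((P.root' j y) * Q (P.coroot j) - QuadraticMap.polar Q y (P.coroot j)) := by
  have hrefl : P.coreflection j y = y + (-(P.root' j y)) • P.coroot j := by
    rw [RootPairing.coreflection_apply, neg_smul, sub_eq_add_neg]
  rw [hrefl, QuadraticMap.map_add Q, QuadraticMap.map_smul, QuadraticMap.polar_smul_right]
  simp only [smul_eq_mul]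
  ring

/-- Invariance of `Q` under one reflection on a submodule containing the coroot, in polar form. -/
theorem coreflection_invariant_on_iff [IsDomain R] [CharZero R] (P : RootPairing ι R M N)
    (Q : QuadraticMap R N R) (D : Submodule R N) (j : ι) (hj : P.coroot j ∈ D) :
    (∀ y ∈ D, Q (P.coreflection j y) = Q y) ↔
      ∀ y ∈ D, QuadraticMap.polar Q y (P.coroot j) = P.root' j y * Q (P.coroot j) := by
  constructor
  · intro h
    have hne : ∀ y ∈ D, P.root' j y ≠ 0 →
        QuadraticMap.polar Q y (P.coroot j) = P.root' j y * Q (P.coroot j) := by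
      intro y hyD hy
      have h1 := h y hyD
      rw [quad_coreflection] at h1
      have h2 : (P.root' j y) *
          ((P.root' j y) * Q (P.coroot j) - QuadraticMap.polar Q y (P.coroot j)) = 0 := by
        linear_combination h1
      rcases mul_eq_zero.mp h2 with h3 | h3
      · exact absurd h3 hy
      · exact (sub_eq_zero.mp h3).symm
    intro y hyD
    by_cases hy : P.root' j y = 0
    · have h2 : P.root' j (y + P.coroot j) = 2 := by
        rw [map_add, hy, zero_add, RootPairing.root'_coroot_eq_pairing, RootPairing.pairing_same]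
      have h3 := hne (y + P.coroot j) (D.add_mem hyD hj) (by rw [h2]; exact two_ne_zero)
      rw [QuadraticMap.polar_add_left, QuadraticMap.polar_self, h2] at h3
      rw [hy, zero_mul]
      rw [two_nsmul, two_mul] at h3
      exact add_eq_right.mp h3
    · exact hne y hyD hy
  · intro h y hyD
    rw [quad_coreflection, h y hyD, sub_self, mul_zero, add_zero]

/-- The coreflection attached to a reflected root is the conjugate coreflection. -/
theorem coreflection_reflectionPerm' (P : RootPairing ι R M N) (i j : ι) (y : N) :
    P.coreflection (P.reflectionPerm j i) y =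
      P.coreflection j (P.coreflection i (P.coreflection j y)) := by
  have h := P.flip.reflection_reflectionPerm (i := i) (j := j)
  exact congrArg (fun e : N ≃ₗ[R] N => e y) h

/-- The coreflection of the negative of a root is the same coreflection. -/
theorem coreflection_reflectionPerm_self (P : RootPairing ι R M N) (i : ι) (y : N) :
    P.coreflection (P.reflectionPerm i i) y = P.coreflection i y := by
  rw [coreflection_reflectionPerm', RootPairing.coreflection_same]

/-- A polar identity linear in the first variable holds on a span once it holds on generators. -/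
theorem polar_eq_on_span (Q : QuadraticMap R N R) (x : N) (c : R) (f : N →ₗ[R] R) (s : Set N)
    (h : ∀ z ∈ s, QuadraticMap.polar Q z x = f z * c) :
    ∀ y ∈ Submodule.span R s, QuadraticMap.polar Q y x = f y * c := by
  intro y hy
  induction hy using Submodule.span_induction with
  | mem z hz => exact h z hz
  | zero => simp
  | add a b _ _ ha hb => rw [QuadraticMap.polar_add_left, map_add, add_mul, ha, hb]
  | smul r a _ ha =>
    rw [QuadraticMap.polar_smul_left, map_smul, smul_eq_mul, smul_eq_mul, mul_assoc, ha]

/-- Expansion of a quadratic form on `d - c • a`. -/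
theorem quad_sub_smul (Q : QuadraticMap R N R) (d a : N) (c : R) :
    Q (d - c • a) = Q d + c * c * Q a - c * QuadraticMap.polar Q d a := by
  have h : d - c • a = d + (-c) • a := by rw [neg_smul, sub_eq_add_neg]
  rw [h, QuadraticMap.map_add Q, QuadraticMap.map_smul, QuadraticMap.polar_smul_right]
  simp only [smul_eq_mul]
  ring

/-- Existence of an invariant extension of a form given on the derived part `D`, with prescribed
restriction to a complement `Y₀`, from a bilinear form with prescribed values on coroots. -/
theorem exists_invariant_extension [IsDomain R] [CharZero R] (P : RootPairing ι R M N)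
    (D Y₀ : Submodule R N) (hD : ∀ i : ι, P.coroot i ∈ D) (hc : IsCompl Y₀ D)
    (Qd : QuadraticMap R N R) (hQd : ∀ i : ι, ∀ y ∈ D, Qd (P.coreflection i y) = Qd y)
    (Φ : N →ₗ[R] N →ₗ[R] R)
    (hΦ : ∀ y₀ ∈ Y₀, ∀ i : ι, Φ y₀ (P.coroot i) = P.root' i y₀ * Qd (P.coroot i))
    (q₀ : QuadraticMap R Y₀ R) :
    ∃ Q : QuadraticMap R N R, (∀ (i : ι) (y : N), Q (P.coreflection i y) = Q y) ∧
      (∀ y ∈ D, Q y = Qd y) ∧ Q.comp Y₀.subtype = q₀ := by
  let π₀' : N →ₗ[R] Y₀ := Y₀.projectionOnto D hc
  let π₀ : N →ₗ[R] N := Y₀.projection D hc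
  let πD : N →ₗ[R] N := D.projection Y₀ hc.symm
  let Q : QuadraticMap R N R :=
    q₀.comp π₀' + Qd.comp πD + LinearMap.BilinMap.toQuadraticMap (Φ.compl₁₂ π₀ πD)
  have hQ : ∀ y, Q y = q₀ (π₀' y) + Qd (πD y) + Φ (π₀ y) (πD y) := by
    intro y
    simp only [Q, add_apply, QuadraticMap.comp_apply,
      LinearMap.BilinMap.toQuadraticMap_apply, LinearMap.compl₁₂_apply]
  have hπ₀D : ∀ d ∈ D, π₀ d = 0 := fun d hd =>
    Submodule.projection_apply_of_mem_right hc hd
  have hπ₀'D : ∀ d ∈ D, π₀' d = 0 := fun d hd =>
    Submodule.projectionOnto_apply_of_mem_right hc hd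
  have hπDD : ∀ d ∈ D, πD d = d := fun d hd =>
    Submodule.projection_apply_of_mem_left hc.symm hd
  have hπDY : ∀ y ∈ Y₀, πD y = 0 := fun y hy =>
    Submodule.projection_apply_of_mem_right hc.symm hy
  have hπ₀'Y : ∀ y : Y₀, π₀' y = y := fun y =>
    Submodule.projectionOnto_apply_left hc y
  have hsum : ∀ y, π₀ y + πD y = y := fun y => Submodule.projection_add_projection_eq_self hc y
  refine ⟨Q, ?_, ?_, ?_⟩
  · intro i y
    have hα := hD i
    have hy : P.coreflection i y = y - (P.root' i y) • P.coroot i := P.coreflection_apply i y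
    have hpol : QuadraticMap.polar Qd (πD y) (P.coroot i) = P.root' i (πD y) * Qd (P.coroot i) :=
      (coreflection_invariant_on_iff P Qd D i hα).mp (hQd i) (πD y)
        (Submodule.projection_apply_mem hc.symm y)
    have hc0 : P.root' i y = P.root' i (π₀ y) + P.root' i (πD y) := by
      rw [← map_add, hsum]
    rw [hQ, hQ, hy]
    simp only [map_sub, map_smul, hπ₀'D _ hα, hπ₀D _ hα, hπDD _ hα, smul_zero, sub_zero]
    rw [quad_sub_smul, hpol, hΦ (π₀ y) (Submodule.projection_apply_mem hc y) i, smul_eq_mul]
    rw [hc0]
    ring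
  · intro y hy
    rw [hQ, hπ₀'D y hy, hπ₀D y hy, hπDD y hy]
    simp
  · ext y
    rw [QuadraticMap.comp_apply, hQ]
    simp only [Submodule.subtype_apply]
    rw [hπ₀'Y y, hπDY y y.2]
    simp

end Groth.Agent.H94
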