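import Mathlib
import Groth.Agent.H39.RegSpread2
import Groth.Agent.H39.KoszulLCILocal

/-!
# Regular-sequence presentations of localizations (Rabinowitsch trick)

* `exists_away_isWeaklyRegular` : a sequence which is weakly regular in the localization of a
  Noetherian ring at a prime is weakly regular in a basic open neighbourhood.
* `isWeaklyRegular_rabinowitsch` : if `rs` is weakly regular in `P[1/G]` then
  `G Y - 1, rs` is weakly regular in `P[Y]`.
-/

set_option autoImplicit false
set_option linter.style.haveILetI false
universe u

open RingTheory.Sequence MvPolynomial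
open scoped Pointwise

namespace Groth.Agent.H94.SyntRegPres

variable {P : Type u} [CommRing P]

/-- spreading out weak regularity from the local ring at a prime to a basic open. -/
theorem exists_away_isWeaklyRegular [IsNoetherianRing P] (Q : Ideal P) [Q.IsPrime] (rs : List P)
    (h : IsWeaklyRegular (Localization.AtPrime Q)
      (rs.map (algebraMap P (Localization.AtPrime Q)))) :
    ∃ G ∉ Q, IsWeaklyRegular (Localization.Away G)
      (rs.map (algebraMap P (Localization.Away G))) := by
  have h1 : IsWeaklyRegular (Localization.AtPrime Q) rs :=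
    (isWeaklyRegular_map_algebraMap_iff (Localization.AtPrime Q) (Localization.AtPrime Q) rs).mp h
  haveI : IsLocalizedModule Q.primeCompl (Algebra.linearMap P (Localization.AtPrime Q)) :=
    isLocalizedModule_iff_isLocalization.mpr inferInstance
  let e : LocalizedModule Q.primeCompl P ≃ₗ[P] Localization.AtPrime Q :=
    IsLocalizedModule.iso Q.primeCompl (Algebra.linearMap P (Localization.AtPrime Q))
  have h2 : IsWeaklyRegular (LocalizedModule Q.primeCompl P) rs :=
    (e.isWeaklyRegular_congr rs).mpr h1
  obtain ⟨G, hG, H⟩ := Groth.Agent.H39.RegSpread2.isWeaklyRegular_spread rs Q P h2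
  refine ⟨G, hG, ?_⟩
  have h3 := H (Submonoid.powers G) 1 (by rw [mul_one]; exact Submonoid.mem_powers G)
  haveI : IsLocalizedModule (Submonoid.powers G) (Algebra.linearMap P (Localization.Away G)) :=
    isLocalizedModule_iff_isLocalization.mpr inferInstance
  let e' : LocalizedModule (Submonoid.powers G) P ≃ₗ[P] Localization.Away G :=
    IsLocalizedModule.iso (Submonoid.powers G) (Algebra.linearMap P (Localization.Away G))
  have h4 : IsWeaklyRegular (Localization.Away G) rs := (e'.isWeaklyRegular_congr rs).mp h3
  exact (isWeaklyRegular_map_algebraMap_iff (Localization.Away G) (Localization.Away G) rs).mpr h4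

open Groth.Agent.H39.KoszulLCILocal in
/-- Rabinowitsch: a weakly regular sequence of `P[1/G]` coming from `P` gives the weakly regular
sequence `G Y - 1, rs` of `P[Y]`. -/
theorem isWeaklyRegular_rabinowitsch (G : P) (rs : List P)
    (h : IsWeaklyRegular (Localization.Away G) (rs.map (algebraMap P (Localization.Away G)))) :
    IsWeaklyRegular (MvPolynomial Unit P)
      ((C G * X () - 1 : MvPolynomial Unit P) :: rs.map C) := by
  rw [isWeaklyRegular_cons_iff]
  refine ⟨isSMulRegular_CX_sub_one G, ?_⟩
  letI : Algebra (MvPolynomial Unit P) (Localization.Away G) := (awayPres G).toRingHom.toAlgebra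
  have hmap : (rs.map C).map (algebraMap (MvPolynomial Unit P) (Localization.Away G)) =
      rs.map (algebraMap P (Localization.Away G)) := by
    rw [List.map_map]
    apply List.map_congr_left
    intro p _
    show (awayPres G) (C p) = _
    simp [awayPres]
  have h1 : IsWeaklyRegular (Localization.Away G) (rs.map (C : P →+* MvPolynomial Unit P)) := by
    rw [← isWeaklyRegular_map_algebraMap_iff (Localization.Away G) (Localization.Away G), hmap]
    exact h
  -- `P[Y] / (G Y - 1) ≃ P[1/G]` as `P[Y]`-modules
  let l : MvPolynomial Unit P →ₗ[MvPolynomial Unit P] Localization.Away G :=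
    Algebra.linearMap (MvPolynomial Unit P) (Localization.Away G)
  have hl : Function.Surjective l := awayPres_surjective G
  have hker : LinearMap.ker l =
      ((C G * X () - 1 : MvPolynomial Unit P) • ⊤ : Submodule (MvPolynomial Unit P) _) := by
    ext p
    rw [LinearMap.mem_ker]
    have h2 : l p = 0 ↔ p ∈ RingHom.ker (awayPres G).toRingHom := by
      rw [RingHom.mem_ker]; rfl
    rw [h2, ker_awayPres, Ideal.ofList_singleton, Ideal.mem_span_singleton',
      Submodule.mem_smul_pointwise_iff_exists]
    constructor
    · rintro ⟨a, rfl⟩
      exact ⟨a, trivial, by rw [smul_eq_mul, mul_comm]⟩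
    · rintro ⟨a, -, rfl⟩
      exact ⟨a, by rw [smul_eq_mul, mul_comm]⟩
  let e : QuotSMulTop (C G * X () - 1 : MvPolynomial Unit P) (MvPolynomial Unit P)
      ≃ₗ[MvPolynomial Unit P] Localization.Away G :=
    (Submodule.quotEquivOfEq _ _ hker.symm).trans (l.quotKerEquivOfSurjective hl)
  exact (e.isWeaklyRegular_congr _).mpr h1

end Groth.Agent.H94.SyntRegPres
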