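import Mathlib
import Groth.Agent.H94.SyntRegPres
import Groth.Agent.H46.SyntLocal
import Groth.Agent.S9170
import Groth.Agent.H39.LCISmooth2

/-!
# Syntomic algebras over a Noetherian ring are locally `A[T]/(regular sequence)`
-/

set_option autoImplicit false
set_option linter.style.haveILetI false
universe u

open RingTheory.Sequence MvPolynomial
open scoped Pointwise

namespace Groth.Agent.H94.SyntRegPres

/-- transfer of a localization away from an element along an isomorphism of the base with a
localization. -/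
theorem exists_away_ringEquiv {B B₀ S₀ T : Type u} [CommRing B] [CommRing B₀] [CommRing S₀]
    [CommRing T] [Algebra B B₀] (g₀ : B) [IsLocalization.Away g₀ B₀] (e : S₀ ≃+* B₀) (Gb : S₀)
    [Algebra S₀ T] [IsLocalization.Away Gb T] (q : Ideal B) [hq : q.IsPrime] (hg₀ : g₀ ∉ q)
    (hGb : e Gb ∉ q.map (algebraMap B B₀)) :
    ∃ g : B, g ∉ q ∧ ∃ ε : Localization.Away g ≃+* T,
      ∀ b : B, ε (algebraMap B (Localization.Away g) b) =
        algebraMap S₀ T (e.symm (algebraMap B B₀ b)) := by
  letI : Algebra B₀ T := ((algebraMap S₀ T).comp e.symm.toRingHom).toAlgebra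
  letI : Algebra B T := ((algebraMap B₀ T).comp (algebraMap B B₀)).toAlgebra
  haveI : IsScalarTower B B₀ T := IsScalarTower.of_algebraMap_eq (fun _ => rfl)
  have h1 : IsLocalization ((Submonoid.powers Gb).map e) T :=
    IsLocalization.isLocalization_of_base_ringEquiv (Submonoid.powers Gb) T e
  haveI : IsLocalization.Away (e Gb) T := by
    have h2 : (Submonoid.powers Gb).map e = Submonoid.powers (e Gb) := by
      rw [Submonoid.map_powers]
    unfold IsLocalization.Away
    rw [← h2]
    exact h1
  obtain ⟨k, b, hb⟩ := IsLocalization.Away.surj g₀ (e Gb)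
  have hu : IsUnit ((algebraMap B B₀ g₀) ^ k) :=
    (IsLocalization.Away.algebraMap_isUnit g₀).pow k
  have hassoc : Associated (algebraMap B B₀ b) (e Gb) := by
    refine Associated.symm ⟨hu.unit, ?_⟩
    rw [IsUnit.unit_spec, hb]
  haveI : IsLocalization.Away (g₀ * b) T := IsLocalization.Away.mul_of_associated g₀ b (e Gb) hassoc
  refine ⟨g₀ * b, ?_, (IsLocalization.algEquiv (Submonoid.powers (g₀ * b))
    (Localization.Away (g₀ * b)) T).toRingEquiv, ?_⟩
  · intro hmem
    rcases hq.mem_or_mem hmem with h | h
    · exact hg₀ h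
    · apply hGb
      have h3 : algebraMap B B₀ b ∈ q.map (algebraMap B B₀) := Ideal.mem_map_of_mem _ h
      rw [← hb] at h3
      exact (Ideal.mul_unit_mem_iff_mem _ hu).mp h3
  · intro b'
    exact (IsLocalization.algEquiv (Submonoid.powers (g₀ * b))
      (Localization.Away (g₀ * b)) T).commutes b'


/-- packaging a list as `List.ofFn`. -/
theorem exists_ofFn_of_list {A R X : Type u} [CommRing A] [CommRing R] [Algebra A R] [CommRing X]
    [Algebra A X] (L : List R) (h1 : IsRegular R L) (h2 : Nonempty (X ≃ₐ[A] R ⧸ Ideal.ofList L)) :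
    ∃ (d : ℕ) (P : Fin d → R), IsRegular R (List.ofFn P) ∧
      Nonempty (X ≃ₐ[A] R ⧸ Ideal.ofList (List.ofFn P)) := by
  refine ⟨L.length, L.get, ?_, ?_⟩
  · rw [List.ofFn_get]; exact h1
  · rw [List.ofFn_get]; exact h2

theorem ofList_ofFn {R : Type u} [CommRing R] {c : ℕ} (F : Fin c → R) :
    Ideal.ofList (List.ofFn F) = Ideal.span (Set.range F) := by
  unfold Ideal.ofList
  congr 1
  ext x
  simp [List.mem_ofFn]

open Groth.Agent.H39.KoszulLCILocal in
/-- kernel of the presentation `P[Y] → (P/I)[1/G]`. -/
theorem ker_aeval_invSelf {P : Type u} [CommRing P] (I : Ideal P) (G : P) :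
    RingHom.ker (aeval (R := P) (S₁ := Localization.Away (Ideal.Quotient.mk I G))
      (fun _ : Unit => IsLocalization.Away.invSelf (Ideal.Quotient.mk I G))).toRingHom =
      Ideal.span {(C G * X () - 1 : MvPolynomial Unit P)} ⊔ I.map C ∧
    Function.Surjective (aeval (R := P) (S₁ := Localization.Away (Ideal.Quotient.mk I G))
      (fun _ : Unit => IsLocalization.Away.invSelf (Ideal.Quotient.mk I G))) := by
  set Gb := Ideal.Quotient.mk I G with hGb
  set T := Localization.Away Gb with hT
  set ψ := aeval (R := P) (S₁ := T) (fun _ : Unit => IsLocalization.Away.invSelf Gb) with hψ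
  let χ : Localization.Away G →+* T :=
    IsLocalization.map (M := Submonoid.powers G) (T := (Submonoid.powers G).map (Ideal.Quotient.mk I))
      T (Ideal.Quotient.mk I) (Submonoid.le_comap_map _)
  have hχsurj : Function.Surjective χ :=
    IsLocalization.map_surjective_of_surjective (M := Submonoid.powers G)
      (S := Localization.Away G) (Q := T) (g := Ideal.Quotient.mk I) Ideal.Quotient.mk_surjective
  have hχker : RingHom.ker χ = I.map (algebraMap P (Localization.Away G)) := by
    have := IsLocalization.ker_map (S := Localization.Away G) (M := Submonoid.powers G)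
      (T := (Submonoid.powers G).map (Ideal.Quotient.mk I)) T (Ideal.Quotient.mk I) rfl
    rw [Ideal.mk_ker] at this
    exact this
  have hcomp : ψ.toRingHom = χ.comp (awayPres G).toRingHom := by
    apply MvPolynomial.ringHom_ext
    · intro p
      show ψ (C p) = χ (awayPres G (C p))
      rw [hψ, awayPres, aeval_C, aeval_C]
      rw [IsLocalization.map_eq]
      rfl
    · intro i
      show ψ (X i) = χ (awayPres G (X i))
      rw [hψ, awayPres, aeval_X, aeval_X]
      have hunit : algebraMap (P ⧸ I) T Gb * IsLocalization.Away.invSelf Gb = 1 :=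
        IsLocalization.Away.mul_invSelf Gb
      have h' : algebraMap (P ⧸ I) T Gb * χ (IsLocalization.Away.invSelf G) = 1 := by
        have h0 : χ (algebraMap P (Localization.Away G) G) = algebraMap (P ⧸ I) T Gb :=
          IsLocalization.map_eq _ G
        rw [← h0, ← map_mul, IsLocalization.Away.mul_invSelf, map_one]
      exact (IsLocalization.Away.algebraMap_isUnit Gb).mul_left_cancel (hunit.trans h'.symm)
  refine ⟨?_, ?_⟩
  · have h1 : RingHom.ker ψ.toRingHom = (RingHom.ker χ).comap (awayPres G).toRingHom := by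
      rw [hcomp]
      rfl
    rw [h1, hχker]
    have h2 : I.map (algebraMap P (Localization.Away G)) =
        (I.map (C : P →+* MvPolynomial Unit P)).map (awayPres G).toRingHom := by
      rw [Ideal.map_map]
      congr 1
      ext p
      simp [awayPres]
    rw [h2, Ideal.comap_map_of_surjective (awayPres G).toRingHom (awayPres_surjective G)]
    have h3 : Ideal.comap (awayPres G).toRingHom ⊥ = RingHom.ker (awayPres G).toRingHom := rfl
    rw [h3, ker_awayPres, Ideal.ofList_singleton, sup_comm]
  · have : (ψ : MvPolynomial Unit P → T) = χ ∘ (awayPres G) := by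
      ext x
      exact congr($hcomp x)
    rw [this]
    exact hχsurj.comp (awayPres_surjective G)


open Groth.Agent.H39.KoszulLCILocal in
/-- **S18938**: a syntomic algebra over a Noetherian ring is, locally on its spectrum, a polynomial
ring modulo a regular sequence. -/
theorem main (A : Type u) [CommRing A] [IsNoetherianRing A] (B : Type u) [CommRing B] [Algebra A B]
    (h : Synt.IsSyntomic A B) (q : PrimeSpectrum B) :
    ∃ g : B, g ∉ q.asIdeal ∧
      ∃ (n d : ℕ) (P : Fin d → MvPolynomial (Fin n) A),
        IsRegular (MvPolynomial (Fin n) A) (List.ofFn P) ∧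
        Nonempty (Localization.Away g ≃ₐ[A]
          (MvPolynomial (Fin n) A ⧸ Ideal.ofList (List.ofFn P))) := by
  obtain ⟨g₀, hg₀, n, c, F, hGCI, ⟨e₀⟩⟩ := Groth.Agent.H46.SyntLocal.main A B h q.asIdeal
  set I : Ideal (MvPolynomial (Fin n) A) := Ideal.span (Set.range F) with hI
  -- the prime of the polynomial ring corresponding to `q`
  set q₀ : Ideal (Localization.Away g₀) := q.asIdeal.map (algebraMap B (Localization.Away g₀))
    with hq₀def
  have hdisj : Disjoint (Submonoid.powers g₀ : Set B) (q.asIdeal : Set B) := by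
    rw [Set.disjoint_left]
    rintro x ⟨k, rfl⟩ hx
    exact hg₀ (q.isPrime.mem_of_pow_mem k hx)
  have hq₀ : q₀.IsPrime :=
    IsLocalization.isPrime_of_isPrime_disjoint (Submonoid.powers g₀) _ q.asIdeal q.isPrime hdisj
  set Q : Ideal (MvPolynomial (Fin n) A) :=
    (q₀.comap e₀.symm.toRingEquiv.toRingHom).comap (Ideal.Quotient.mk I) with hQdef
  haveI hQ : Q.IsPrime := by
    rw [hQdef]
    haveI := hq₀
    infer_instance
  have hIQ : I ≤ Q := by
    intro x hx
    rw [hQdef, Ideal.mem_comap, Ideal.mem_comap, Ideal.Quotient.eq_zero_iff_mem.mpr hx, map_zero]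
    exact Ideal.zero_mem _
  obtain ⟨hreg, -⟩ := Groth.Agent.S9170.result A n c F hGCI Q hIQ
  obtain ⟨G, hGQ, hG⟩ := exists_away_isWeaklyRegular Q (List.ofFn F) hreg.toIsWeaklyRegular
  have hrab := isWeaklyRegular_rabinowitsch G (List.ofFn F) hG
  -- the localization `T = (P/I)[1/G]`
  set Gb : MvPolynomial (Fin n) A ⧸ I := Ideal.Quotient.mk I G with hGbdef
  have hGb : e₀.symm.toRingEquiv Gb ∉ q.asIdeal.map (algebraMap B (Localization.Away g₀)) := by
    intro hmem
    exact hGQ hmem
  obtain ⟨g, hg, ε, hε⟩ := exists_away_ringEquiv (T := Localization.Away Gb) g₀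
    e₀.symm.toRingEquiv Gb q.asIdeal hg₀ hGb
  refine ⟨g, hg, 1 + n, ?_⟩
  -- the presentation
  obtain ⟨hker, hsurj⟩ := ker_aeval_invSelf I G
  set ψ := aeval (R := MvPolynomial (Fin n) A) (S₁ := Localization.Away Gb)
    (fun _ : Unit => IsLocalization.Away.invSelf Gb) with hψ
  set L : List (MvPolynomial Unit (MvPolynomial (Fin n) A)) :=
    (C G * X () - 1 : MvPolynomial Unit (MvPolynomial (Fin n) A)) :: (List.ofFn F).map C with hL
  have hkerL : RingHom.ker ψ.toRingHom = Ideal.ofList L := by
    rw [hker, hL, Ideal.ofList_cons, ← Ideal.map_ofList, ofList_ofFn]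
  let σ : MvPolynomial (Fin (1 + n)) A ≃+* MvPolynomial Unit (MvPolynomial (Fin n) A) :=
    (polyIso A n).toRingEquiv
  set L' : List (MvPolynomial (Fin (1 + n)) A) := L.map σ.symm with hL'
  let Φ : MvPolynomial (Fin (1 + n)) A →+* Localization.Away Gb := ψ.toRingHom.comp σ.toRingHom
  have hΦsurj : Function.Surjective Φ := hsurj.comp σ.surjective
  have hΦker : RingHom.ker Φ = Ideal.ofList L' := by
    rw [Groth.Agent.H39.LCISmooth2.ker_comp_ringEquiv ψ.toRingHom σ, hkerL, Ideal.map_ofList]
    rfl
  -- weak regularity upstairs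
  have hL'reg : IsWeaklyRegular (MvPolynomial (Fin (1 + n)) A) L' := by
    haveI := RingHomInvPair.of_ringEquiv σ.symm
    haveI := RingHomInvPair.symm (σ.symm : MvPolynomial Unit (MvPolynomial (Fin n) A) →+* _)
      (σ.symm.symm : MvPolynomial (Fin (1 + n)) A →+* _)
    have := (σ.symm.toSemilinearEquiv.isWeaklyRegular_congr' L).mp hrab
    exact this
  -- the ring isomorphism
  let ε₂ : (MvPolynomial (Fin (1 + n)) A ⧸ Ideal.ofList L') ≃+* Localization.Away Gb :=
    (Ideal.quotEquivOfEq hΦker.symm).trans (RingHom.quotientKerEquivOfSurjective hΦsurj)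
  let ε₃ : Localization.Away g ≃+* (MvPolynomial (Fin (1 + n)) A ⧸ Ideal.ofList L') :=
    ε.trans ε₂.symm
  have hε₃ : ∀ a : A, ε₃ (algebraMap A (Localization.Away g) a) =
      algebraMap A (MvPolynomial (Fin (1 + n)) A ⧸ Ideal.ofList L') a := by
    intro a
    show ε₂.symm (ε (algebraMap A (Localization.Away g) a)) = _
    rw [RingEquiv.symm_apply_eq]
    rw [IsScalarTower.algebraMap_apply A B (Localization.Away g), hε]
    have hL1 : e₀.symm.toRingEquiv.symm (algebraMap B (Localization.Away g₀) (algebraMap A B a)) =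
        algebraMap A (Synt.RelGCIRing A n c F) a := by
      rw [← IsScalarTower.algebraMap_apply A B (Localization.Away g₀)]
      exact e₀.commutes a
    rw [hL1, ← IsScalarTower.algebraMap_apply A (Synt.RelGCIRing A n c F) (Localization.Away Gb)]
    have hR : ε₂ (algebraMap A _ a) = Φ (C a) := rfl
    rw [hR]
    show _ = ψ ((polyIso A n) (C a))
    have h5 : (polyIso A n) (C a) = algebraMap A _ a := (polyIso A n).commutes a
    rw [h5, IsScalarTower.algebraMap_apply A (MvPolynomial (Fin n) A)
      (MvPolynomial Unit (MvPolynomial (Fin n) A)), ψ.commutes,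
      ← IsScalarTower.algebraMap_apply]
  apply exists_ofFn_of_list (A := A) L'
  · refine ⟨hL'reg, ?_⟩
    intro htop
    rw [smul_eq_mul, Ideal.mul_top] at htop
    haveI : Subsingleton (MvPolynomial (Fin (1 + n)) A ⧸ Ideal.ofList L') :=
      Ideal.Quotient.subsingleton_iff.mpr htop.symm
    haveI : Subsingleton (Localization.Away g) := ε₃.toEquiv.subsingleton
    have h0 : (0 : B) ∈ Submonoid.powers g :=
      (IsLocalization.subsingleton_iff (M := Submonoid.powers g)
        (S := Localization.Away g)).mp inferInstance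
    obtain ⟨k, hk⟩ := h0
    apply hg
    apply q.isPrime.mem_of_pow_mem k
    have hk' : g ^ k = 0 := hk
    rw [hk']
    exact Ideal.zero_mem _
  · exact ⟨AlgEquiv.ofRingEquiv (f := ε₃) hε₃⟩

end Groth.Agent.H94.SyntRegPres
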