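import Mathlib

set_option autoImplicit false

namespace Groth.Agent.H94.Toeplitz

open Finset

/-- The character `y ↦ exp (i s y)`. -/
noncomputable def ee (s : ℤ) (y : ℝ) : ℂ := Complex.exp (Complex.I * (s : ℂ) * (y : ℂ))

theorem ee_add (s t : ℤ) (y : ℝ) : ee (s + t) y = ee s y * ee t y := by
  unfold ee
  rw [← Complex.exp_add]
  congr 1
  push_cast
  ring

theorem ee_zero (y : ℝ) : ee 0 y = 1 := by
  unfold ee
  simp

theorem ee_conj (s : ℤ) (y : ℝ) : (starRingEnd ℂ) (ee s y) = ee (-s) y := by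
  unfold ee
  rw [← Complex.exp_conj]
  congr 1
  simp

theorem ee_sum (N : ℕ) (hN : 0 < N) (θ : ℝ) (s : ℤ) (hs : |s| < (N : ℤ)) :
    ∑ l ∈ range N, ee s (θ + 2 * Real.pi * (l : ℝ) / (N : ℝ)) = if s = 0 then (N : ℂ) else 0 := by
  split_ifs with h0
  · subst h0
    simp [ee_zero]
  · set ω : ℂ := Complex.exp (2 * Real.pi * Complex.I * (s : ℂ) / (N : ℂ)) with hω
    have hN0 : (N : ℂ) ≠ 0 := by exact_mod_cast hN.ne'
    have hterm : ∀ l ∈ range N, ee s (θ + 2 * Real.pi * (l : ℝ) / (N : ℝ)) = ee s θ * ω ^ l := by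
      intro l _
      unfold ee
      rw [hω, ← Complex.exp_nat_mul, ← Complex.exp_add]
      congr 1
      push_cast
      field_simp
    rw [Finset.sum_congr rfl hterm, ← Finset.mul_sum]
    have hω1 : ω ≠ 1 := by
      intro h
      rw [hω, Complex.exp_eq_one_iff] at h
      obtain ⟨k, hk⟩ := h
      have hpi : (2 * (Real.pi : ℂ) * Complex.I) ≠ 0 := by
        simp [Real.pi_ne_zero]
      have h2 : (s : ℂ) = (k : ℂ) * (N : ℂ) := by
        have : (2 * (Real.pi : ℂ) * Complex.I) * ((s : ℂ) / (N : ℂ)) = (2 * (Real.pi : ℂ) * Complex.I) * (k : ℂ) := by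
          rw [mul_comm _ (k : ℂ), ← hk]; ring
        have h3 := mul_left_cancel₀ hpi this
        field_simp at h3
        rw [h3, mul_comm]
      have h3 : s = k * (N : ℤ) := by exact_mod_cast h2
      have hk0 : k ≠ 0 := by
        rintro rfl
        simp at h3
        exact h0 h3
      have : (N : ℤ) ≤ |s| := by
        rw [h3, abs_mul]
        have h1 : 1 ≤ |k| := Int.one_le_abs hk0
        have h4 : |(N : ℤ)| = N := abs_of_nonneg (by positivity)
        rw [h4]
        nlinarith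
      omega
    have hωN : ω ^ N = 1 := by
      rw [hω, ← Complex.exp_nat_mul, Complex.exp_eq_one_iff]
      refine ⟨s, ?_⟩
      field_simp
    have := mul_geom_sum ω N
    rw [hωN, sub_self] at this
    rcases mul_eq_zero.mp this with h | h
    · exact absurd (sub_eq_zero.mp h) hω1
    · rw [h, mul_zero]

/-- The symbol `∑_{|k| < K} t_k e^{iky}` of a Toeplitz matrix. -/
noncomputable def symb (t : ℤ → ℂ) (K : ℕ) (y : ℝ) : ℂ :=
  ∑ k ∈ Finset.Ioo (-(K : ℤ)) (K : ℤ), t k * ee k y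

/-- The trigonometric polynomial `∑_j x_j e^{-ijy}` of a vector. -/
noncomputable def pp {m : ℕ} (x : Fin m → ℂ) (y : ℝ) : ℂ := ∑ j : Fin m, x j * ee (-(j : ℤ)) y

theorem pp_conj {m : ℕ} (x : Fin m → ℂ) (y : ℝ) :
    (starRingEnd ℂ) (pp x y) = ∑ a : Fin m, (starRingEnd ℂ) (x a) * ee (a : ℤ) y := by
  simp [pp, map_sum, ee_conj]

theorem symb_mul_pp (t : ℤ → ℂ) (K : ℕ) {m : ℕ} (x : Fin m → ℂ) (y : ℝ) :
    symb t K y * ((starRingEnd ℂ) (pp x y) * pp x y) =
      ∑ k ∈ Finset.Ioo (-(K : ℤ)) (K : ℤ), ∑ a : Fin m, ∑ b : Fin m,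
        (t k * (starRingEnd ℂ) (x a) * x b) * ee (k + (a : ℤ) - (b : ℤ)) y := by
  rw [pp_conj, symb, Finset.sum_mul]
  refine Finset.sum_congr rfl fun k _ => ?_
  rw [Finset.sum_mul, Finset.mul_sum]
  refine Finset.sum_congr rfl fun a _ => ?_
  rw [pp, Finset.mul_sum, Finset.mul_sum]
  refine Finset.sum_congr rfl fun b _ => ?_
  rw [show k + (a : ℤ) - (b : ℤ) = k + ((a : ℤ) + -(b : ℤ)) by ring, ee_add, ee_add]
  ring

/-- Discrete Fourier expression of the quadratic form of a Toeplitz matrix. -/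
theorem quad_eq (m K N : ℕ) (hN : K + m ≤ N + 1) (hN0 : 0 < N) (t : ℤ → ℂ)
    (A : Matrix (Fin m) (Fin m) ℂ) (hA : ∀ i j : Fin m, A i j = t ((j : ℤ) - (i : ℤ)))
    (hK : m ≤ K) (x : Fin m → ℂ) (θ : ℝ) :
    (N : ℂ) * (star x ⬝ᵥ A.mulVec x) =
      ∑ l ∈ range N, symb t K (θ + 2 * Real.pi * (l : ℝ) / (N : ℝ)) *
        ((starRingEnd ℂ) (pp x (θ + 2 * Real.pi * (l : ℝ) / (N : ℝ))) *
          pp x (θ + 2 * Real.pi * (l : ℝ) / (N : ℝ))) := by
  simp_rw [symb_mul_pp]
  rw [Finset.sum_comm]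
  have h1 : ∀ k ∈ Finset.Ioo (-(K : ℤ)) (K : ℤ),
      (∑ l ∈ range N, ∑ a : Fin m, ∑ b : Fin m, (t k * (starRingEnd ℂ) (x a) * x b) *
        ee (k + (a : ℤ) - (b : ℤ)) (θ + 2 * Real.pi * (l : ℝ) / (N : ℝ))) =
      ∑ a : Fin m, ∑ b : Fin m, (t k * (starRingEnd ℂ) (x a) * x b) *
        (if k + (a : ℤ) - (b : ℤ) = 0 then (N : ℂ) else 0) := by
    intro k hk
    rw [Finset.sum_comm]
    refine Finset.sum_congr rfl fun a _ => ?_
    rw [Finset.sum_comm]
    refine Finset.sum_congr rfl fun b _ => ?_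
    rw [← Finset.mul_sum, ee_sum N hN0]
    rw [Finset.mem_Ioo] at hk
    have ha := a.isLt
    have hb := b.isLt
    rw [abs_lt]
    constructor <;> omega
  rw [Finset.sum_congr rfl h1, Finset.sum_comm]
  simp only [dotProduct, Matrix.mulVec, Finset.mul_sum, Pi.star_apply]
  refine Finset.sum_congr rfl fun a _ => ?_
  rw [Finset.sum_comm]
  refine Finset.sum_congr rfl fun b _ => ?_
  have h2 : ∀ k : ℤ, (k + (a : ℤ) - (b : ℤ) = 0) ↔ (k = (b : ℤ) - (a : ℤ)) := by
    intro k; constructor <;> intro h <;> omega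
  simp only [h2, mul_ite, mul_zero]
  rw [Finset.sum_ite_eq']
  have hmem : ((b : ℤ) - (a : ℤ)) ∈ Finset.Ioo (-(K : ℤ)) (K : ℤ) := by
    rw [Finset.mem_Ioo]
    have ha := a.isLt
    have hb := b.isLt
    constructor <;> omega
  rw [if_pos hmem, hA]
  simp only [RCLike.star_def]
  ring

theorem exists_shift (S : Set ℝ) (hS : S.Countable) (N : ℕ) :
    ∃ θ : ℝ, ∀ l ∈ range N, θ + 2 * Real.pi * (l : ℝ) / (N : ℝ) ∉ S := by
  by_contra h
  push Not at h
  have hc : (⋃ l ∈ range N, (fun θ : ℝ => θ + 2 * Real.pi * (l : ℝ) / (N : ℝ)) ⁻¹' S).Countable := by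
    refine Set.Countable.biUnion (Finset.countable_toSet _) fun l _ => ?_
    exact hS.preimage_of_injOn (add_left_injective _).injOn
  apply Cardinal.not_countable_real
  refine hc.mono fun θ _ => ?_
  obtain ⟨l, hl, hmem⟩ := h θ
  exact Set.mem_biUnion hl hmem

theorem symb_delta (K : ℕ) (hK : 0 < K) (y : ℝ) :
    symb (fun k => if k = 0 then 1 else 0) K y = 1 := by
  unfold symb
  rw [Finset.sum_eq_single 0]
  · simp [ee_zero]
  · intro k _ hk
    simp [hk]
  · intro h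
    exfalso
    apply h
    rw [Finset.mem_Ioo]
    constructor <;> omega

/-- Parseval: the discrete samples of `pp x` have total square norm `N * ‖x‖²`. -/
theorem parseval (m N : ℕ) (hN : m + m ≤ N + 1) (hN0 : 0 < N) (hm : 0 < m) (x : Fin m → ℂ) (θ : ℝ) :
    (N : ℝ) * ∑ i : Fin m, Complex.normSq (x i) =
      ∑ l ∈ range N, Complex.normSq (pp x (θ + 2 * Real.pi * (l : ℝ) / (N : ℝ))) := by
  have h := quad_eq m m N hN hN0 (fun k => if k = 0 then 1 else 0) (1 : Matrix (Fin m) (Fin m) ℂ)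
    (by
      intro i j
      rw [Matrix.one_apply]
      have : ((j : ℤ) - (i : ℤ) = 0) ↔ i = j := by
        constructor
        · intro h; ext; omega
        · rintro rfl; simp
      simp only [this]) le_rfl x θ
  simp only [symb_delta m hm, one_mul, Matrix.one_mulVec, ← Complex.normSq_eq_conj_mul_self] at h
  have h2 : (star x ⬝ᵥ x) = ((∑ i : Fin m, Complex.normSq (x i) : ℝ) : ℂ) := by
    simp only [dotProduct, Pi.star_apply, RCLike.star_def, Complex.ofReal_sum,
      Complex.normSq_eq_conj_mul_self]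
  rw [h2] at h
  exact_mod_cast h

/-- A Toeplitz matrix whose symbol has positive real part off a countable set has a quadratic form
with positive real part. -/
theorem re_quad_pos (m K : ℕ) (hK : m ≤ K) (t : ℤ → ℂ)
    (A : Matrix (Fin m) (Fin m) ℂ) (hA : ∀ i j : Fin m, A i j = t ((j : ℤ) - (i : ℤ)))
    (hpos : Set.Countable {y : ℝ | ¬ 0 < (symb t K y).re}) (x : Fin m → ℂ) (hx : x ≠ 0) :
    0 < (star x ⬝ᵥ A.mulVec x).re := by
  have hm : 0 < m := by
    rcases Nat.eq_zero_or_pos m with rfl | h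
    · exact absurd (Subsingleton.elim x 0) hx
    · exact h
  set N := K + m with hNdef
  have hN0 : 0 < N := by omega
  obtain ⟨θ, hθ⟩ := exists_shift _ hpos N
  have h := quad_eq m K N (by omega) hN0 t A hA hK x θ
  simp only [← Complex.normSq_eq_conj_mul_self] at h
  have hre := congrArg Complex.re h
  rw [Complex.re_sum] at hre
  simp only [Complex.re_mul_ofReal] at hre
  have hre' : (N : ℝ) * (star x ⬝ᵥ A.mulVec x).re = ∑ l ∈ range N,
      (symb t K (θ + 2 * Real.pi * (l : ℝ) / (N : ℝ))).re *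
        Complex.normSq (pp x (θ + 2 * Real.pi * (l : ℝ) / (N : ℝ))) := by
    rw [← hre]
    simp
  have hpars := parseval m N (by omega) hN0 hm x θ
  have hxpos : 0 < ∑ i : Fin m, Complex.normSq (x i) := by
    obtain ⟨i, hi⟩ : ∃ i, x i ≠ 0 := by
      by_contra hcon
      push Not at hcon
      exact hx (funext hcon)
    exact Finset.sum_pos' (fun j _ => Complex.normSq_nonneg _)
      ⟨i, Finset.mem_univ i, Complex.normSq_pos.mpr hi⟩
  have hsum : 0 < ∑ l ∈ range N, Complex.normSq (pp x (θ + 2 * Real.pi * (l : ℝ) / (N : ℝ))) := by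
    rw [← hpars]
    have : (0 : ℝ) < N := by exact_mod_cast hN0
    positivity
  obtain ⟨l, hl, hlpos⟩ : ∃ l ∈ range N,
      0 < Complex.normSq (pp x (θ + 2 * Real.pi * (l : ℝ) / (N : ℝ))) := by
    by_contra hcon
    push Not at hcon
    have : ∑ l ∈ range N, Complex.normSq (pp x (θ + 2 * Real.pi * (l : ℝ) / (N : ℝ))) ≤ 0 :=
      Finset.sum_nonpos hcon
    linarith
  have hfpos : ∀ l ∈ range N, 0 < (symb t K (θ + 2 * Real.pi * (l : ℝ) / (N : ℝ))).re := by
    intro l hl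
    have := hθ l hl
    simpa using this
  have hfinal : 0 < (N : ℝ) * (star x ⬝ᵥ A.mulVec x).re := by
    rw [hre']
    exact Finset.sum_pos' (fun l hl => mul_nonneg (hfpos l hl).le (Complex.normSq_nonneg _))
      ⟨l, hl, mul_pos (hfpos l hl) hlpos⟩
  have hNpos : (0 : ℝ) < N := by exact_mod_cast hN0
  exact (mul_pos_iff_of_pos_left hNpos).mp hfinal

theorem ee_eq_zpow (k : ℤ) (y : ℝ) : ee k y = (ee 1 y) ^ k := by
  unfold ee
  rw [← Complex.exp_int_mul]
  congr 1
  push_cast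
  ring

theorem ee_one_ne_zero (y : ℝ) : ee 1 y ≠ 0 := Complex.exp_ne_zero _

theorem two_sub_two_cos (y : ℝ) :
    (((2 - 2 * Real.cos y : ℝ)) : ℂ) = 2 - ee 1 y - (ee 1 y)⁻¹ := by
  have h := Complex.two_cos (y : ℂ)
  have e1 : ee 1 y = Complex.exp ((y : ℂ) * Complex.I) := by
    unfold ee; congr 1; push_cast; ring
  have e2 : (ee 1 y)⁻¹ = Complex.exp (-(y : ℂ) * Complex.I) := by
    rw [e1, ← Complex.exp_neg]; congr 1; ring
  rw [e2, e1]
  push_cast
  rw [h]
  ring

/-- `(2 - w - w⁻¹)^n = ∑_j C(2n,j) (-1)^(j+n) w^(j-n)`. -/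
theorem two_sub_pow (n : ℕ) (y : ℝ) :
    (2 - ee 1 y - (ee 1 y)⁻¹) ^ n =
      ∑ j ∈ range (2 * n + 1), ((Nat.choose (2 * n) j : ℂ) * (-1) ^ (j + n)) * ee ((j : ℤ) - n) y := by
  set w := ee 1 y with hw
  have hw0 : w ≠ 0 := ee_one_ne_zero y
  have h1 : (2 - w - w⁻¹) = (-1) * ((-w + 1) ^ 2 * w⁻¹) := by
    field_simp
    ring
  rw [h1, mul_pow, mul_pow, ← pow_mul, add_pow, Finset.sum_mul, Finset.mul_sum]
  refine Finset.sum_congr rfl fun j _ => ?_
  rw [ee_eq_zpow, ← hw, zpow_sub₀ hw0, zpow_natCast, zpow_natCast, one_pow, mul_one, neg_pow, inv_pow, pow_add]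
  field_simp
  rw [one_pow, one_mul]
  ring

theorem neg_one_pow_congr {R : Type*} [Ring R] (a b c : ℕ) (h : a = b + 2 * c) :
    (-1 : R) ^ a = (-1) ^ b := by
  rw [h, pow_add, pow_mul]
  simp

theorem symb_binom_even (n K : ℕ) (hK : n < K) (y : ℝ) :
    symb (fun k => (((-1 : ℝ) ^ k.natAbs * (Nat.choose (2 * n) (n + k.natAbs) : ℝ) : ℝ) : ℂ)) K y =
      (((2 - 2 * Real.cos y) ^ n : ℝ) : ℂ) := by
  rw [Complex.ofReal_pow, two_sub_two_cos, two_sub_pow]
  unfold symb
  have hinj : Set.InjOn (fun j : ℕ => (j : ℤ) - n) (range (2 * n + 1) : Set ℕ) := by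
    intro a _ b _ h
    simp only at h
    omega
  have hpt : ∀ j ∈ range (2 * n + 1),
      ((Nat.choose (2 * n) j : ℂ) * (-1) ^ (j + n)) * ee ((j : ℤ) - n) y =
      (fun k : ℤ => (((-1 : ℝ) ^ k.natAbs * (Nat.choose (2 * n) (n + k.natAbs) : ℝ) : ℝ) : ℂ) * ee k y)
        ((j : ℤ) - n) := by
    intro j hj
    rw [Finset.mem_range] at hj
    simp only
    congr 1
    push_cast
    rcases le_or_gt n j with hnj | hnj
    · have e1 : ((j : ℤ) - n).natAbs = j - n := by omega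
      rw [e1, show n + (j - n) = j by omega, neg_one_pow_congr (j + n) (j - n) n (by omega)]
      ring
    · have e1 : ((j : ℤ) - n).natAbs = n - j := by omega
      rw [e1, show n + (n - j) = 2 * n - j by omega, Nat.choose_symm (by omega),
        neg_one_pow_congr (j + n) (n - j) j (by omega)]
      ring
  rw [Finset.sum_congr rfl hpt, ← Finset.sum_image
    (f := fun k : ℤ => (((-1 : ℝ) ^ k.natAbs * (Nat.choose (2 * n) (n + k.natAbs) : ℝ) : ℝ) : ℂ) * ee k y)
    (g := fun j : ℕ => (j : ℤ) - n) hinj]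
  symm
  apply Finset.sum_subset
  · intro k hk
    rw [Finset.mem_image] at hk
    obtain ⟨j, hj, rfl⟩ := hk
    rw [Finset.mem_range] at hj
    rw [Finset.mem_Ioo]
    constructor <;> omega
  · intro k _ hk
    have hbig : n < k.natAbs := by
      by_contra hcon
      apply hk
      rw [Finset.mem_image]
      refine ⟨(k + n).toNat, ?_, ?_⟩
      · rw [Finset.mem_range]; omega
      · omega
    rw [Nat.choose_eq_zero_of_lt (by omega)]
    simp

end Groth.Agent.H94.Toeplitz
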