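import Groth.Agent.H67.TorsionSheaf
import Groth.Prelude.Def_TorSh

/-!
# Sections of torsion-free quasi-coherent modules on reduced locally Noetherian schemes (helper94)

* `mem_nonZeroDivisors_of_forall_notMem_minimalPrimes`: in a reduced ring an element lying in no
  minimal prime is a non-zero-divisor.
* `eq_zero_of_germ_eq_zero_of_isField`: on a reduced locally Noetherian scheme a section of a
  torsion-free quasi-coherent module vanishing at all points whose local ring is a field is zero.
* `germ_injective_of_torsionFree`: the germ map at `x` is injective on `Γ(F, U)` when all "generic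
  points" of `U` specialise to `x`.
-/

set_option autoImplicit false
universe u
open CategoryTheory CategoryTheory.Limits AlgebraicGeometry TopologicalSpace Opposite

namespace Groth.Agent.H94.TorsionFreeGerm

open Groth.Agent.H8 Groth.Agent.H67.TorsionSheaf

/-- In a reduced ring an element lying in no minimal prime is a non-zero-divisor. -/
theorem mem_nonZeroDivisors_of_forall_notMem_minimalPrimes {A : Type*} [CommRing A] [IsReduced A]
    (r : A) (hr : ∀ q ∈ minimalPrimes A, r ∉ q) : r ∈ nonZeroDivisors A := by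
  rw [mem_nonZeroDivisors_iff_right]
  intro y hy
  have hmem : y ∈ sInf (minimalPrimes A) := by
    rw [Submodule.mem_sInf]
    intro (q : Ideal A) hq
    have hq' : Ideal.IsPrime q := hq.1.1
    have h0 : y * r ∈ q := by rw [hy]; exact q.zero_mem
    exact (hq'.mem_or_mem h0).resolve_right (hr q hq)
  have hrad : sInf (minimalPrimes A) = (⊥ : Ideal A) := by
    rw [minimalPrimes, Ideal.sInf_minimalPrimes]
    exact (Ideal.radical_eq_iff.mpr (by
      rw [Ideal.isRadical_iff_quotient_reduced]
      exact (isReduced_of_injective _ (RingEquiv.quotientBot A).injective)))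
  rw [hrad] at hmem
  exact hmem

lemma fromSpec_mem {X : Scheme.{u}} {V : X.Opens} (hV : IsAffineOpen V) (y : Spec Γ(X, V)) :
    hV.fromSpec y ∈ V := by
  have : hV.fromSpec y ∈ Set.range hV.fromSpec := ⟨y, rfl⟩
  rwa [hV.range_fromSpec] at this

lemma primeIdealOf_fromSpec {X : Scheme.{u}} {V : X.Opens} (hV : IsAffineOpen V)
    (y : Spec Γ(X, V)) : hV.primeIdealOf ⟨hV.fromSpec y, fromSpec_mem hV y⟩ = y := by
  apply hV.fromSpec.isOpenEmbedding.injective
  rw [hV.fromSpec_primeIdealOf]

/-- The local ring of a reduced scheme at the point of an affine open given by a minimal prime is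
a field. -/
theorem isField_stalk_fromSpec_of_mem_minimalPrimes {X : Scheme.{u}} [IsReduced X] {V : X.Opens}
    (hV : IsAffineOpen V) (q : Ideal Γ(X, V)) (hq : q ∈ minimalPrimes Γ(X, V)) :
    IsField (X.presheaf.stalk (hV.fromSpec ⟨q, hq.1.1⟩)) := by
  have hloc := hV.isLocalization_stalk' ⟨q, hq.1.1⟩ (fromSpec_mem hV _)
  letI := TopCat.Presheaf.algebra_section_stalk X.presheaf
    ⟨hV.fromSpec ⟨q, hq.1.1⟩, fromSpec_mem hV ⟨q, hq.1.1⟩⟩
  have : Ring.KrullDimLE 0 (X.presheaf.stalk (hV.fromSpec ⟨q, hq.1.1⟩)) :=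
    @Ring.KrullDimLE.of_isLocalization _ _ q hq _ _ _ hloc
  exact Ring.KrullDimLE.isField_of_isReduced

/-- On a reduced locally Noetherian scheme a section of a torsion-free quasi-coherent module whose
germs vanish at all points whose local ring is a field is zero. -/
theorem eq_zero_of_germ_eq_zero_of_isField {X : Scheme.{u}} [IsLocallyNoetherian X] [IsReduced X]
    (F : X.Modules) [F.IsQuasicoherent] (htF : TorSh.IsTorsionFree F) {U : X.Opens} (s : Γ(F, U))
    (hs : ∀ (η : X) (hη : η ∈ U), IsField (X.presheaf.stalk η) → F.presheaf.germ U η hη s = 0) :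
    s = 0 := by
  apply TopCat.Presheaf.section_ext (⟨F.presheaf, F.isSheaf⟩ : TopCat.Sheaf Ab X)
  intro y hy
  rw [map_zero]
  change F.presheaf.germ U y hy s = 0
  obtain ⟨_, ⟨V, hV, rfl⟩, hyV, hVU⟩ := X.isBasis_affineOpens.exists_subset_of_mem_open hy U.2
  have hV' : IsAffineOpen V := hV
  let m : Γ(F, V) := F.presheaf.map (homOfLE hVU).op s
  have hm : ∀ (z : X) (hz : z ∈ V), F.presheaf.germ V z hz m = F.presheaf.germ U z (hVU hz) s :=
    fun z hz => TopCat.Presheaf.germ_res_apply F.presheaf (homOfLE hVU) z hz s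
  rw [← hm y hyV]
  have : IsNoetherianRing Γ(X, V) := IsLocallyNoetherian.component_noetherian ⟨V, hV'⟩
  -- the annihilator of `m`
  let I : Ideal Γ(X, V) := LinearMap.ker (LinearMap.toSpanSingleton Γ(X, V) Γ(F, V) m)
  have hI : ∀ t : Γ(X, V), t ∈ I ↔ t • m = 0 := fun t => by
    simp only [I, LinearMap.mem_ker, LinearMap.toSpanSingleton_apply]
  -- `I` is contained in no minimal prime
  have hnot : ∀ q ∈ minimalPrimes Γ(X, V), ¬ I ≤ q := by
    intro q hq hle
    have hηV : hV'.fromSpec ⟨q, hq.1.1⟩ ∈ V := fromSpec_mem hV' _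
    have hfield := isField_stalk_fromSpec_of_mem_minimalPrimes hV' q hq
    have h0 := hs _ (hVU hηV) hfield
    rw [← hm _ hηV] at h0
    obtain ⟨t, ht, htm⟩ := (germ_eq_zero_iff F hV' hηV m).1 h0
    rw [← notMem_primeIdealOf_iff hV' hηV t, primeIdealOf_fromSpec hV'] at ht
    exact ht (hle ((hI t).2 htm))
  -- prime avoidance
  have hfin : (minimalPrimes Γ(X, V)).Finite := minimalPrimes.finite_of_isNoetherianRing _
  have hex : ∃ r ∈ I, ∀ q ∈ minimalPrimes Γ(X, V), r ∉ q := by
    by_contra hcon
    push_neg at hcon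
    have hsub : (I : Set Γ(X, V)) ⊆
        ⋃ q ∈ (↑hfin.toFinset : Set (Ideal Γ(X, V))), ((q : Ideal Γ(X, V)) : Set Γ(X, V)) := by
      intro r hr
      obtain ⟨q, hq, hrq⟩ := hcon r hr
      exact Set.mem_biUnion (Finset.mem_coe.2 (hfin.mem_toFinset.2 hq)) hrq
    rw [Ideal.subset_union_prime (R := Γ(X, V)) (f := fun q => q) ⊥ ⊥
      (fun q hq _ _ => (hfin.mem_toFinset.1 hq).1.1)] at hsub
    obtain ⟨q, hq, hle⟩ := hsub
    exact hnot q (hfin.mem_toFinset.1 hq) hle
  obtain ⟨r, hrI, hr⟩ := hex
  have hrnzd : r ∈ nonZeroDivisors Γ(X, V) :=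
    mem_nonZeroDivisors_of_forall_notMem_minimalPrimes r hr
  -- the germ of `r` at `y` is regular
  have hloc := hV'.isLocalization_stalk ⟨y, hyV⟩
  have hreg : IsRegular (X.presheaf.germ V y hyV r) := by
    rw [isRegular_iff_mem_nonZeroDivisors]
    letI := TopCat.Presheaf.algebra_section_stalk X.presheaf ⟨y, hyV⟩
    exact IsLocalization.map_nonZeroDivisors_le (hV'.primeIdealOf ⟨y, hyV⟩).asIdeal.primeCompl
      (X.presheaf.stalk y) (Submonoid.mem_map_of_mem _ hrnzd)
  have hsm : IsSMulRegular (F.presheaf.stalk y) (X.presheaf.germ V y hyV r) :=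
    (htF y).isSMulRegular hreg
  apply hsm
  change X.presheaf.germ V y hyV r • F.presheaf.germ V y hyV m =
    X.presheaf.germ V y hyV r • (0 : F.presheaf.stalk y)
  rw [← germ_smul, (hI r).1 hrI, map_zero, smul_zero]

end Groth.Agent.H94.TorsionFreeGerm
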