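import Groth.Agent.H94.TorsionFreeGerm

/-!
# Torsion-free quotients agreeing on a dense open (helper94)

* `mem_of_dense_of_isField_stalk`: on a Noetherian scheme a point whose local ring is a field lies
  in every dense open subset.
* `eq_zero_of_germ_eq_zero_on_dense`: sections of a torsion-free quasi-coherent module on a reduced
  Noetherian scheme are determined on a dense open.
* `hom_eq_zero_of_restrict_eq_zero`: morphisms into such a module are determined on a dense open.
* `exists_iso_of_restrict_iso`: two torsion-free quotients of `E` which are isomorphic (as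
  quotients) over a dense open are isomorphic as quotients.
-/

set_option autoImplicit false
universe u
open CategoryTheory CategoryTheory.Limits AlgebraicGeometry TopologicalSpace Opposite

namespace Groth.Agent.H94.TorsionFreeQuot

open Groth.Agent.H94.TorsionFreeGerm

/-- On a Noetherian scheme a point whose local ring is a field lies in every dense open. -/
theorem mem_of_dense_of_isField_stalk {X : Scheme.{u}} [IsNoetherian X] (U : X.Opens)
    (hU : Dense (U : Set X)) (η : X) (hη : IsField (X.presheaf.stalk η)) : η ∈ U := by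
  have hZ : irreducibleComponent η ∈ irreducibleComponents X :=
    irreducibleComponent_mem_irreducibleComponents η
  have hηZ : η ∈ irreducibleComponent η := mem_irreducibleComponent
  obtain ⟨O, hO, hne, hOZ⟩ :=
    NoetherianSpace.exists_isOpen_nonempty_subset_irreducibleComponent _ hZ
  obtain ⟨y, hyO, hyU⟩ := hU.inter_open_nonempty O hO hne
  have hirr : IsIrreducible (irreducibleComponent η) := hZ.1
  have hcl : IsClosed (irreducibleComponent η) := isClosed_of_mem_irreducibleComponents _ hZ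
  have hgen : IsGenericPoint hirr.genericPoint (irreducibleComponent η) :=
    hirr.isGenericPoint_genericPoint hcl
  -- the generic point of the component is `η`
  have hξη : hirr.genericPoint ⤳ η := by
    rw [specializes_iff_mem_closure, hgen.def]
    exact hηZ
  have hξ : hirr.genericPoint ∈ Set.range (X.fromSpecStalk η) := by
    rw [Scheme.range_fromSpecStalk]
    exact hξη
  obtain ⟨q, hq⟩ := hξ
  have : Ring.KrullDimLE 0 (X.presheaf.stalk η) := by
    letI := hη.toField
    infer_instance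
  have hsub : Subsingleton (PrimeSpectrum (X.presheaf.stalk η)) := inferInstance
  have hq' : q = IsLocalRing.closedPoint (X.presheaf.stalk η) :=
    @Subsingleton.elim (PrimeSpectrum (X.presheaf.stalk η)) hsub _ _
  rw [hq', Scheme.fromSpecStalk_closedPoint] at hq
  have hηy : η ⤳ y := by
    rw [specializes_iff_mem_closure, hq, hgen.def]
    exact hOZ hyO
  exact hηy.mem_open U.2 hyU

/-- Sections of a torsion-free quasi-coherent module on a reduced Noetherian scheme are determined
on a dense open. -/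
theorem eq_zero_of_germ_eq_zero_on_dense {X : Scheme.{u}} [IsNoetherian X] [IsReduced X]
    (F : X.Modules) [F.IsQuasicoherent] (htF : TorSh.IsTorsionFree F) (U : X.Opens)
    (hU : Dense (U : Set X)) {W : X.Opens} (s : Γ(F, W))
    (hs : ∀ (η : X) (hη : η ∈ W), η ∈ U → F.presheaf.germ W η hη s = 0) : s = 0 :=
  eq_zero_of_germ_eq_zero_of_isField F htF s
    (fun η hη hfield => hs η hη (mem_of_dense_of_isField_stalk U hU η hfield))

theorem restrictFunctor_map_app {X Y : Scheme.{u}} (f : X ⟶ Y) [IsOpenImmersion f]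
    {A B : Y.Modules} (ψ : A ⟶ B) (V : X.Opens) :
    ((Scheme.Modules.restrictFunctor f).map ψ).app V = ψ.app (f ''ᵁ V) := rfl

/-- Morphisms into a torsion-free quasi-coherent module on a reduced Noetherian scheme are
determined on a dense open. -/
theorem hom_eq_zero_of_restrict_eq_zero {X : Scheme.{u}} [IsNoetherian X] [IsReduced X]
    {A F : X.Modules} [F.IsQuasicoherent] (htF : TorSh.IsTorsionFree F) (U : X.Opens)
    (hU : Dense (U : Set X)) (ψ : A ⟶ F)
    (h : (Scheme.Modules.restrictFunctor U.ι).map ψ = 0) : ψ = 0 := by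
  apply Scheme.Modules.hom_ext
  intro W
  ext s
  rw [Scheme.Modules.Hom.zero_app]
  change ψ.app W s = 0
  apply eq_zero_of_germ_eq_zero_on_dense F htF U hU
  intro η hηW hηU
  -- the open `O = U.ι ''ᵁ (U.ι ⁻¹ᵁ W)`
  have hO : U.ι ''ᵁ (U.ι ⁻¹ᵁ W) ≤ W := Scheme.Hom.image_preimage_le _ _
  have hηO : η ∈ U.ι ''ᵁ (U.ι ⁻¹ᵁ W) := ⟨⟨η, hηU⟩, hηW, rfl⟩
  have h0 : ψ.app (U.ι ''ᵁ (U.ι ⁻¹ᵁ W)) = 0 := by
    rw [← restrictFunctor_map_app, h]
    rfl
  have hnat : F.presheaf.map (homOfLE hO).op (ψ.app W s) =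
      ψ.app (U.ι ''ᵁ (U.ι ⁻¹ᵁ W)) (A.presheaf.map (homOfLE hO).op s) := by
    have := ψ.mapPresheaf.naturality (homOfLE hO).op
    exact (congrArg (fun k => k s) this).symm
  have h1 : F.presheaf.germ (U.ι ''ᵁ (U.ι ⁻¹ᵁ W)) η hηO
      (F.presheaf.map (homOfLE hO).op (ψ.app W s)) = F.presheaf.germ W η hηW (ψ.app W s) :=
    TopCat.Presheaf.germ_res_apply F.presheaf (homOfLE hO) η hηO _
  rw [← h1, hnat, h0]
  simp

/-- Two torsion-free quotients of `E` on a reduced Noetherian scheme which are isomorphic as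
quotients over a dense open are isomorphic as quotients, compatibly. -/
theorem exists_iso_of_restrict_iso {X : Scheme.{u}} [IsNoetherian X] [IsReduced X]
    {E F₁ F₂ : X.Modules} [F₁.IsQuasicoherent] [F₂.IsQuasicoherent]
    (ht₁ : TorSh.IsTorsionFree F₁) (ht₂ : TorSh.IsTorsionFree F₂)
    (q₁ : E ⟶ F₁) (q₂ : E ⟶ F₂) [Epi q₁] [Epi q₂] (U : X.Opens) (hU : Dense (U : Set X))
    (φ : F₁.restrict U.ι ≅ F₂.restrict U.ι)
    (hφ : (Scheme.Modules.restrictFunctor U.ι).map q₁ ≫ φ.hom =
      (Scheme.Modules.restrictFunctor U.ι).map q₂) :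
    ∃ ψ : F₁ ≅ F₂, q₁ ≫ ψ.hom = q₂ ∧ (Scheme.Modules.restrictFunctor U.ι).map ψ.hom = φ.hom := by
  have hφ' : (Scheme.Modules.restrictFunctor U.ι).map q₂ ≫ φ.inv =
      (Scheme.Modules.restrictFunctor U.ι).map q₁ := by
    rw [← hφ, Category.assoc, Iso.hom_inv_id, Category.comp_id]
  have h12 : kernel.ι q₁ ≫ q₂ = 0 := by
    apply hom_eq_zero_of_restrict_eq_zero ht₂ U hU
    rw [Functor.map_comp, ← hφ, ← Category.assoc, ← Functor.map_comp, kernel.condition,
      Functor.map_zero, zero_comp]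
  have h21 : kernel.ι q₂ ≫ q₁ = 0 := by
    apply hom_eq_zero_of_restrict_eq_zero ht₁ U hU
    rw [Functor.map_comp, ← hφ', ← Category.assoc, ← Functor.map_comp, kernel.condition,
      Functor.map_zero, zero_comp]
  let ψ₁ : F₁ ⟶ F₂ := Abelian.epiDesc q₁ q₂ h12
  let ψ₂ : F₂ ⟶ F₁ := Abelian.epiDesc q₂ q₁ h21
  have e₁ : q₁ ≫ ψ₁ = q₂ := Abelian.comp_epiDesc q₁ q₂ h12
  have e₂ : q₂ ≫ ψ₂ = q₁ := Abelian.comp_epiDesc q₂ q₁ h21
  have h1 : ψ₁ ≫ ψ₂ = 𝟙 F₁ := by
    rw [← cancel_epi q₁, ← Category.assoc, e₁, e₂, Category.comp_id]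
  have h2 : ψ₂ ≫ ψ₁ = 𝟙 F₂ := by
    rw [← cancel_epi q₂, ← Category.assoc, e₂, e₁, Category.comp_id]
  refine ⟨⟨ψ₁, ψ₂, h1, h2⟩, e₁, ?_⟩
  have : Epi ((Scheme.Modules.restrictFunctor U.ι).map q₁) := inferInstance
  rw [← cancel_epi ((Scheme.Modules.restrictFunctor U.ι).map q₁), ← Functor.map_comp, hφ]
  exact congrArg _ e₁

end Groth.Agent.H94.TorsionFreeQuot
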