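import Mathlib
import Groth.Agent.H94.GlobalJac

/-!
# Smoothness along a section

For an `R`-algebra `A` with augmentation `ε : A → R`, `I = ker ε`, and an ideal `J ≤ I` with
`J ∩ I² = I J` and `I/(J + I²)` projective over `R`: the map `K ⊗_A J → K ⊗_A Ω[A/R]` is injective
for every `A/J`-algebra `K` in which `I` maps to zero.
-/

set_option autoImplicit false

universe u

namespace Groth.Agent.H94.UnitSection

open TensorProduct KaehlerDifferential

variable {R A : Type u} [CommRing R] [CommRing A] [Algebra R A] (ε : A →ₐ[R] R)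

theorem sub_mem (a : A) : a - algebraMap R A (ε a) ∈ RingHom.ker ε := by
  rw [RingHom.mem_ker, map_sub, AlgHom.commutes]
  simp

theorem mul_mem_sq {a b : A} (ha : a ∈ RingHom.ker ε) (hb : b ∈ RingHom.ker ε) :
    a * b ∈ RingHom.ker ε ^ 2 := by
  rw [pow_two]
  exact Ideal.mul_mem_mul ha hb

/-- the derivation `a ↦ [a - ε a]` with values in `I/I²` -/
noncomputable def δ : Derivation R A (RingHom.ker ε).Cotangent :=
  Derivation.mk'
    { toFun := fun a => (RingHom.ker ε).toCotangent ⟨a - algebraMap R A (ε a), sub_mem ε a⟩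
      map_add' := fun a b => by
        rw [← map_add]
        congr 1
        ext
        simp only [map_add, Submodule.coe_add]
        ring
      map_smul' := fun r a => by
        simp only [RingHom.id_apply]
        rw [← LinearMap.map_smul_of_tower]
        congr 1
        ext
        simp only [Submodule.coe_smul_of_tower, Algebra.smul_def, map_mul, AlgHom.commutes,
          Algebra.algebraMap_self_apply]
        ring }
    (fun a b => by
      show (RingHom.ker ε).toCotangent _ = a • (RingHom.ker ε).toCotangent _ +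
        b • (RingHom.ker ε).toCotangent _
      rw [← map_smul, ← map_smul, ← map_add, Ideal.toCotangent_eq]
      have h : (a * b - algebraMap R A (ε (a * b))) -
          (a * (b - algebraMap R A (ε b)) + b * (a - algebraMap R A (ε a))) =
          -((a - algebraMap R A (ε a)) * (b - algebraMap R A (ε b))) := by
        rw [map_mul, map_mul]
        ring
      simp only [Submodule.coe_add, Submodule.coe_smul, smul_eq_mul]
      rw [h]
      exact Ideal.neg_mem_iff _ |>.mpr (mul_mem_sq ε (sub_mem ε a) (sub_mem ε b)))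

theorem δ_apply (a : A) :
    δ ε a = (RingHom.ker ε).toCotangent ⟨a - algebraMap R A (ε a), sub_mem ε a⟩ := rfl

theorem δ_of_mem {a : A} (ha : a ∈ RingHom.ker ε) :
    δ ε a = (RingHom.ker ε).toCotangent ⟨a, ha⟩ := by
  rw [δ_apply]
  congr 1
  ext
  simp [RingHom.mem_ker.mp ha]

/-- scalars: `a` acts as `ε a` on modules killed by `I` -/
theorem smul_eq_of_killed {M : Type*} [AddCommGroup M] [Module A M] [Module R M]
    [IsScalarTower R A M] (hM : ∀ a ∈ RingHom.ker ε, ∀ m : M, a • m = 0) (a : A) (m : M) :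
    a • m = ε a • m := by
  have h := hM _ (sub_mem ε a) m
  rw [sub_smul, sub_eq_zero, algebraMap_smul] at h
  exact h

/-- an `R`-linear map between `A`-modules killed by `I` is `A`-linear -/
noncomputable def upgrade {M N : Type*} [AddCommGroup M] [AddCommGroup N] [Module A M] [Module A N]
    [Module R M] [Module R N] [IsScalarTower R A M] [IsScalarTower R A N]
    (hM : ∀ a ∈ RingHom.ker ε, ∀ m : M, a • m = 0)
    (hN : ∀ a ∈ RingHom.ker ε, ∀ n : N, a • n = 0) (f : M →ₗ[R] N) : M →ₗ[A] N where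
  toFun := f
  map_add' := f.map_add
  map_smul' a m := by
    simp only [RingHom.id_apply]
    rw [smul_eq_of_killed ε hM, smul_eq_of_killed ε hN, f.map_smul]

section Main

variable (J : Ideal A) (hJI : J ≤ RingHom.ker ε)

/-- `J' = ker (A → A/J)` (equal to `J`) -/
abbrev J' : Ideal A := RingHom.ker (algebraMap A (A ⧸ J))

theorem J'_eq : J' J = J := Ideal.mk_ker

include hJI in
theorem J'_le : J' J ≤ RingHom.ker ε := (J'_eq J).le.trans hJI

/-- `J → I/I²` -/
noncomputable def ι : J' J →ₗ[A] (RingHom.ker ε).Cotangent :=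
  (RingHom.ker ε).toCotangent ∘ₗ Submodule.inclusion (J'_le ε J hJI)

theorem ι_apply (j : J' J) :
    ι ε J hJI j = (RingHom.ker ε).toCotangent ⟨j, J'_le ε J hJI j.2⟩ := rfl

theorem smul_top_le_ker_ι :
    (RingHom.ker ε • ⊤ : Submodule A (J' J)) ≤ LinearMap.ker (ι ε J hJI) := by
  rw [Submodule.smul_le]
  intro a ha j _
  rw [LinearMap.mem_ker, map_smul, ι_apply, ← map_smul, Ideal.toCotangent_eq_zero]
  exact mul_mem_sq ε ha (J'_le ε J hJI j.2)

/-- `J/IJ → I/I²` -/
noncomputable def β : (J' J ⧸ (RingHom.ker ε • ⊤ : Submodule A (J' J))) →ₗ[A]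
    (RingHom.ker ε).Cotangent :=
  Submodule.liftQ _ (ι ε J hJI) (smul_top_le_ker_ι ε J hJI)

theorem β_mk (j : J' J) : β ε J hJI (Submodule.Quotient.mk j) = ι ε J hJI j := rfl

theorem β_injective (h2 : J ⊓ RingHom.ker ε ^ 2 = RingHom.ker ε * J) :
    Function.Injective (β ε J hJI) := by
  rw [← LinearMap.ker_eq_bot]
  apply Submodule.ker_liftQ_eq_bot
  intro j hj
  rw [LinearMap.mem_ker, ι_apply, Ideal.toCotangent_eq_zero] at hj
  rw [Submodule.mem_smul_top_iff]
  have hjJ : (j : A) ∈ J := (J'_eq J).le j.2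
  have h3 : (j : A) ∈ J ⊓ RingHom.ker ε ^ 2 := ⟨hjJ, hj⟩
  rw [h2] at h3
  have key : RingHom.ker ε * J ≤ RingHom.ker ε • J' J := by
    rw [Ideal.smul_eq_mul]
    exact Ideal.mul_mono_right (J'_eq J).ge
  exact key h3

/-- the quotient `I/(J + I²)` of the statement -/
abbrev Q : Type u :=
  ↥(RingHom.ker ε) ⧸ Submodule.comap (RingHom.ker ε).subtype (J ⊔ RingHom.ker ε ^ 2)

theorem smul_top_le_comap :
    (RingHom.ker ε • ⊤ : Submodule A (RingHom.ker ε)) ≤
      Submodule.comap (RingHom.ker ε).subtype (J ⊔ RingHom.ker ε ^ 2) := by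
  rw [Submodule.smul_le]
  intro a ha i _
  rw [Submodule.mem_comap]
  exact Ideal.mem_sup_right (mul_mem_sq ε ha i.2)

/-- `I/I² → I/(J + I²)` -/
noncomputable def π : (RingHom.ker ε).Cotangent →ₗ[A] Q ε J :=
  Submodule.liftQ _ (Submodule.mkQ _) (by
    rw [Submodule.ker_mkQ]
    exact smul_top_le_comap ε J)

theorem π_toCotangent (i : RingHom.ker ε) :
    π ε J ((RingHom.ker ε).toCotangent i) = Submodule.Quotient.mk i := rfl

theorem π_surjective : Function.Surjective (π ε J) := by
  intro x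
  obtain ⟨i, rfl⟩ := Submodule.Quotient.mk_surjective _ x
  exact ⟨(RingHom.ker ε).toCotangent i, rfl⟩

theorem exact_β_π : Function.Exact (β ε J hJI) (π ε J) := by
  intro c
  constructor
  · intro hc
    obtain ⟨i, rfl⟩ := Ideal.toCotangent_surjective _ c
    rw [π_toCotangent, Submodule.Quotient.mk_eq_zero, Submodule.mem_comap] at hc
    obtain ⟨j, hj, i₂, hi₂, hsum⟩ := Submodule.mem_sup.mp hc
    have hj' : j ∈ J' J := (J'_eq J).symm ▸ hj
    refine ⟨Submodule.Quotient.mk ⟨j, hj'⟩, ?_⟩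
    rw [β_mk, ι_apply, Ideal.toCotangent_eq]
    have : (j : A) - (i : A) = -i₂ := by
      have h : (i : A) = j + i₂ := hsum.symm
      rw [h]; ring
    show j - (i : A) ∈ _
    rw [this]
    exact (Ideal.neg_mem_iff _).mpr hi₂
  · rintro ⟨n, rfl⟩
    obtain ⟨j, rfl⟩ := Submodule.Quotient.mk_surjective _ n
    rw [β_mk, ι_apply, π_toCotangent, Submodule.Quotient.mk_eq_zero, Submodule.mem_comap]
    exact Ideal.mem_sup_left ((J'_eq J).le j.2)

theorem killed_cotangent (a : A) (ha : a ∈ RingHom.ker ε) (c : (RingHom.ker ε).Cotangent) :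
    a • c = 0 := by
  obtain ⟨i, rfl⟩ := Ideal.toCotangent_surjective _ c
  rw [← map_smul, Ideal.toCotangent_eq_zero]
  exact mul_mem_sq ε ha i.2

theorem killed_Q (a : A) (ha : a ∈ RingHom.ker ε) (x : Q ε J) : a • x = 0 := by
  obtain ⟨i, rfl⟩ := Submodule.Quotient.mk_surjective _ x
  rw [← Submodule.Quotient.mk_smul, Submodule.Quotient.mk_eq_zero, Submodule.mem_comap]
  exact Ideal.mem_sup_right (mul_mem_sq ε ha i.2)

/-- the retraction of `β` -/
theorem exists_retraction (h2 : J ⊓ RingHom.ker ε ^ 2 = RingHom.ker ε * J)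
    (h3 : Module.Projective R (Q ε J)) :
    ∃ r : (RingHom.ker ε).Cotangent →ₗ[A] (J' J ⧸ (RingHom.ker ε • ⊤ : Submodule A (J' J))),
      r ∘ₗ β ε J hJI = LinearMap.id := by
  obtain ⟨s, hs⟩ := Module.projective_lifting_property ((π ε J).restrictScalars R)
    (LinearMap.id : Q ε J →ₗ[R] Q ε J) (π_surjective ε J)
  let sA : Q ε J →ₗ[A] (RingHom.ker ε).Cotangent :=
    upgrade ε (killed_Q ε J) (killed_cotangent ε) s
  have hsA : π ε J ∘ₗ sA = LinearMap.id :=
    LinearMap.ext fun x => LinearMap.congr_fun hs x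
  have h := ((exact_β_π ε J hJI).split_tfae'.out 0 1 rfl rfl).mp ⟨β_injective ε J hJI h2, sA, hsA⟩
  exact h.2

variable (K : Type*) [CommRing K] [Algebra (A ⧸ J) K] [Algebra A K] [IsScalarTower A (A ⧸ J) K]
  [Algebra R K] [IsScalarTower R A K]

/-- `J/IJ → K ⊗ J` -/
noncomputable def γ (hK : ∀ a ∈ RingHom.ker ε, algebraMap A K a = 0) :
    (J' J ⧸ (RingHom.ker ε • ⊤ : Submodule A (J' J))) →ₗ[A] K ⊗[A] J' J :=
  Submodule.liftQ _ (TensorProduct.mk A K (J' J) 1) (by
    rw [Submodule.smul_le]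
    intro a ha j _
    rw [LinearMap.mem_ker, TensorProduct.mk_apply, ← TensorProduct.smul_tmul, Algebra.smul_def, hK a ha,
      zero_mul, TensorProduct.zero_tmul])

include hJI in
theorem injective_cotangentComplexBaseChange
    (h2 : J ⊓ RingHom.ker ε ^ 2 = RingHom.ker ε * J)
    (h3 : Module.Projective R (Q ε J))
    (hK : ∀ a ∈ RingHom.ker ε, algebraMap A K a = 0) :
    Function.Injective (cotangentComplexBaseChange R (A ⧸ J) A K) := by
  obtain ⟨r, hr⟩ := exists_retraction ε J hJI h2 h3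
  let ψ : Ω[A⁄R] →ₗ[A] K ⊗[A] J' J :=
    ((γ ε J K hK ∘ₗ r).compDer (δ ε)).liftKaehlerDifferential
  let Ψ : K ⊗[A] Ω[A⁄R] →ₗ[K] K ⊗[A] J' J := ψ.liftBaseChange K
  have hΨ : Ψ ∘ₗ cotangentComplexBaseChange R (A ⧸ J) A K = LinearMap.id := by
    apply TensorProduct.AlgebraTensorModule.ext
    intro x j
    simp only [LinearMap.coe_comp, Function.comp_apply, cotangentComplexBaseChange_tmul,
      kerToTensor_apply, map_smul, LinearMap.id_coe, id_eq]
    show x • Ψ (1 ⊗ₜ D R A j) = _
    rw [LinearMap.liftBaseChange_tmul, one_smul]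
    show x • ((γ ε J K hK ∘ₗ r).compDer (δ ε)).liftKaehlerDifferential (D R A j) = _
    rw [Derivation.liftKaehlerDifferential_comp_D]
    show x • γ ε J K hK (r (δ ε j)) = _
    rw [δ_of_mem ε (J'_le ε J hJI j.2)]
    have h1 : (RingHom.ker ε).toCotangent ⟨j, J'_le ε J hJI j.2⟩ =
        β ε J hJI (Submodule.Quotient.mk j) := rfl
    rw [h1]
    have h2' : r (β ε J hJI (Submodule.Quotient.mk j)) = Submodule.Quotient.mk j :=
      LinearMap.congr_fun hr _
    rw [h2']
    show x • ((1 : K) ⊗ₜ[A] j) = _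
    rw [TensorProduct.smul_tmul', smul_eq_mul, mul_one]
  exact Function.LeftInverse.injective (g := Ψ) (fun z => LinearMap.congr_fun hΨ z)

end Main

end Groth.Agent.H94.UnitSection
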