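import Mathlib
import Groth.Prelude.Def_W4c1liftfrobW2
import Groth.Agent.H94.WittGhost
import Groth.Agent.H65.W2Lift

/-!
# The ghost map `W₂(A) → B` for a flat lifting `B` of `A` over `W₂(k)`

* `g1 : W₂(B) →+* B`, `(b₀, b₁) ↦ b₀^p + p b₁`
* `wbar : W₂(A) →+* B` for a lifting `(B, ι, π)`: `(π b₀, π b₁) ↦ b₀^p + p b₁`
* `psi = (res, wbar) : W₂(A) →+* A × B` is injective with image `{(a, b) | π b = a^p}`.
* `wbar_truncMap_algebraMap : wbar (W₂(k → A) x) = ι (σ x)`.
-/

set_option autoImplicit false
universe u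

namespace Groth.Agent.H94.W2G

open Groth.Agent.H65.W2B

variable (p : ℕ) [Fact p.Prime]

section ghost

variable (B : Type u) [CommRing B]

theorem ghost_one (X : WittVector p B) :
    WittVector.ghostComponent 1 X = X.coeff 0 ^ p + (p : B) * X.coeff 1 := by
  rw [Groth.Agent.H94.ghostComponent_eq_sum]
  simp [Finset.sum_range_succ]

/-- The first ghost component on `W₂(B)`. -/
noncomputable def g1 : FrobAlg.W2 p B →+* B :=
  RingHom.liftOfSurjective (WittVector.truncate 2) (WittVector.truncate_surjective p 2 B)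
    ⟨WittVector.ghostComponent 1, fun x hx => by
      rw [RingHom.mem_ker] at hx ⊢
      have h0 := (WittVector.mem_ker_truncate 2 x).1 (RingHom.mem_ker.2 hx) 0 (by omega)
      have h1 := (WittVector.mem_ker_truncate 2 x).1 (RingHom.mem_ker.2 hx) 1 (by omega)
      rw [ghost_one, h0, h1, zero_pow (Fact.out : p.Prime).ne_zero, mul_zero, add_zero]⟩

theorem g1_truncate (X : WittVector p B) :
    g1 p B (WittVector.truncate 2 X) = X.coeff 0 ^ p + (p : B) * X.coeff 1 := by
  rw [← ghost_one]
  exact RingHom.liftOfRightInverse_comp_apply _ _ _ _ X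

theorem g1_apply (x : FrobAlg.W2 p B) : g1 p B x = x.coeff 0 ^ p + (p : B) * x.coeff 1 := by
  obtain ⟨X, rfl⟩ := WittVector.truncate_surjective p 2 B x
  rw [g1_truncate, WittVector.coeff_truncate, WittVector.coeff_truncate]
  rfl

end ghost

section lift

variable {p} {k : Type u} [Field k] [CharP k p] [PerfectRing k p]
  {A : Type u} [CommRing A] [Algebra k A] {B : Type u} [CommRing B]
  {ι : FrobAlg.W2 p k →+* B} {π : B →+* A}

omit [Fact p.Prime] in
theorem truncMap_surjective' [Fact p.Prime] {A B : Type u} [CommRing A] [CommRing B] {π : B →+* A}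
    (hπ : Function.Surjective π) :
    Function.Surjective (WittGrp.truncMap p 2 π) := by
  intro x
  choose f hf using hπ
  refine ⟨TruncatedWittVector.mk p (fun i => f (x.coeff i)), ?_⟩
  ext i
  rw [WittGrp.coeff_truncMap, TruncatedWittVector.coeff_mk, hf]

theorem pow_p_eq_zero_of_ker (h : FrobAlg.IsLift p k A B ι π) (y : B) (hy : π y = 0) :
    y ^ p = 0 := by
  obtain ⟨c, rfl⟩ := (IsLift.mem_ker_iff h y).1 hy
  have hp2 : 2 ≤ p := (Fact.out : p.Prime).two_le
  obtain ⟨m, rfl⟩ := Nat.exists_eq_add_of_le hp2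
  rw [mul_pow, pow_add, pow_two, p_mul_p_of_ringHom ι, zero_mul, zero_mul]

theorem coeff_eq_zero_of_mem_ker {A B : Type u} [CommRing A] [CommRing B] {π : B →+* A}
    (y : FrobAlg.W2 p B) (hy : WittGrp.truncMap p 2 π y = 0) (i : Fin 2) : π (y.coeff i) = 0 := by
  have := congrArg (fun z => TruncatedWittVector.coeff i z) hy
  simpa [WittGrp.coeff_truncMap] using this

/-- The ghost map `W₂(A) → B`, `(π b₀, π b₁) ↦ b₀^p + p b₁`. -/
noncomputable def wbar (h : FrobAlg.IsLift p k A B ι π) : FrobAlg.W2 p A →+* B :=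
  RingHom.liftOfSurjective (WittGrp.truncMap p 2 π) (truncMap_surjective' h.surj)
    ⟨g1 p B, fun y hy => by
      rw [RingHom.mem_ker] at hy ⊢
      rw [g1_apply, pow_p_eq_zero_of_ker h _ (coeff_eq_zero_of_mem_ker y hy 0),
        (IsLift.p_mul_eq_zero_iff h _).2 (coeff_eq_zero_of_mem_ker y hy 1), add_zero]⟩

theorem wbar_truncMap (h : FrobAlg.IsLift p k A B ι π) (y : FrobAlg.W2 p B) :
    wbar h (WittGrp.truncMap p 2 π y) = y.coeff 0 ^ p + (p : B) * y.coeff 1 := by
  rw [← g1_apply]
  exact RingHom.liftOfRightInverse_comp_apply _ _ _ _ y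

omit [PerfectRing k p] in
theorem pi_natCast (_h : FrobAlg.IsLift p k A B ι π) : π (p : B) = 0 := by
  rw [map_natCast]
  exact natCast_eq_zero_of_algebra p k A

theorem pi_wbar (h : FrobAlg.IsLift p k A B ι π) (x : FrobAlg.W2 p A) :
    π (wbar h x) = (FrobAlg.res p A x) ^ p := by
  obtain ⟨y, rfl⟩ := truncMap_surjective' (p := p) h.surj x
  rw [wbar_truncMap, map_add, map_mul, pi_natCast h, zero_mul, add_zero, map_pow,
    FrobAlg.res_apply, WittGrp.coeff_truncMap]

/-- `(res, wbar) : W₂(A) → A × B`. -/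
noncomputable def psi (h : FrobAlg.IsLift p k A B ι π) : FrobAlg.W2 p A →+* A × B :=
  (FrobAlg.res p A).prod (wbar h)

theorem psi_injective (h : FrobAlg.IsLift p k A B ι π) : Function.Injective (psi h) := by
  rw [injective_iff_map_eq_zero]
  intro x hx
  have h0 : FrobAlg.res p A x = 0 := congrArg Prod.fst hx
  have h1 : wbar h x = 0 := congrArg Prod.snd hx
  obtain ⟨y, rfl⟩ := truncMap_surjective' (p := p) h.surj x
  rw [FrobAlg.res_apply, WittGrp.coeff_truncMap] at h0
  rw [wbar_truncMap, pow_p_eq_zero_of_ker h _ h0, zero_add, IsLift.p_mul_eq_zero_iff h] at h1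
  ext i
  rw [WittGrp.coeff_truncMap, TruncatedWittVector.coeff_zero]
  fin_cases i
  · exact h0
  · exact h1

theorem exists_psi_eq (h : FrobAlg.IsLift p k A B ι π) (a : A) (b : B) (hab : π b = a ^ p) :
    ∃ x, psi h x = (a, b) := by
  obtain ⟨a', rfl⟩ := h.surj a
  have h1 : π (b - a' ^ p) = 0 := by rw [map_sub, hab, map_pow, sub_self]
  obtain ⟨c, hc⟩ := (IsLift.mem_ker_iff h _).1 h1
  refine ⟨WittGrp.truncMap p 2 π (TruncatedWittVector.mk p ![a', c]), ?_⟩
  rw [psi, RingHom.prod_apply, wbar_truncMap, FrobAlg.res_apply, WittGrp.coeff_truncMap,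
    TruncatedWittVector.coeff_mk, TruncatedWittVector.coeff_mk]
  simp only [Matrix.cons_val_zero, Matrix.cons_val_one]
  rw [← hc]
  congr 1
  ring

/-- The Teichmüller representative in `W₂(k)`. -/
noncomputable def tch (k : Type u) [CommRing k] (a : k) : FrobAlg.W2 p k :=
  WittVector.truncate 2 (WittVector.teichmuller p a)

omit [PerfectRing k p] in
theorem sigma_eq (x : FrobAlg.W2 p k) :
    FrobAlg.sigma p k x = (tch k (x.coeff 0)) ^ p + (p : FrobAlg.W2 p k) * tch k (x.coeff 1) := by
  obtain ⟨X, rfl⟩ := WittVector.truncate_surjective p 2 k x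
  have e0 : (WittVector.truncate 2 X).coeff 0 = X.coeff 0 := WittVector.coeff_truncate X 0
  have e1 : (WittVector.truncate 2 X).coeff 1 = X.coeff 1 := WittVector.coeff_truncate X 1
  rw [e0, e1]
  rw [FrobAlg.sigma, WittGrp.frob_truncate, tch, tch, ← map_pow, ← map_natCast (WittVector.truncate 2),
    ← map_mul, ← map_add]
  have hdisj : ∀ n, ((WittVector.teichmuller p (X.coeff 0)) ^ p).coeff n = 0 ∨
      ((p : WittVector p k) * WittVector.teichmuller p (X.coeff 1)).coeff n = 0 := by
    intro n
    rcases Nat.eq_zero_or_pos n with rfl | hn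
    · right
      rw [mul_comm]
      have := WittVector.teichmuller_mul_pow_coeff_of_ne (p := p) (X.coeff 1) (m := 0) (n := 1)
        (by omega)
      simpa using this
    · left
      rw [← map_pow]
      exact WittVector.teichmuller_coeff_pos p _ n hn
  ext i
  rw [WittVector.coeff_truncate, WittVector.coeff_truncate, WittVector.coeff_frobenius_charP,
    WittVector.coeff_add_of_disjoint _ _ _ hdisj]
  fin_cases i
  · have h1 : ((p : WittVector p k) * WittVector.teichmuller p (X.coeff 1)).coeff 0 = 0 := by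
      rw [mul_comm]
      have := WittVector.teichmuller_mul_pow_coeff_of_ne (p := p) (X.coeff 1) (m := 0) (n := 1)
        (by omega)
      simpa using this
    simp only [Fin.zero_eta, Fin.val_zero]
    rw [h1, add_zero, ← map_pow, WittVector.teichmuller_coeff_zero]
  · have h1 : ((p : WittVector p k) * WittVector.teichmuller p (X.coeff 1)).coeff 1 =
        X.coeff 1 ^ p := by
      rw [mul_comm]
      have := WittVector.teichmuller_mul_pow_coeff (p := p) 1 (X.coeff 1)
      simpa using this
    simp only [Fin.mk_one, Fin.val_one]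
    rw [h1, ← map_pow, WittVector.teichmuller_coeff_pos p _ 1 Nat.one_pos, zero_add]

omit [PerfectRing k p] [CharP k p] in
theorem res_tch (a : k) : FrobAlg.res p k (tch k a) = a := by
  rw [tch, FrobAlg.res_truncate, WittVector.teichmuller_coeff_zero]

/-- Key compatibility: `wbar` on the image of `W₂(k)` is `ι ∘ σ`. -/
theorem wbar_truncMap_algebraMap (h : FrobAlg.IsLift p k A B ι π) (x : FrobAlg.W2 p k) :
    wbar h (WittGrp.truncMap p 2 (algebraMap k A) x) = ι (FrobAlg.sigma p k x) := by
  have hy : WittGrp.truncMap p 2 (algebraMap k A) x =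
      WittGrp.truncMap p 2 π
        (TruncatedWittVector.mk p ![ι (tch k (x.coeff 0)), ι (tch k (x.coeff 1))]) := by
    have hc : ∀ a : k, π (ι (tch k a)) = algebraMap k A a := by
      intro a
      have := congrArg (fun f => f (tch k a)) h.comm
      simp only [RingHom.comp_apply] at this
      rw [this, res_tch]
    ext i
    rw [WittGrp.coeff_truncMap, WittGrp.coeff_truncMap, TruncatedWittVector.coeff_mk]
    fin_cases i
    · simp only [Fin.zero_eta, Matrix.cons_val_zero]
      rw [hc]
    · show _ = π (ι (tch k (x.coeff 1)))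
      rw [hc]
      rfl
  rw [hy, wbar_truncMap, TruncatedWittVector.coeff_mk, TruncatedWittVector.coeff_mk, sigma_eq,
    map_add, map_pow, map_mul, map_natCast]
  simp only [Matrix.cons_val_zero, Matrix.cons_val_one]

end lift

end Groth.Agent.H94.W2G
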