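import Mathlib
import Groth.Agent.H94.KoszulLocusSp
import Groth.Agent.H1.FlatWhere

/-!
# The open subspace of the base over which a morphism of algebraic spaces is lci (helper94)

Adapted from helper1's `H1/FlatWhere` (flat case), with the Koszul locus in place of the flat locus.
-/

set_option autoImplicit false
set_option linter.unusedSectionVars false
set_option linter.style.haveILetI false
universe u

namespace Groth.Agent.H94.WhereLci

open AlgebraicGeometry CategoryTheory CategoryTheory.Limits Opposite AlgSp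
  Groth.Agent.H49.FlatApprox Groth.Agent.H94.KoszulLocusSp

variable {S : Scheme.{u}}

/-- the Koszul locus of a morphism of algebraic spaces is open. -/
theorem isOpen_locPNear_lci {X Y : AlgSp.Space S} (f : X ⟶ Y) :
    IsOpen {x : AlgSp.Points X.obj | AlgSp.LocPNear AlgSp.lci f.hom x} := by
  obtain ⟨V, b, hbE, hbS⟩ := Y.property.atlas
  obtain ⟨U, a, h₀, haE, haS, eah⟩ :=
    Groth.Agent.H1.BCChartsOver.exists_chart_over X.property Y.property f.hom b hbE hbS
  have hset : {x : AlgSp.Points X.obj | AlgSp.LocPNear AlgSp.lci f.hom x} =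
      Points.ofPt a '' {u | Synt.IsKoszulAt h₀.left u} := by
    ext x
    constructor
    · intro hx
      obtain ⟨u, rfl⟩ := Groth.Agent.H53.exists_ofPt_eq_of_repWith_surjective a haS x
      exact ⟨u, (locPNear_lci_iff_chart X.property f.hom a b h₀ haE hbE eah u).mp hx, rfl⟩
    · rintro ⟨u, hu, rfl⟩
      exact (locPNear_lci_iff_chart X.property f.hom a b h₀ haE hbE eah u).mpr hu
  rw [hset]
  exact Groth.Agent.H51.isOpenMap_ofPt_of_etale a haE _ (isOpen_koszulLocus h₀.left)

/-- `LocP lci` is the same as being lci near every point. -/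
theorem locP_lci_iff_forall_locPNear {X Y : AlgSp.Space S} (f : X ⟶ Y) :
    LocP AlgSp.lci f.hom ↔ ∀ x : Points X.obj, LocPNear AlgSp.lci f.hom x := by
  constructor
  · intro hP x
    obtain ⟨V, b, hbE, hbS⟩ := Y.property.atlas
    obtain ⟨U, a, h₀, haE, haS, eah⟩ :=
      Groth.Agent.H1.BCChartsOver.exists_chart_over X.property Y.property f.hom b hbE hbS
    obtain ⟨u, rfl⟩ := Groth.Agent.H53.exists_ofPt_eq_of_repWith_surjective a haS x
    exact (locPNear_lci_iff_chart X.property f.hom a b h₀ haE hbE eah u).mpr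
      (hP a b h₀ haE hbE eah u)
  · intro Hall U V a b h ha hb e u
    exact (locPNear_lci_iff_chart X.property f.hom a b h ha hb e u).mp (Hall (Points.ofPt a u))

/-- **S10645**: the open subspace `W` of `Z` over which `f : X ⟶ Y` (over `Z`) is lci. -/
theorem exists_open_where_lci (H : Hyp4848.{u}) {X Y Z : AlgSp.Space S} (f : X ⟶ Y) (q : Y ⟶ Z)
    (hp1 : AlgSp.LocP @Flat (f ≫ q).hom)
    (hp2 : AlgSp.LocP @LocallyOfFinitePresentation (f ≫ q).hom)
    (hq1 : AlgSp.LocP @Flat q.hom) (hq2 : AlgSp.LocP @LocallyOfFinitePresentation q.hom)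
    (hcl : IsClosedMap (Points.map (f ≫ q).hom)) :
    ∃ (W : AlgSp.Space S) (w : W ⟶ Z), RepWith @IsOpenImmersion w.hom ∧
      ∀ (Z' : AlgSp.Space S) (g : Z' ⟶ Z),
        (∃ k : Z' ⟶ W, k ≫ w = g) ↔
          ∀ (Y' : AlgSp.Space S) (gY : Y' ⟶ Y) (q' : Y' ⟶ Z'),
            IsPullback gY.hom q'.hom q.hom g.hom →
            ∀ (X' : AlgSp.Space S) (gX : X' ⟶ X) (f' : X' ⟶ Y'),
              IsPullback gX.hom f'.hom f.hom gY.hom →
                AlgSp.IsLCIMor f'.hom := by
  have hfq : (f ≫ q).hom = f.hom ≫ q.hom := rfl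
  have hO : IsOpen (Points.map (f ≫ q).hom ''
      {x : Points X.obj | LocPNear AlgSp.lci f.hom x}ᶜ)ᶜ :=
    (hcl _ (isOpen_locPNear_lci f).isClosed_compl).isOpen_compl
  obtain ⟨W, w, hW, hw, hr⟩ := Groth.Agent.H51.exists_open_subspace Z.property _ hO
  refine ⟨⟨W, hW⟩, ObjectProperty.homMk w, hw, fun Z' g => ?_⟩
  constructor
  · rintro ⟨k, rfl⟩ Y' gY q' sqY X' gX f' sqX
    show LocP AlgSp.lci f'.hom
    rw [locP_lci_iff_forall_locPNear]
    intro x'
    have hbc := locPNear_lci_baseChange H f (f ≫ q) q rfl hp1 hp2 hq1 hq2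
      (k ≫ ObjectProperty.homMk w) gY q' sqY gX f' sqX
    have hx' : x' ∈ {x' : Points X'.obj | LocPNear AlgSp.lci f'.hom x'} := by
      rw [hbc]
      change LocPNear AlgSp.lci f.hom (Points.map gX.hom x')
      by_contra hcon
      have hmem : Points.map (f ≫ q).hom (Points.map gX.hom x') ∈ Set.range (Points.map w) := by
        have e : gX.hom ≫ (f ≫ q).hom = (f'.hom ≫ q'.hom ≫ k.hom) ≫ w := by
          rw [hfq, ← Category.assoc, sqX.w, Category.assoc, sqY.w, Category.assoc, Category.assoc]
          rfl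
        rw [← Points.map_comp, e, Points.map_comp]
        exact ⟨_, rfl⟩
      rw [hr] at hmem
      exact hmem ⟨_, hcon, rfl⟩
    exact hx'
  · intro Hall
    obtain ⟨k₀, hk₀⟩ := (Groth.Agent.H51.exists_factor_iff_of_isOpenImmersion' w hw g.hom).2 (by
      rw [hr]
      rintro _ ⟨z', rfl⟩
      rintro ⟨t, ht, hpt⟩
      have sqY := IsPullback.of_hasPullback q.hom g.hom
      have hY' : IsAlgSpace (pullback q.hom g.hom) :=
        Groth.Agent.H49.isAlgSpace_of_isPullback sqY Z.property.diag Y.property Z'.property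
      have sqX := IsPullback.of_hasPullback f.hom (pullback.fst q.hom g.hom)
      have hX' : IsAlgSpace (pullback f.hom (pullback.fst q.hom g.hom)) :=
        Groth.Agent.H49.isAlgSpace_of_isPullback sqX Y.property.diag X.property hY'
      have hP := Hall ⟨_, hY'⟩ (ObjectProperty.homMk (pullback.fst q.hom g.hom))
        (ObjectProperty.homMk (pullback.snd q.hom g.hom)) sqY ⟨_, hX'⟩
        (ObjectProperty.homMk (pullback.fst f.hom (pullback.fst q.hom g.hom)))
        (ObjectProperty.homMk (pullback.snd f.hom (pullback.fst q.hom g.hom))) sqX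
      have hP' : ∀ x', LocPNear AlgSp.lci (pullback.snd f.hom (pullback.fst q.hom g.hom)) x' :=
        (locP_lci_iff_forall_locPNear (X := ⟨_, hX'⟩) (Y := ⟨_, hY'⟩)
          (ObjectProperty.homMk (pullback.snd f.hom (pullback.fst q.hom g.hom)))).mp hP
      have hbc := locPNear_lci_baseChange H f (f ≫ q) q rfl hp1 hp2 hq1 hq2 (Z' := Z')
        (Y' := ⟨_, hY'⟩) (X' := ⟨_, hX'⟩) g
        (ObjectProperty.homMk (pullback.fst q.hom g.hom))
        (ObjectProperty.homMk (pullback.snd q.hom g.hom)) sqY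
        (ObjectProperty.homMk (pullback.fst f.hom (pullback.fst q.hom g.hom)))
        (ObjectProperty.homMk (pullback.snd f.hom (pullback.fst q.hom g.hom))) sqX
      have big := sqX.paste_vert sqY
      obtain ⟨x', hx't, -⟩ := Groth.Agent.H53.exists_point_of_isPullback big t z' hpt
      have h1 := (Set.ext_iff.mp hbc x').mp (hP' x')
      change LocPNear AlgSp.lci f.hom
        (Points.map (pullback.fst f.hom (pullback.fst q.hom g.hom)) x') at h1
      rw [hx't] at h1
      exact ht h1)
    exact ⟨ObjectProperty.homMk k₀, ObjectProperty.hom_ext _ hk₀⟩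

end Groth.Agent.H94.WhereLci
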