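import Groth.Agent.H94.WittGhost
import Mathlib.RingTheory.WittVector.Identities
import Mathlib.Algebra.CharP.Basic
import Mathlib.Tactic.Ring
import Mathlib.Tactic.Linarith

set_option autoImplicit false
universe u

namespace Groth.Agent.H94

open Finset

/-- In characteristic `p` with surjective Frobenius, a truncated Witt vector with vanishing zeroth
coefficient is a multiple of `p`. -/
theorem mem_span_p_of_coeff_zero (p : ℕ) [Fact p.Prime] (n : ℕ) (hn : 0 < n) {A : Type u} [CommRing A]
    [CharP A p] (hF : Function.Surjective (fun y : A => y ^ p)) (b : TruncatedWittVector p n A)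
    (hb : b.coeff ⟨0, hn⟩ = 0) : b ∈ Ideal.span {(p : TruncatedWittVector p n A)} := by
  choose r hr using hF
  set bt : WittVector p A := b.out with hbt
  set ct : WittVector p A := WittVector.mk p (fun i => r (bt.coeff (i + 1))) with hct
  have h : bt = ct * p := by
    ext i
    cases i with
    | zero =>
      rw [WittVector.mul_charP_coeff_zero]
      have := TruncatedWittVector.coeff_out b ⟨0, hn⟩
      rw [hbt]
      simpa [hb] using this
    | succ i =>
      rw [WittVector.mul_charP_coeff_succ, hct, WittVector.coeff_mk]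
      exact (hr _).symm
  rw [Ideal.mem_span_singleton']
  refine ⟨WittVector.truncate n ct, ?_⟩
  have h2 : b = WittVector.truncate n bt := (TruncatedWittVector.truncateFun_out b).symm
  rw [h2, h, map_mul, map_natCast]

/-- The quotient of a nontrivial ring in which `p` is nilpotent by `(p)` has characteristic `p`. -/
theorem charP_quot (p : ℕ) [Fact p.Prime] {B : Type u} [CommRing B] [Nontrivial B] (n : ℕ)
    (hp : (p : B) ^ n = 0) : CharP (B ⧸ Ideal.span {(p : B)}) p := by
  have hne : Ideal.span {(p : B)} ≠ ⊤ := by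
    intro h
    rw [Ideal.span_singleton_eq_top] at h
    have := h.pow n
    rw [hp] at this
    exact not_isUnit_zero this
  have : Nontrivial (B ⧸ Ideal.span {(p : B)}) := Ideal.Quotient.nontrivial_iff.mpr hne
  rw [CharP.charP_iff_prime_eq_zero (Fact.out : p.Prime)]
  rw [← map_natCast (Ideal.Quotient.mk (Ideal.span {(p : B)}))]
  exact Ideal.Quotient.eq_zero_iff_mem.mpr (Ideal.mem_span_singleton_self _)

/-- Iterated surjectivity of the `p`-th power map. -/
theorem pow_pow_surjective (p : ℕ) {A : Type u} [CommRing A]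
    (hF : Function.Surjective (fun y : A => y ^ p)) (j : ℕ) :
    Function.Surjective (fun y : A => y ^ (p ^ j)) := by
  induction j with
  | zero => intro a; exact ⟨a, by simp⟩
  | succ j ih =>
    intro a
    obtain ⟨b, hb⟩ := ih a
    obtain ⟨c, hc⟩ := hF b
    refine ⟨c, ?_⟩
    simp only at hb hc ⊢
    rw [pow_succ', pow_mul, hc, hb]

/-- Correcting the components one at a time. -/
theorem exists_tail (p : ℕ) {B : Type u} [CommRing B] (n : ℕ) (hp : (p : B) ^ n = 0)
    (hF : Function.Surjective (fun y : B ⧸ (Ideal.span {(p : B)}) => y ^ p)) :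
    ∀ (m k : ℕ), k + m = n → ∀ β : B, ∃ f : ℕ → B,
      ∑ i ∈ Finset.Ico k n, (p : B) ^ i * (f i) ^ (p ^ (n - i)) = (p : B) ^ k * β := by
  intro m
  induction m with
  | zero =>
    intro k hk β
    have : k = n := by omega
    subst this
    exact ⟨fun _ => 0, by simp [hp]⟩
  | succ m ih =>
    intro k hk β
    obtain ⟨ybar, hy⟩ := pow_pow_surjective p hF (n - k) (Ideal.Quotient.mk _ β)
    obtain ⟨y, rfl⟩ := Ideal.Quotient.mk_surjective ybar
    simp only at hy
    rw [← map_pow, Ideal.Quotient.eq, Ideal.mem_span_singleton'] at hy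
    obtain ⟨β', hβ'⟩ := hy
    obtain ⟨f', hf'⟩ := ih (k + 1) (by omega) (-β')
    refine ⟨Function.update f' k y, ?_⟩
    rw [Finset.sum_eq_sum_Ico_succ_bot (by omega : k < n), Function.update_self]
    have hcongr : ∑ i ∈ Finset.Ico (k + 1) n, (p : B) ^ i * (Function.update f' k y i) ^ (p ^ (n - i)) =
        ∑ i ∈ Finset.Ico (k + 1) n, (p : B) ^ i * (f' i) ^ (p ^ (n - i)) := by
      refine Finset.sum_congr rfl fun i hi => ?_
      rw [Finset.mem_Ico] at hi
      rw [Function.update_of_ne (by omega)]
    rw [hcongr, hf']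
    have : y ^ p ^ (n - k) = β + β' * p := by rw [hβ']; ring
    rw [this]
    ring

end Groth.Agent.H94
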